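import Groth.Agent.PnDualLib.Ext
import Groth.Agent.HomCohLib.FullyFaithful
import Groth.Agent.HomCohLib.Adj
import Groth.Agent.Formal2VBLib.Hom
import Groth.Agent.InjModLib.Noeth
import Groth.Agent.KFlatLib.StalkTensor
import Groth.Agent.KFlatLib.PerfectPull
import Groth.Agent.CohCmpLib.HomLift
import Groth.Agent.MiscFlat6.FreeStalks

/-!
# `Extⁱ(F, W) = Hⁱ(Hom(F, W))` for finite locally free `F`
-/

set_option autoImplicit false
set_option linter.unusedSectionVars false
set_option linter.style.haveILetI false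
set_option backward.isDefEq.respectTransparency false
set_option backward.isDefEq.respectTransparency.types false
universe u v w

open CategoryTheory CategoryTheory.Limits AlgebraicGeometry TopologicalSpace Opposite
open CohCmpLib (homMod curryMod evMod evS)
open scoped MonoidalCategory

noncomputable section

namespace PnDualLib

open Abelian

section Abs

variable {C : Type u} [Category.{v} C] [Abelian C] [HasExt.{w} C]
  {R : Type*} [CommRing R] [Linear R C] {S : ShortComplex C} (hS : S.ShortExact) {A : C}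

/-- The connecting map in the second variable. -/
def coDel {a b : ℕ} (h : a + 1 = b) : Ext A S.X₃ a →ₗ[R] Ext A S.X₁ b :=
  Ext.postcompOfLinear hS.extClass R A h

theorem coDel_surjective [Injective S.X₂] {a b : ℕ} (h : a + 1 = b) :
    Function.Surjective (coDel (R := R) hS (A := A) h) := fun x => by
  subst h
  exact Ext.covariant_sequence_exact₁ A hS x (Ext.eq_zero_of_injective _) rfl

theorem coDel_injective [Injective S.X₂] {a b : ℕ} (h : a + 1 + 1 = b) :
    Function.Injective (coDel (R := R) hS (A := A) h) := by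
  refine LinearMap.ker_eq_bot.1 (LinearMap.ker_eq_bot'.2 fun x hx => ?_)
  obtain ⟨y, rfl⟩ := Ext.covariant_sequence_exact₃ A hS x h hx
  rw [Ext.eq_zero_of_injective y, Ext.zero_comp]

/-- `Hom(A, X₃) → Ext¹(A, X₁)`. -/
def coDel₀ : (A ⟶ S.X₃) →ₗ[R] Ext A S.X₁ 1 :=
  (coDel (R := R) hS (rfl : 0 + 1 = 1)).comp (Ext.linearEquiv₀ (R := R)).symm.toLinearMap

theorem coDel₀_surjective [Injective S.X₂] : Function.Surjective (coDel₀ (R := R) hS (A := A)) :=
  (coDel_surjective (R := R) hS (rfl : 0 + 1 = 1)).comp (Ext.linearEquiv₀ (R := R)).symm.surjective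

theorem coDel₀_eq_zero_iff (φ : A ⟶ S.X₃) :
    coDel₀ (R := R) hS φ = 0 ↔ ∃ ψ : A ⟶ S.X₂, ψ ≫ S.g = φ := by
  constructor
  · intro h
    obtain ⟨y, hy⟩ := Ext.covariant_sequence_exact₃ A hS (Ext.mk₀ φ) (rfl : 0 + 1 = 1) h
    obtain ⟨ψ, rfl⟩ := Ext.homEquiv₀.symm.surjective y
    exact ⟨ψ, Ext.homEquiv₀.symm.injective ((Ext.mk₀_comp_mk₀ ψ S.g).symm.trans hy)⟩
  · rintro ⟨ψ, rfl⟩
    show (Ext.mk₀ (ψ ≫ S.g)).comp hS.extClass (rfl : 0 + 1 = 1) = 0
    rw [← Ext.mk₀_comp_mk₀, Ext.comp_assoc_of_second_deg_zero, hS.comp_extClass, Ext.comp_zero]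

end Abs

variable {X : Scheme.{u}} (F : X.Modules)

/-- The right adjoint of an adjunction. -/
abbrev rightOf {C : Type u} [Category.{v} C] {D : Type w} [Category D] {L : C ⥤ D} {R : D ⥤ C} (_ : L ⊣ R) :
    D ⥤ C := R

/-- `Hom(F, -)` on modules. -/
abbrev homFun : X.Modules ⥤ X.Modules := rightOf (HomCohLib.homAdj F)

theorem homFun_map {W W' : X.Modules} (φ : W ⟶ W') :
    (homFun F).map φ = HomCohLib.mapR F φ := by
  show curryMod ((((DCoh.tensorBi (X := X)).obj F).map (𝟙 (homMod F W)) ≫ evMod F W) ≫ φ) = _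
  rw [CategoryTheory.Functor.map_id, Category.id_comp]
  rfl

variable {F} (hF : FlatMod.IsFinLocFree F)

include hF in
theorem mono_tensor_locFree {A B : X.Modules} (m : A ⟶ B) [Mono m] :
    Mono (((DCoh.tensorBi (X := X)).obj F).map m) :=
  CohCmpLib.mono_of_stalk_injective fun x => by
    have e := KFlatLib.stalkTensorIso_natural_right (M := F) x m
    haveI : Module.Flat (X.presheaf.stalk x) ((DerSch.stalkFunctor X x).obj F) :=
      KFlatLib.isFlat_of_isFinLocFree hF x
    haveI : Mono ((DerSch.stalkFunctor X x).obj F ◁ (DerSch.stalkFunctor X x).map m) :=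
      (ModuleCat.mono_iff_injective _).2 (Module.Flat.lTensor_preserves_injective_linearMap _
        (InjModLib.stalk_injective m x))
    haveI : Mono ((KFlatLib.stalkTensorIso F A x).hom ≫
        (DerSch.stalkFunctor X x).map (((DCoh.tensorBi (X := X)).obj F).map m)) := by
      rw [← e]; infer_instance
    refine (ModuleCat.mono_iff_injective _).1 ?_
    rw [show (DerSch.stalkFunctor X x).map (((DCoh.tensorBi (X := X)).obj F).map m) =
        (KFlatLib.stalkTensorIso F A x).inv ≫ (KFlatLib.stalkTensorIso F A x).hom ≫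
          (DerSch.stalkFunctor X x).map (((DCoh.tensorBi (X := X)).obj F).map m) from
      (Iso.inv_hom_id_assoc _ _).symm]
    infer_instance

include hF in
theorem injective_homMod (I : X.Modules) [hI : Injective I] : Injective (homMod F I) := by
  haveI : ((DCoh.tensorBi (X := X)).obj F).PreservesMonomorphisms := ⟨fun m _ => mono_tensor_locFree hF m⟩
  exact Injective.injective_of_adjoint (HomCohLib.homAdj F) I

include hF in
theorem epi_homFun {W W' : X.Modules} (φ : W ⟶ W') [Epi φ] : Epi (HomCohLib.mapR F φ) :=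
  CohCmpLib.epi_of_stalk_surjective fun y b => by
    haveI : Module.Free (X.presheaf.stalk y) (CohCmpLib.stk F y) := MiscFlat6.free_stalk_of_isFinLocFree hF y
    haveI : Module.Projective (X.presheaf.stalk y) (CohCmpLib.stk F y) := Module.Projective.of_free
    have hs : Function.Surjective ((DerSch.stalkFunctor X y).map φ).hom :=
      (ModuleCat.epi_iff_surjective _).1 inferInstance
    obtain ⟨l, hl⟩ := Module.projective_lifting_property _ (evS (evMod F W') y b) hs
    obtain ⟨a, ha⟩ := (CohCmpLib.homEv_evMod hF y).2 l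
    refine ⟨a, (CohCmpLib.homEv_evMod hF y).1 (LinearMap.ext fun m => ?_)⟩
    refine (Formal2VBLib.evS_hMap φ y a m).trans ?_
    rw [ha]
    exact LinearMap.congr_fun hl m

theorem mapR_comp_eq_zero (F : X.Modules) (S : ShortComplex X.Modules) :
    HomCohLib.mapR F S.f ≫ HomCohLib.mapR F S.g = 0 := by
  haveI : (homFun F).IsRightAdjoint := (HomCohLib.homAdj F).isRightAdjoint
  haveI : (homFun F).PreservesZeroMorphisms := Functor.preservesZeroMorphisms_of_preserves_terminal_object
  rw [← homFun_map, ← homFun_map, ← Functor.map_comp, S.zero, Functor.map_zero]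

/-- The sequence of sheaves of homomorphisms. -/
abbrev homSeq (F : X.Modules) (S : ShortComplex X.Modules) : ShortComplex X.Modules :=
  ShortComplex.mk (X₁ := homMod F S.X₁) (X₂ := homMod F S.X₂) (X₃ := homMod F S.X₃)
    (HomCohLib.mapR F S.f) (HomCohLib.mapR F S.g) (mapR_comp_eq_zero F S)

include hF in
theorem homSeq_shortExact {S : ShortComplex X.Modules} (hS : S.ShortExact) : (homSeq F S).ShortExact := by
  haveI : (homFun F).IsRightAdjoint := (HomCohLib.homAdj F).isRightAdjoint
  haveI : (homFun F).PreservesZeroMorphisms := Functor.preservesZeroMorphisms_of_preserves_terminal_object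
  haveI := hS.mono_f
  haveI := hS.epi_g
  have hex : (S.map (homFun F)).Exact :=
    ShortComplex.exact_of_f_is_kernel _ (isLimitForkMapOfIsLimit' (homFun F) _ hS.fIsKernel)
  haveI : Mono (homSeq F S).f := by
    show Mono (HomCohLib.mapR F S.f)
    rw [← homFun_map]
    infer_instance
  haveI : Epi (homSeq F S).g := epi_homFun hF S.g
  refine ShortComplex.ShortExact.mk ((ShortComplex.exact_iff_of_iso
    (ShortComplex.isoMk (S₁ := S.map (homFun F)) (S₂ := homSeq F S) (Iso.refl _) (Iso.refl _) (Iso.refl _) ?_ ?_)).1 hex)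
  · show 𝟙 _ ≫ HomCohLib.mapR F S.f = (homFun F).map S.f ≫ 𝟙 _
    rw [Category.id_comp, Category.comp_id, homFun_map]
  · show 𝟙 _ ≫ HomCohLib.mapR F S.g = (homFun F).map S.g ≫ 𝟙 _
    rw [Category.id_comp, Category.comp_id, homFun_map]

section Lin

variable (k : Type u) [Field k] [X.Over (Spec (CommRingCat.of k))]

theorem mapR_smulHom (W : X.Modules) (r : Coh.Γtop X) :
    HomCohLib.mapR F (StabLib.smulHom W r) = StabLib.smulHom (homMod F W) r := by
  refine HomCohLib.mapR_ext fun V s m => ?_
  rw [HomCohLib.happ_mapR, StabLib.smulHom_app, StabLib.smulHom_app]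
  exact (HomCohLib.happ_smul_left _ _ _).symm

/-- Morphisms as cohomology in degree zero, linearly. -/
def homH0 (F W : X.Modules) : (F ⟶ W) ≃ₗ[k] Coh.HH X (homMod F W) 0 where
  toFun φ := (HomCohLib.hh0 _).symm (HomCohLib.ofHom φ)
  map_add' φ ψ := by
    rw [← map_add]
    refine congrArg _ (CohCmpLib.homMod_ext fun y hy => ?_)
    show ((DerSch.stalkFunctor X y).map (φ + ψ)).hom = _
    rw [Functor.map_add]
    rfl
  map_smul' c φ := by
    show (HomCohLib.hh0 _).symm (HomCohLib.ofHom (StabLib.smulHom F (cst c) ≫ φ)) = _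
    rw [smulHom_comp, ← HomCohLib.ofHom_comp, mapR_smulHom, RingHom.id_apply, AddEquiv.symm_apply_eq,
      ← hMap_smulHom (homMod F W) c 0]
    exact (congrArg _ ((HomCohLib.hh0 _).apply_symm_apply _).symm).trans (HomCohLib.hh0_map _ _).symm
  invFun x := HomCohLib.toHom (HomCohLib.hh0 _ x)
  left_inv φ := by
    show HomCohLib.toHom (HomCohLib.hh0 _ ((HomCohLib.hh0 _).symm _)) = φ
    rw [AddEquiv.apply_symm_apply, HomCohLib.toHom_ofHom]
  right_inv x := by
    show (HomCohLib.hh0 _).symm (HomCohLib.ofHom (HomCohLib.toHom (HomCohLib.hh0 _ x))) = x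
    rw [HomCohLib.ofHom_toHom, AddEquiv.symm_apply_apply]

theorem homH0_natural {W W' : X.Modules} (g : W ⟶ W') (φ : F ⟶ W) :
    CurvLib.hMap (k := k) (HomCohLib.mapR F g) 0 (homH0 k F W φ) = homH0 k F W' (φ ≫ g) := by
  refine (HomCohLib.hh0 _).injective ?_
  refine (HomCohLib.hh0_map (HomCohLib.mapR F g) _).trans ?_
  show (HomCohLib.mapR F g).app ⊤ (HomCohLib.hh0 _ ((HomCohLib.hh0 _).symm _)) =
    HomCohLib.hh0 _ ((HomCohLib.hh0 _).symm _)
  rw [AddEquiv.apply_symm_apply, AddEquiv.apply_symm_apply, HomCohLib.ofHom_comp]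

include hF in
/-- **`Extⁱ(F, W) = Hⁱ(Hom(F, W))`.** -/
theorem nonempty_ext_homMod [HasExt.{u} X.Modules] :
    ∀ (i : ℕ) (W : X.Modules), Nonempty (Ext F W i ≃ₗ[k] Coh.HH X (homMod F W) i) := by
  haveI : EnoughInjectives X.Modules := ModSiteLib.sheafOfModules_enoughInjectives (R := X.ringCatSheaf)
  intro i
  match i with
  | 0 => exact fun W => ⟨Ext.linearEquiv₀ ≪≫ₗ homH0 k F W⟩
  | 1 =>
    intro W
    let T : ShortComplex X.Modules := ShortComplex.mk (Injective.ι W) (cokernel.π _) (cokernel.condition _)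
    have hT : T.ShortExact := ShortComplex.ShortExact.mk (ShortComplex.exact_cokernel _)
    haveI : Injective T.X₂ := inferInstanceAs (Injective (Injective.under W))
    have hT' := homSeq_shortExact hF hT
    haveI : Injective (homSeq F T).X₂ := injective_homMod hF T.X₂
    let g : (F ⟶ T.X₃) →ₗ[k] Coh.HH X (homMod F W) 1 :=
      (CurvLib.hDel (k := k) hT' 0).comp (homH0 k F T.X₃).toLinearMap
    have hg : Function.Surjective g :=
      (surjective_del (k := k) hT' (subsingleton_HH_of_injective _ 0)).comp (homH0 k F T.X₃).surjective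
    have hk : LinearMap.ker (coDel₀ (R := k) hT (A := F)) = LinearMap.ker g := by
      ext φ
      rw [LinearMap.mem_ker, LinearMap.mem_ker, coDel₀_eq_zero_iff hT]
      show _ ↔ homH0 k F T.X₃ φ ∈ LinearMap.ker (CurvLib.hDel (k := k) hT' 0)
      rw [← CurvLib.exact₃ (k := k) hT' 0]
      constructor
      · rintro ⟨ψ, rfl⟩
        exact ⟨homH0 k F T.X₂ ψ, homH0_natural k T.g ψ⟩
      · rintro ⟨x, hx⟩
        obtain ⟨ψ, rfl⟩ := (homH0 k F T.X₂).surjective x
        exact ⟨ψ, (homH0 k F T.X₃).injective ((homH0_natural k T.g ψ).symm.trans hx)⟩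
    exact ⟨(LinearMap.quotKerEquivOfSurjective _ (coDel₀_surjective (R := k) hT)).symm ≪≫ₗ
      Submodule.quotEquivOfEq _ _ hk ≪≫ₗ LinearMap.quotKerEquivOfSurjective g hg⟩
  | i + 2 =>
    intro W
    let T : ShortComplex X.Modules := ShortComplex.mk (Injective.ι W) (cokernel.π _) (cokernel.condition _)
    have hT : T.ShortExact := ShortComplex.ShortExact.mk (ShortComplex.exact_cokernel _)
    haveI : Injective T.X₂ := inferInstanceAs (Injective (Injective.under W))
    have hT' := homSeq_shortExact hF hT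
    haveI : Injective (homSeq F T).X₂ := injective_homMod hF T.X₂
    obtain ⟨e⟩ := nonempty_ext_homMod (i + 1) T.X₃
    exact ⟨(LinearEquiv.ofBijective (coDel (R := k) hT (rfl : i + 1 + 1 = i + 2))
      ⟨coDel_injective (R := k) hT _, coDel_surjective (R := k) hT _⟩).symm ≪≫ₗ e ≪≫ₗ
      delEquiv (k := k) hT' (subsingleton_HH_of_injective _ i) (subsingleton_HH_of_injective _ (i + 1))⟩

/-- Isomorphic modules have isomorphic cohomology, linearly. -/
def hMapIso {M N : X.Modules} (e : M ≅ N) (p : ℕ) : Coh.HH X M p ≃ₗ[k] Coh.HH X N p :=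
  { CurvLib.hMap (k := k) e.hom p with
    invFun := CurvLib.hMap (k := k) e.inv p
    left_inv := fun x => by
      show CurvLib.hMap (k := k) e.inv p (CurvLib.hMap (k := k) e.hom p x) = x
      rw [← CurvLib.hMap_comp, e.hom_inv_id, hMap_id]
    right_inv := fun x => by
      show CurvLib.hMap (k := k) e.hom p (CurvLib.hMap (k := k) e.inv p x) = x
      rw [← CurvLib.hMap_comp, e.inv_hom_id, hMap_id] }

end Lin

end PnDualLib
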