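import Groth.Agent.PnDualLib.Shift
import Groth.Agent.DetRootLib.Filt
import Groth.Agent.HomCohLib.FullyFaithful

/-!
# Exactness of coherent modules read off from sections of high twists
-/

set_option autoImplicit false
set_option linter.unusedSectionVars false
set_option linter.style.haveILetI false
set_option maxHeartbeats 800000
set_option backward.isDefEq.respectTransparency false
set_option backward.isDefEq.respectTransparency.types false
universe u

open CategoryTheory CategoryTheory.Limits AlgebraicGeometry TopologicalSpace Opposite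

noncomputable section

namespace PnDualLib

variable (k : Type u) [Field k] (n : ℕ)

local notation "ℙ" => CohB1.ProjSpace n k
local notation "O'" => Twist.twistProjSpace n k

theorem isNoetherian_projSpace : IsNoetherian (CohB1.ProjSpace n k) := by
  haveI : IsProper (ℙ ↘ Spec (CommRingCat.of k)) := ProjDegLib.toSpec_isProper k n
  exact CurvLib.isNoetherian k (X := ℙ)

theorem unitHom_comp {X : Scheme.{u}} {M N : X.Modules} (φ : M ⟶ N) (w : Γ(M, (⊤ : X.Opens))) :
    QCohLib.unitHom M w ≫ φ = QCohLib.unitHom N (φ.app ⊤ w) := by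
  refine Scheme.Modules.hom_ext _ _ fun V => ?_
  ext r
  show φ.app V ((QCohLib.unitHom M w).app V r) = (QCohLib.unitHom N (φ.app ⊤ w)).app V r
  refine ((congrArg (φ.app V) (QCohLib.unitHom_app M w V r)).trans
    (Scheme.Modules.Hom.app_smul φ _ _)).trans (Eq.trans ?_ (QCohLib.unitHom_app N _ V r).symm)
  exact congrArg (fun z : Γ(N, V) => (show Γ(X, V) from r) • z) (QCohLib.app_map φ _ w)

theorem unitHom_zero {X : Scheme.{u}} (M : X.Modules) : QCohLib.unitHom M (0 : Γ(M, (⊤ : X.Opens))) = 0 := by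
  refine Scheme.Modules.hom_ext _ _ fun V => ?_
  ext r
  show (QCohLib.unitHom M 0).app V r = 0
  refine (QCohLib.unitHom_app M 0 V r).trans ?_
  rw [map_zero, smul_zero]

/-- Sections of high twists see the middle exactness. -/
theorem lift_of_exact (S : ShortComplex (CohB1.ProjSpace n k).Modules) (hex : S.Exact) (h₁ : Coh.IsCoh S.X₁)
    (h₂ : Coh.IsCoh S.X₂) (h₃ : Coh.IsCoh S.X₃) :
    ∃ m₀ : ℕ, ∀ m : ℕ, m₀ ≤ m → ∀ w : Γ((tw' k n (m : ℤ)).obj S.X₂, (⊤ : (CohB1.ProjSpace n k).Opens)),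
      ((tw' k n (m : ℤ)).map S.g).app ⊤ w = 0 → ∃ v, ((tw' k n (m : ℤ)).map S.f).app ⊤ v = w := by
  haveI := isNoetherian_projSpace k n
  let q := kernel.lift S.g S.f S.zero
  haveI : Epi q := S.exact_iff_epi_kernel_lift.1 hex
  have hK : Coh.IsCoh (kernel S.g) := QCohLib.isCoh_kernel S.g h₂ h₃.1
  obtain ⟨d₀, hd⟩ := PnCohLib.exists_vanishing_twist k (kernel q) (QCohLib.isCoh_kernel q h₁ hK.1)
  refine ⟨d₀.toNat, fun m hm w hw => ?_⟩
  let T := tw' k n (m : ℤ)
  let U : ShortComplex (CohB1.ProjSpace n k).Modules := ShortComplex.mk (kernel.ι q) q (kernel.condition q)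
  have hU : (U.map T).ShortExact := HilbPolyLib.shortExact_tensor (PicPnLib.twist_inv n k _)
    (ShortComplex.ShortExact.mk (ShortComplex.exact_kernel q))
  haveI : T.IsEquivalence := (twistEquiv k n (m : ℤ) (-(m : ℤ)) (by ring)).isEquivalence_functor
  let hker := KernelFork.mapIsLimit _ (kernelIsKernel S.g) T
  have hu : QCohLib.unitHom (T.obj S.X₂) w ≫ T.map S.g = 0 :=
    (unitHom_comp _ w).trans ((congrArg (QCohLib.unitHom _) hw).trans (unitHom_zero _))
  let u : Coh.structureModule ℙ ⟶ T.obj (kernel S.g) :=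
    hker.lift (KernelFork.ofι (QCohLib.unitHom (T.obj S.X₂) w) hu)
  have hu' : u ≫ T.map (kernel.ι S.g) = QCohLib.unitHom (T.obj S.X₂) w := hker.fac _ WalkingParallelPair.zero
  let w' := u.app ⊤ (1 : Γ(ℙ, (⊤ : (CohB1.ProjSpace n k).Opens)))
  have hw' : (T.map (kernel.ι S.g)).app ⊤ w' = w := by
    refine (congrArg (fun z : Coh.structureModule ℙ ⟶ T.obj S.X₂ => z.app ⊤ (1 : Γ(ℙ, (⊤ : (CohB1.ProjSpace n k).Opens)))) hu').trans ?_
    rw [QCohLib.unitHom_app, one_smul]
    exact congr($((T.obj S.X₂).presheaf.map_id _) w)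
  have h1 : Subsingleton (Coh.HH ℙ (T.obj (kernel q)) (0 + 1)) :=
    SerreVanLib.subsingleton_HH_of_iso (HilbPolyLib.swapIso (O' (m : ℤ)) (kernel q)) 1 (hd m (by omega) 1 one_pos)
  obtain ⟨x, hx⟩ := PnCohLib.surjective_of_shortExact (k := k) hU 0 h1 ((HomCohLib.hh0 _).symm w')
  refine ⟨HomCohLib.hh0 _ x, ?_⟩
  have h2 : (T.map q).app ⊤ (HomCohLib.hh0 _ x) = w' := by
    rw [← HomCohLib.hh0_map]
    exact (congrArg (HomCohLib.hh0 _) hx).trans ((HomCohLib.hh0 _).apply_symm_apply w')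
  refine Eq.trans ?_ hw'
  rw [← h2]
  exact congrArg (fun z => z.app ⊤ (HomCohLib.hh0 _ x))
    ((congrArg T.map (kernel.lift_ι S.g S.f S.zero)).symm.trans (T.map_comp q (kernel.ι S.g)))

/-- Middle exactness follows from that of sections of all high twists. -/
theorem exact_of_lift (S : ShortComplex (CohB1.ProjSpace n k).Modules) (h₁ : Coh.IsCoh S.X₁)
    (h₂ : Coh.IsCoh S.X₂) (h₃ : Coh.IsCoh S.X₃)
    (H : ∃ m₀ : ℕ, ∀ m : ℕ, m₀ ≤ m → ∀ w : Γ((tw' k n (m : ℤ)).obj S.X₂, (⊤ : (CohB1.ProjSpace n k).Opens)),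
      ((tw' k n (m : ℤ)).map S.g).app ⊤ w = 0 → ∃ v, ((tw' k n (m : ℤ)).map S.f).app ⊤ v = w) : S.Exact := by
  haveI := isNoetherian_projSpace k n
  let q := kernel.lift S.g S.f S.zero
  have hK : Coh.IsCoh (kernel S.g) := QCohLib.isCoh_kernel S.g h₂ h₃.1
  obtain ⟨m₁, hr⟩ := PnCohLib.exists_regular k (kernel S.g) hK
  obtain ⟨m₀, hl⟩ := H
  obtain ⟨m, hm₀, hm₁⟩ : ∃ m : ℕ, m₀ ≤ m ∧ m₁ ≤ (m : ℤ) := ⟨max m₀ m₁.toNat, le_max_left _ _, by omega⟩
  rw [S.exact_iff_epi_kernel_lift]
  refine Abelian.epi_of_cokernel_π_eq_zero _ (PnCohLib.eq_zero_of_map k (m : ℤ) _ ?_)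
  let T := tw' k n (m : ℤ)
  haveI : T.IsEquivalence := (twistEquiv k n (m : ℤ) (-(m : ℤ)) (by ring)).isEquivalence_functor
  refine MiscFlat6.cancel_of_isGloballyGenerated (MiscFlat6.isGloballyGenerated_of_iso
    (HilbPolyLib.swapIso (kernel S.g) (O' (m : ℤ)))
    (PnCohLib.isGloballyGenerated_of_regular k _ hK.1 _ (hr _ hm₁))) _ fun u => ?_
  let w := (T.map (kernel.ι S.g)).app ⊤ u
  have hw : (T.map S.g).app ⊤ w = 0 := by
    have h := (T.map_comp (kernel.ι S.g) S.g).symm.trans ((congrArg T.map (kernel.condition S.g)).trans (T.map_zero _ _))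
    exact congrArg (fun z => z.app ⊤ u) h
  obtain ⟨v, hv⟩ := hl m hm₀ w hw
  have h3 : (T.map q).app ⊤ v = u := by
    haveI : Mono (T.map (kernel.ι S.g)) := inferInstance
    have hinj : Function.Injective ((T.map (kernel.ι S.g)).app ⊤) := fun a b hab => by
      apply PnDualLib.unitHom_injective
      rw [← cancel_mono (T.map (kernel.ι S.g))]
      exact (unitHom_comp _ a).trans ((congrArg (QCohLib.unitHom _) hab).trans (unitHom_comp _ b).symm)
    refine hinj (Eq.trans ?_ hv)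
    exact congrArg (fun z => z.app ⊤ v)
      ((T.map_comp q (kernel.ι S.g)).symm.trans (congrArg T.map (kernel.lift_ι S.g S.f S.zero)))
  rw [← h3]
  exact congrArg (fun z => z.app ⊤ v)
    ((T.map_comp q (cokernel.π q)).symm.trans ((congrArg T.map (cokernel.condition q)).trans (T.map_zero _ _)))

/-- Exactness of a complex of coherent modules may be checked at closed points. -/
theorem exact_of_closed_stalks {X : Scheme.{u}} [IsNoetherian X] (S : ShortComplex X.Modules) (h₁ : Coh.IsCoh S.X₁)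
    (h₂ : Coh.IsCoh S.X₂) (h₃ : Coh.IsCoh S.X₃)
    (h : ∀ y : X, IsClosed ({y} : Set X) → ∀ b : (DerSch.stalkFunctor X y).obj S.X₂,
      ((DerSch.stalkFunctor X y).map S.g).hom b = 0 → ∃ a, ((DerSch.stalkFunctor X y).map S.f).hom a = b) :
    S.Exact := by
  rw [S.exact_iff_epi_kernel_lift]
  let q := kernel.lift S.g S.f S.zero
  have hC := QCohLib.isCoh_cokernel q h₁.1 (QCohLib.isCoh_kernel S.g h₂ h₃.1)
  refine Abelian.epi_of_cokernel_π_eq_zero _ ((DevissLib.isZero_of_support_empty ?_).eq_of_tgt _ _)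
  by_contra hne
  obtain ⟨y, hy, hcl⟩ := IsClosed.exists_closed_singleton (QCohLib.isClosed_support _ hC.2)
    (Set.nonempty_iff_ne_empty.2 hne)
  refine DevissLib.notMem_support_cokernel q y (fun b => ?_) hy
  let St := DerSch.stalkFunctor X y
  have hι : Function.Injective (St.map (kernel.ι S.g)).hom := (ModuleCat.mono_iff_injective _).1 inferInstance
  have e1 : St.map (kernel.ι S.g) ≫ St.map S.g = 0 := by rw [← St.map_comp, kernel.condition, St.map_zero]
  have e2 : St.map q ≫ St.map (kernel.ι S.g) = St.map S.f := by rw [← St.map_comp, kernel.lift_ι]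
  obtain ⟨a, ha⟩ := h y hcl ((St.map (kernel.ι S.g)).hom b) (ConcreteCategory.congr_hom e1 b)
  exact ⟨a, hι ((ConcreteCategory.congr_hom e2 a).trans ha)⟩

theorem stalk_exact_of_exact {X : Scheme.{u}} {S : ShortComplex X.Modules} (hS : S.Exact) (y : X)
    (b : (DerSch.stalkFunctor X y).obj S.X₂) (hb : ((DerSch.stalkFunctor X y).map S.g).hom b = 0) :
    ∃ a, ((DerSch.stalkFunctor X y).map S.f).hom a = b :=
  ((ShortComplex.ShortExact.moduleCat_exact_iff_function_exact _).1 (hS.map (DerSch.stalkFunctor X y)) b).1 hb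

end PnDualLib
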