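import Groth.Agent.PnDualLib.Local
import Groth.Agent.CanonModLib.Ext
import Groth.Agent.CanonModLib.Regular
import Groth.Agent.InjHullLib.Basic
import Groth.Agent.S11681
import Groth.Agent.CIGenLib.SmoothPts
import Groth.Agent.GenusZeroLib.PSmooth
import Groth.Agent.EtaEtLib.Fibres
import Groth.Agent.LocCohLib.Facts
import Groth.Agent.DepthLib.RegAB
import Groth.Agent.HLVTLib.Vanish

/-!
# Local duality read at the closed points of projective space
-/

set_option autoImplicit false
set_option linter.unusedSectionVars false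
set_option linter.style.haveILetI false
set_option maxHeartbeats 800000
universe u

open CategoryTheory Opposite AlgebraicGeometry IsLocalRing LocCohLib

noncomputable section

namespace PnDualLib

section Alg

variable (A : Type u) [CommRing A] [IsRegularLocalRing A] (d : ℕ)

theorem subsingleton_of_hom_hull {E : Type u} [AddCommGroup E] [Module A E] {f : ResidueField A →ₗ[A] E}
    (hf : InjHull.IsInjectiveHull f) (G : Type u) [AddCommGroup G] [Module A G]
    (h : Subsingleton (G →ₗ[A] E)) : Subsingleton G :=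
  ⟨fun a b => ((Groth.Agent.S11681.result A E f hf).1 G).1 (LinearMap.ext fun φ => by
    rw [Subsingleton.elim φ 0]; simp)⟩

/-- Local cohomology of a finite module vanishes iff the complementary Ext does. -/
theorem subsingleton_H_iff_ext (hd : ringKrullDim A = d) (M : Type u) [AddCommGroup M] [Module A M]
    [Module.Finite A M] (i j : ℕ) (hij : i + j = d) :
    Subsingleton (LocCoh.H (maximalIdeal A) i M) ↔
      Subsingleton (Abelian.Ext (ModuleCat.of A M) (ModuleCat.of A A) j) := by
  obtain ⟨E, _, _, f, hf⟩ := InjHullLib.exists_injectiveHull (R := A) (ResidueField A)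
  obtain ⟨hvan, ⟨eK⟩⟩ := CanonModLib.regular_canon A d hd E f hf
  have hE := hf.isInjective
  cases j with
  | zero =>
    obtain rfl : i = d := by omega
    rw [Abelian.Ext.homEquiv₀.subsingleton_congr,
      (CanonModLib.topDual hd.le hE eK M).toEquiv.subsingleton_congr]
    constructor
    · intro h
      haveI := subsingleton_of_hom_hull A hf (M →ₗ[A] A) h
      exact ⟨fun a b => ModuleCat.hom_ext (Subsingleton.elim _ _)⟩
    · intro h
      haveI : Subsingleton (M →ₗ[A] A) := ⟨fun a b => congrArg ModuleCat.Hom.hom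
        (h.elim (ModuleCat.ofHom a) (ModuleCat.ofHom b))⟩
      exact ⟨fun φ ψ => LinearMap.ext fun x => by rw [Subsingleton.elim x 0, map_zero, map_zero]⟩
  | succ q =>
    obtain ⟨P, Q, f', g', hQ0, hf', hex, hg', hP, hQ, -⟩ := CanonModLib.exists_chain (R := A) M
    obtain ⟨e₁⟩ := CanonModLib.H_shift (n := d) q Q P.complex.X f' g' hf' hex hg'
      (fun j r hr => by
        haveI := (hP j).1
        haveI := (hP j).2
        exact CanonModLib.subsingleton_H_free r (hvan r hr) (P.complex.X j)) (by omega)
    haveI := hQ (q + 1)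
    haveI := (hP q).1
    obtain ⟨e₂⟩ := CanonModLib.kerEquiv hd.le hE eK (f' q)
    rw [show i = d - (q + 1) by omega]
    have hM : Subsingleton (LocCoh.H (maximalIdeal A) (d - (q + 1)) M) ↔
        Subsingleton (LocCoh.H (maximalIdeal A) (d - (q + 1)) (Q 0)) := by rw [hQ0]
    rw [hM, (e₁.trans e₂).toEquiv.subsingleton_congr]
    let S : ℕ → ShortComplex (ModuleCat.{u} A) := fun j =>
      ShortComplex.mk (ModuleCat.ofHom (f' j)) (ModuleCat.ofHom (g' j))
        (ModuleCat.hom_ext (LinearMap.ext fun x => (hex j).apply_apply_eq_zero x))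
    have hS : ∀ j, (S j).ShortExact := fun j =>
      { exact := (ShortComplex.ShortExact.moduleCat_exact_iff_function_exact _).2 (hex j)
        mono_f := (ModuleCat.mono_iff_injective _).2 (hf' j)
        epi_g := (ModuleCat.epi_iff_surjective _).2 (hg' j) }
    haveI hproj : ∀ j, Projective (S j).X₂ := fun j => by
      haveI := (hP j).2
      exact (IsProjective.iff_projective _).1 inferInstance
    have hshift : ∀ r j : ℕ, Subsingleton (Abelian.Ext (Q j) (ModuleCat.of A A) (r + 1)) ↔
        Subsingleton (Abelian.Ext (Q (j + r)) (ModuleCat.of A A) 1) := by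
      intro r
      induction r with
      | zero => exact fun j => Iff.rfl
      | succ r ih =>
        intro j
        rw [show j + (r + 1) = j + 1 + r by omega, ← ih (j + 1)]
        exact subsingleton_ext_shift_iff (hS j) _ r
    have h0 := hshift q 0
    rw [hQ0, Nat.zero_add] at h0
    rw [h0, show Subsingleton (Abelian.Ext (Q q) (ModuleCat.of A A) 1) ↔ _ from
      subsingleton_ext_one_iff (hS q) (ModuleCat.of A A)]
    constructor
    · intro h a
      haveI := subsingleton_of_hom_hull A hf _ h
      obtain ⟨b, hb⟩ := (Submodule.Quotient.mk_eq_zero _).1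
        (Subsingleton.elim (Submodule.Quotient.mk (p := LinearMap.range (LinearMap.lcomp A A (f' q))) a.hom) 0)
      exact ⟨ModuleCat.ofHom b, ModuleCat.hom_ext hb⟩
    · intro h
      haveI : Subsingleton ((Q (q + 1) →ₗ[A] A) ⧸ LinearMap.range (LinearMap.lcomp A A (f' q))) :=
        subsingleton_of_forall_eq 0 fun x => by
          obtain ⟨a, rfl⟩ := Submodule.Quotient.mk_surjective _ x
          obtain ⟨b, hb⟩ := h (ModuleCat.ofHom a)
          exact (Submodule.Quotient.mk_eq_zero _).2 ⟨b.hom, congrArg ModuleCat.Hom.hom hb⟩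
      exact ⟨fun φ ψ => LinearMap.ext fun x => by rw [Subsingleton.elim x 0, map_zero, map_zero]⟩

end Alg

variable (k : Type u) [Field k] (n : ℕ)

theorem smoothRel_projSpace : SmoothOfRelativeDimension n (CohB1.ProjSpace.toSpec n k) := by
  haveI hR : HasRingHomProperty (@SmoothOfRelativeDimension n)
    (RingHom.Locally (RingHom.IsStandardSmoothOfRelativeDimension n)) := inferInstance
  haveI : IsZariskiLocalAtSource (@SmoothOfRelativeDimension n) :=
    HasRingHomProperty.instIsZariskiLocalAtSource (P := @SmoothOfRelativeDimension n)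
      (Q := RingHom.Locally (RingHom.IsStandardSmoothOfRelativeDimension n))
  refine IsZariskiLocalAtSource.of_iSup_eq_top (P := @SmoothOfRelativeDimension n) (QCohLib.stdOpen n k)
    (QCohLib.iSup_stdOpen n k) fun i => ?_
  let X₀ : MvPolynomial (Fin (n + 1)) k := MvPolynomial.X i
  have hX : X₀ ∈ CohB1.polyGrading n k 1 := GradedCechLib.X_mem n k i
  change SmoothOfRelativeDimension n ((Proj.basicOpen (CohB1.polyGrading n k) X₀).ι ≫
    Proj.toSpecZero (CohB1.polyGrading n k) ≫ Spec.map (CommRingCat.ofHom (algebraMap k (CohB1.polyGrading n k 0))))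
  have e : (Proj.basicOpen (CohB1.polyGrading n k) X₀).ι =
      (Proj.basicOpenIsoSpec (CohB1.polyGrading n k) X₀ hX one_pos).hom ≫
        Proj.awayι (CohB1.polyGrading n k) X₀ hX one_pos := by
    rw [← Proj.basicOpenIsoSpec_inv_ι, Iso.hom_inv_id_assoc]
  rw [e, Category.assoc, Proj.awayι_toSpecZero_assoc, ← Spec.map_comp]
  suffices SmoothOfRelativeDimension n (Spec.map (CommRingCat.ofHom (algebraMap k (CohB1.polyGrading n k 0)) ≫
      CommRingCat.ofHom (HomogeneousLocalization.fromZeroRingHom (CohB1.polyGrading n k) (Submonoid.powers X₀)))) by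
    have := IsZariskiLocalAtSource.comp (P := @SmoothOfRelativeDimension n) this
      (Proj.basicOpenIsoSpec (CohB1.polyGrading n k) X₀ hX one_pos).hom
    exact this
  rw [HasRingHomProperty.Spec_iff (P := @SmoothOfRelativeDimension n)]
  refine RingHom.locally_of RingHom.isStandardSmoothOfRelativeDimension_respectsIso _ ?_
  have h : (CommRingCat.ofHom (algebraMap k (CohB1.polyGrading n k 0)) ≫
      CommRingCat.ofHom (HomogeneousLocalization.fromZeroRingHom (CohB1.polyGrading n k) (Submonoid.powers X₀))).hom =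
      (GenusZeroLib.chartPoly n k i).comp (algebraMap k (MvPolynomial (Fin n) k)) :=
    RingHom.ext fun r => by simp [GenusZeroLib.chartPoly]; rfl
  rw [h]
  haveI := EtaEtLib.isStandardSmooth_mvPolynomial k n
  have h2 := RingHom.IsStandardSmoothOfRelativeDimension.comp
    (RingHom.IsStandardSmoothOfRelativeDimension.equiv
      (RingEquiv.ofBijective _ (GenusZeroLib.chartPoly_bijective n k i)))
    ((RingHom.isStandardSmoothOfRelativeDimension_algebraMap (R := k) (S := MvPolynomial (Fin n) k) n).mpr inferInstance)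
  rwa [Nat.zero_add] at h2

theorem closedPt_projSpace (y : CohB1.ProjSpace n k) (hy : IsClosed ({y} : Set (CohB1.ProjSpace n k))) :
    IsRegularLocalRing ((CohB1.ProjSpace n k).presheaf.stalk y) ∧
      ringKrullDim ((CohB1.ProjSpace n k).presheaf.stalk y) = (n : WithBot ℕ∞) := by
  haveI := smoothRel_projSpace k n
  exact CIGen.closedPt_of_smooth (CohB1.ProjSpace.toSpec n k) n y hy

end PnDualLib

namespace PnDualLib

variable (k : Type u) [Field k] (n : ℕ) (F : (CohB1.ProjSpace n k).Modules) (hF : Coh.IsCoh F)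

set_option backward.isDefEq.respectTransparency false in
theorem subsingleton_extAt_iff_H (y : CohB1.ProjSpace n k) (hy : IsClosed ({y} : Set (CohB1.ProjSpace n k)))
    (hF : Coh.IsCoh F) (i j : ℕ) (hij : i + j = n) :
    Subsingleton (ExtAt k n F y j) ↔
      Subsingleton (LocCoh.H (maximalIdeal ((CohB1.ProjSpace n k).presheaf.stalk y)) i (F.presheaf.stalk y)) := by
  haveI := hF.1
  obtain ⟨hreg, hd⟩ := closedPt_projSpace k n y hy
  haveI := hreg
  haveI : Module.Finite ((CohB1.ProjSpace n k).presheaf.stalk y) (F.presheaf.stalk y) := DepthLib.finite_stalk F hF.2 y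
  exact (subsingleton_H_iff_ext _ n hd _ i j hij).symm

include hF in
/-- `Hⁱ(F(-m)) = 0` for `m ≫ 0` iff the local cohomology in degree `i` vanishes at the closed points. -/
theorem eventually_iff_H (i : ℕ) (hi : i ≤ n) :
    (∃ m₀ : ℤ, ∀ m : ℤ, m₀ ≤ m → Subsingleton
        (Coh.HH (CohB1.ProjSpace n k) (Twist.twistBy (CohB1.polyGrading n k) F (-m)) i)) ↔
      ∀ y : CohB1.ProjSpace n k, IsClosed ({y} : Set (CohB1.ProjSpace n k)) →
        Subsingleton (LocCoh.H (maximalIdeal ((CohB1.ProjSpace n k).presheaf.stalk y)) i (F.presheaf.stalk y)) :=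
  ⟨fun h y hy => (subsingleton_extAt_iff_H k n F y hy hF i (n - i) (by omega)).1
      (extAt_of_eventually k n F hF i (n - i) (by omega) h y),
    fun h => eventually_of_extAt k n F hF i (n - i) (by omega) fun y hy =>
      (subsingleton_extAt_iff_H k n F y hy hF i (n - i) (by omega)).2 (h y hy)⟩

end PnDualLib

namespace PnDualLib

variable (k : Type u) [Field k] (n : ℕ) (F : (CohB1.ProjSpace n k).Modules)

theorem eventually_iff_H_all (hF : Coh.IsCoh F) (i : ℕ) :
    (∃ m₀ : ℤ, ∀ m : ℤ, m₀ ≤ m → Subsingleton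
        (Coh.HH (CohB1.ProjSpace n k) (Twist.twistBy (CohB1.polyGrading n k) F (-m)) i)) ↔
      ∀ y : CohB1.ProjSpace n k, IsClosed ({y} : Set (CohB1.ProjSpace n k)) →
        Subsingleton (LocCoh.H (maximalIdeal ((CohB1.ProjSpace n k).presheaf.stalk y)) i (F.presheaf.stalk y)) := by
  rcases le_or_gt i n with hi | hi
  · exact eventually_iff_H k n F hF i hi
  · refine ⟨fun _ y hy => ?_, fun _ => eventually_above k n F i hi⟩
    obtain ⟨hreg, hd⟩ := closedPt_projSpace k n y hy
    haveI := hreg
    exact HLVTLib.subsingleton_H_of_dim_lt (by rw [hd]; exact_mod_cast hi) _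

theorem eventually_below_iff_depth (hF : Coh.IsCoh F) (c : ℕ) :
    (∃ m₀ : ℤ, ∀ m : ℤ, m₀ ≤ m → ∀ i : ℕ, i < c → Subsingleton
        (Coh.HH (CohB1.ProjSpace n k) (Twist.twistBy (CohB1.polyGrading n k) F (-m)) i)) ↔
      ∀ y : CohB1.ProjSpace n k, IsClosed ({y} : Set (CohB1.ProjSpace n k)) →
        (c : ℕ∞) ≤ LocCoh.depth ((CohB1.ProjSpace n k).presheaf.stalk y) (F.presheaf.stalk y) := by
  haveI := hF.1
  haveI : ∀ y : CohB1.ProjSpace n k,
      Module.Finite ((CohB1.ProjSpace n k).presheaf.stalk y) (F.presheaf.stalk y) :=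
    fun y => DepthLib.finite_stalk F hF.2 y
  haveI := PnCohLib.isLocallyNoetherian_projSpace (n := n) k
  constructor
  · rintro ⟨m₀, h⟩ y hy
    exact (LocCohLib.le_idealDepth_iff_subsingleton_H _ c).2 fun i hi =>
      (eventually_iff_H_all k n F hF i).1 ⟨m₀, fun m hm => h m hm i hi⟩ y hy
  · intro h
    have h' : ∀ i : ℕ, ∃ m₀ : ℤ, i < c → ∀ m : ℤ, m₀ ≤ m → Subsingleton
        (Coh.HH (CohB1.ProjSpace n k) (Twist.twistBy (CohB1.polyGrading n k) F (-m)) i) := fun i => by
      by_cases hi : i < c
      · obtain ⟨m₀, hm⟩ := (eventually_iff_H_all k n F hF i).2 fun y hy =>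
          (LocCohLib.le_idealDepth_iff_subsingleton_H _ c).1 (h y hy) i hi
        exact ⟨m₀, fun _ => hm⟩
      · exact ⟨0, fun h' => absurd h' hi⟩
    choose m hm using h'
    obtain ⟨M, hM⟩ : ∃ M : ℤ, ∀ i ∈ Finset.range c, m i ≤ M := by
      obtain ⟨M, hM⟩ := ((Finset.range c).image m).bddAbove
      exact ⟨M, fun i hi => hM (Finset.mem_image_of_mem m hi)⟩
    exact ⟨M, fun m' hm' i hi => hm i hi m' ((hM i (Finset.mem_range.2 hi)).trans hm')⟩

end PnDualLib
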