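import Groth.Agent.PnDualLib.Embed
import Groth.Agent.PnDualLib.HomExt
import Groth.Agent.VBP1Lib.Tensor
import Groth.Agent.ConsLib.ModLoci
import Groth.Agent.DevissLib.ClosedImm
import Groth.Agent.CycKSuppLib.Killed
import Groth.Agent.AVAmpleLib.Degree

/-!
# Duality on a Cohen–Macaulay closed subscheme of projective space
-/

set_option autoImplicit false
set_option linter.unusedSectionVars false
set_option linter.style.haveILetI false
set_option backward.isDefEq.respectTransparency false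
set_option backward.isDefEq.respectTransparency.types false
universe u

open CategoryTheory CategoryTheory.Limits AlgebraicGeometry TopologicalSpace Opposite

noncomputable section

namespace PnDualLib

open Abelian

variable {k : Type u} [Field k] {r : ℕ} {X : Scheme.{u}} (i : X ⟶ CohB1.ProjSpace r k) [IsClosedImmersion i]

/-- Sums of copies of `O_X(-N)`. -/
abbrev negX (N b : ℕ) : X.Modules := ∐ fun _ : Fin b => oX i (-(N : ℤ))

theorem exists_lift_invertible {L L' : X.Modules} [X.Over (Spec (CommRingCat.of k))]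
    (hL' : PicF.IsInvertible L') (e : CohB1.tensorMod L L' ≅ Coh.structureModule X)
    {S : ShortComplex X.Modules} (hS : S.ShortExact)
    (h : Subsingleton (Coh.HH X (CohB1.tensorMod L' S.X₁) 1)) (φ : L ⟶ S.X₃) : ∃ ψ : L ⟶ S.X₂, ψ ≫ S.g = φ := by
  let E := VBP1Lib.inverseEquiv e
  let adj := E.toAdjunction
  let O := Coh.structureModule X
  let u : E.functor.obj O ≅ L := PicPnLib.unitRight L
  let φ' : O ⟶ E.inverse.obj S.X₃ := adj.homEquiv O S.X₃ (u.hom ≫ φ)
  let T : X.Modules ⥤ X.Modules := CurvLib.tensorLeft' L'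
  have hS' : (S.map T).ShortExact := HilbPolyLib.shortExact_tensor hL' hS
  have hsur : Function.Surjective (CurvLib.hMap (k := k) (T.map S.g) 0) := by
    have h3 := CurvLib.exact₃ (k := k) hS' 0
    rw [← LinearMap.range_eq_top]
    refine h3.trans ?_
    rw [LinearMap.ker_eq_top]
    exact LinearMap.ext fun x => h.elim _ _
  obtain ⟨w, hw⟩ := (KFlatLib.unitSecEquiv (T.obj S.X₃)).symm.surjective φ'
  obtain ⟨s, hs⟩ := hsur ((CohCmpLib.h0E _).symm w)
  let v : Γ(T.obj S.X₂, (⊤ : X.Opens)) := CohCmpLib.h0E _ s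
  have hv : (T.map S.g).app ⊤ v = w := by
    refine (CohCmpLib.h0E_hm (T.map S.g) s).symm.trans ?_
    exact (congrArg (CohCmpLib.h0E _) hs).trans ((CohCmpLib.h0E _).apply_symm_apply _)
  let ψ' : O ⟶ T.obj S.X₂ := (KFlatLib.unitSecEquiv _).symm v
  have hψ : ψ' ≫ T.map S.g = φ' := by
    refine Eq.trans ?_ hw
    refine (KFlatLib.unitSecEquiv _).injective ?_
    rw [Equiv.apply_symm_apply]
    show (T.map S.g).app ⊤ (KFlatLib.unitSecEquiv _ ψ') = w
    rw [Equiv.apply_symm_apply, hv]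
  refine ⟨u.inv ≫ (adj.homEquiv O S.X₂).symm ψ', ?_⟩
  rw [Category.assoc, ← Adjunction.homEquiv_naturality_right_symm, Iso.inv_comp_eq]
  refine (congrArg (adj.homEquiv O S.X₃).symm hψ).trans ?_
  exact (adj.homEquiv O S.X₃).symm_apply_apply _

variable [X.Over (Spec (CommRingCat.of k))]

instance enoughInjectives_modules : EnoughInjectives X.Modules :=
  ModSiteLib.sheafOfModules_enoughInjectives (R := X.ringCatSheaf)

theorem nonempty_oX_inverse (N : ℤ) :
    Nonempty (CohB1.tensorMod (oX i (-N)) (oX i N) ≅ Coh.structureModule X) := by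
  obtain ⟨g⟩ := nonempty_oX_add i (-N) N 0 (by ring)
  obtain ⟨g₀⟩ := nonempty_oX_zero i
  exact ⟨g ≪≫ g₀⟩

theorem subsingleton_ext_negX [HasExt.{u} X.Modules] (N b : ℕ) (W : X.Modules)
    (hW : ∀ j : ℕ, Subsingleton (Coh.HH X (CohB1.tensorMod (oX i (N : ℤ)) W) (j + 1))) (m : ℕ) :
    Subsingleton (Ext (negX i N b) W (m + 1)) := by
  refine subsingleton_ext_of_class
    (fun V => ∀ j : ℕ, Subsingleton (Coh.HH X (CohB1.tensorMod (oX i (N : ℤ)) V) (j + 1)))
    (fun {S} hS hI h₁ => ⟨fun j => ?_, fun φ => ?_⟩) m W hW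
  · obtain ⟨e⟩ := nonempty_oX_inverse i (N : ℤ)
    have hS' : (S.map (CurvLib.tensorLeft' (oX i (N : ℤ)))).ShortExact :=
      HilbPolyLib.shortExact_tensor (isInvertible_oX i _) hS
    haveI : Injective ((CurvLib.tensorLeft' (oX i (N : ℤ))).obj S.X₂) :=
      (VBP1Lib.inverseEquiv e).symm.map_injective_iff S.X₂ |>.2 hI
    haveI : Subsingleton (Coh.HH X (S.map (CurvLib.tensorLeft' (oX i (N : ℤ)))).X₁ (j + 1 + 1)) := h₁ (j + 1)
    exact (injective_del (k := k) hS'
      (subsingleton_HH_of_injective ((CurvLib.tensorLeft' (oX i (N : ℤ))).obj S.X₂) j)).subsingleton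
  · obtain ⟨e⟩ := nonempty_oX_inverse i (N : ℤ)
    choose ψ hψ using fun a : Fin b => exists_lift_invertible (k := k) (isInvertible_oX i _) e hS (h₁ 0)
      (Sigma.ι (fun _ : Fin b => oX i (-(N : ℤ))) a ≫ φ)
    refine ⟨Sigma.desc ψ, Sigma.hom_ext _ _ fun a => ?_⟩
    rw [Sigma.ι_desc_assoc, hψ]

theorem subsingleton_HH_negX (N b p : ℕ) (h : Subsingleton (Coh.HH X (oX i (-(N : ℤ))) p)) :
    Subsingleton (Coh.HH X (negX i N b) p) := by
  let e : (⨁ fun _ : Fin b => oX i (-(N : ℤ))) ≅ negX i N b :=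
    biproduct.isoCoproduct fun _ : Fin b => oX i (-(N : ℤ))
  refine SerreVanLib.subsingleton_HH_of_iso e.symm p (subsingleton_of_forall_eq 0 fun x => ?_)
  have h1 : x = (∑ a : Fin b, CurvLib.hMap (k := k) (biproduct.π (fun _ : Fin b => oX i (-(N : ℤ))) a ≫
      biproduct.ι (fun _ : Fin b => oX i (-(N : ℤ))) a) p x) := by
    conv_lhs => rw [← hMap_id (k := k) _ p x, ← biproduct.total (f := fun _ : Fin b => oX i (-(N : ℤ)))]
    exact map_sum (PnCohLib.hMapEval (k := k) _ p x) _ _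
  rw [h1]
  refine Finset.sum_eq_zero fun a _ => ?_
  rw [CurvLib.hMap_comp, h.elim (CurvLib.hMap (k := k) (biproduct.π (fun _ : Fin b => oX i (-(N : ℤ))) a) p x) 0,
    map_zero]

theorem isCoh_negX (N b : ℕ) : Coh.IsCoh (negX i N b) := by
  haveI := PnCohLib.isLocallyNoetherian_projSpace (n := r) k
  exact QCohLib.isCoh_of_iso (PreservesCoproduct.iso (Scheme.Modules.pullback i)
    fun _ : Fin b => Twist.twistProjSpace r k (-(N : ℤ))) (ConsLib.isCoh_pullback i (isCoh_neg k r N b))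

theorem exists_negX_epi (F : X.Modules) (hF : Coh.IsCoh F) (N₀ : ℕ) :
    ∃ (N b : ℕ) (g : negX i N b ⟶ F), N₀ ≤ N ∧ Epi g ∧ Coh.IsCoh (kernel g) := by
  haveI := PnCohLib.isLocallyNoetherian_projSpace (n := r) k
  haveI : IsLocallyNoetherian X := LocallyOfFiniteType.isLocallyNoetherian i
  obtain ⟨N, b, g, hN, hg, -⟩ := exists_neg_epi k r ((Coh.push i).obj F) (isCoh_push' i hF) N₀
  haveI := hg
  haveI := CycKSuppLib.isIso_counit i F
  haveI : Epi ((Scheme.Modules.pullback i).map g) := inferInstance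
  let φ : negX i N b ⟶ F := (PreservesCoproduct.iso (Scheme.Modules.pullback i)
    fun _ : Fin b => Twist.twistProjSpace r k (-(N : ℤ))).inv ≫ (Scheme.Modules.pullback i).map g ≫
      (Scheme.Modules.pullbackPushforwardAdjunction i).counit.app F
  haveI : Epi φ := epi_comp _ _
  exact ⟨N, b, φ, hN, inferInstance, QCohLib.isCoh_kernel φ (isCoh_negX i N b) hF.1⟩

theorem exists_serre_vanishing (W : X.Modules) (hW : Coh.IsCoh W) :
    ∃ N₁ : ℕ, ∀ N : ℕ, N₁ ≤ N → ∀ j : ℕ, Subsingleton (Coh.HH X (CohB1.tensorMod (oX i (N : ℤ)) W) (j + 1)) := by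
  obtain ⟨d₀, hd⟩ := PnCohLib.exists_vanishing_twist k ((Coh.push i).obj W) (isCoh_push' i hW)
  refine ⟨d₀.toNat, fun N hN j => ?_⟩
  refine SerreVanLib.subsingleton_HH_of_iso (HilbPolyLib.swapIso (oX i (N : ℤ)) W) (j + 1) ?_
  refine (subsingleton_HH_iff i W hW _ (j + 1)).2 ?_
  exact SerreVanLib.subsingleton_HH_of_iso (HilbPolyLib.swapIso _ _) (j + 1) (hd (N : ℤ) (by omega) (j + 1) (by omega))

/-- The data: a dualizing module and enough acyclic sums of negative twists. -/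
structure DualData (n : ℕ) where
  ω : X.Modules
  t : Coh.HH X ω n →ₗ[k] k
  bij : ∀ G : X.Modules, Coh.IsCoh G → Function.Bijective (pair t G)
  q₀ : ℕ
  s : ℕ
  low : ∀ N b : ℕ, q₀ ≤ N → ∀ p : ℕ, n - s ≤ p → p < n → Subsingleton (Coh.HH X (negX i N b) p)
  ext : ∀ [HasExt.{u} X.Modules] (N b : ℕ), q₀ ≤ N → ∀ m : ℕ, Subsingleton (Ext (negX i N b) ω (m + 1))

theorem nonempty_dualData_of_vanish (n : ℕ) (ω : X.Modules) (hω : Coh.IsCoh ω) (t : Coh.HH X ω n →ₗ[k] k)
    (hdual : ∀ F : X.Modules, Coh.IsCoh F → ∀ ψ : Coh.HH X F n →ₗ[k] k,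
        ∃! φ : F ⟶ ω, ∀ x : Coh.HH X F n,
          ψ x = t (Sheaf.H.map ((SheafOfModules.toSheaf X.ringCatSheaf).map φ) n x))
    (s : ℕ) (hv : ∃ q₁ : ℕ, ∀ q : ℕ, q₁ ≤ q → ∀ p : ℕ, n - s ≤ p → p < n →
      Subsingleton (Coh.HH X (oX i (-(q : ℤ))) p)) :
    ∃ D : DualData i n, D.ω = ω ∧ D.s = s := by
  obtain ⟨q₁, hq⟩ := hv
  obtain ⟨N₁, hN⟩ := exists_serre_vanishing i ω hω
  refine ⟨{ ω := ω, t := t, bij := fun G hG => ?_, q₀ := max q₁ N₁, s := s, low := fun N b hNb p hs hp => ?_,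
            ext := fun N b hNb m => ?_ }, rfl, rfl⟩
  · constructor
    · intro a b hab
      exact (hdual G hG (pair t G a)).unique (fun x => rfl) (fun x => by rw [hab]; rfl)
    · intro ψ
      obtain ⟨φ, hφ, -⟩ := hdual G hG ψ
      exact ⟨φ, LinearMap.ext fun x => (hφ x).symm⟩
  · exact subsingleton_HH_negX i N b p (hq N (le_trans (le_max_left _ _) hNb) p hs hp)
  · exact subsingleton_ext_negX i N b ω (hN N (le_trans (le_max_right _ _) hNb)) m

theorem nonempty_dualData (n : ℕ) (ω : X.Modules) (hω : Coh.IsCoh ω) (t : Coh.HH X ω n →ₗ[k] k)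
    (hdual : ∀ F : X.Modules, Coh.IsCoh F → ∀ ψ : Coh.HH X F n →ₗ[k] k,
        ∃! φ : F ⟶ ω, ∀ x : Coh.HH X F n,
          ψ x = t (Sheaf.H.map ((SheafOfModules.toSheaf X.ringCatSheaf).map φ) n x))
    (hdepth : ∀ x : X, IsClosed ({x} : Set X) → (n : ℕ∞) ≤ LocCoh.depth (X.presheaf.stalk x) (X.presheaf.stalk x)) :
    ∃ D : DualData i n, D.ω = ω ∧ D.s = n := by
  let O := Coh.structureModule X
  have hO : ∀ x : X, IsClosed ({x} : Set X) → (n : ℕ∞) ≤ LocCoh.depth (X.presheaf.stalk x) (O.presheaf.stalk x) :=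
    fun x hx => by
      obtain ⟨e⟩ := AVAmpleLib.nonempty_stalk_structureModule X x
      exact (hdepth x hx).trans_eq (CommAlgDim.depth_congr e)
  obtain ⟨q₁, hq⟩ := exists_vanishing_neg i O (DevissLib.isCoh_structureModule X) n hO
  exact nonempty_dualData_of_vanish i n ω hω t hdual n ⟨q₁, fun q hq' p _ hp =>
    SerreVanLib.subsingleton_HH_of_iso (HilbPolyLib.unitLeft _).symm p (hq q hq' p hp)⟩

variable {i} {n : ℕ} (D : DualData i n)

/-- The pairing, linearly. -/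
def θX (G : X.Modules) : (G ⟶ D.ω) →ₗ[k] Module.Dual k (Coh.HH X G n) where
  toFun := pair D.t G
  map_add' := map_add _
  map_smul' c φ := by
    show pair D.t G (StabLib.smulHom G (cst c) ≫ φ) = c • pair D.t G φ
    rw [smulHom_comp, pair_smulHom]

/-- A chosen cover. -/
structure CovX (F : X.Modules) where
  N : ℕ
  b : ℕ
  g : negX i N b ⟶ F
  big : D.q₀ ≤ N
  epi : Epi g
  coh : Coh.IsCoh (kernel g)

theorem nonempty_covX (F : X.Modules) (hF : Coh.IsCoh F) : Nonempty (CovX D F) := by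
  obtain ⟨N, b, g, hN, hg, hK⟩ := exists_negX_epi i F hF D.q₀
  exact ⟨⟨N, b, g, hN, hg, hK⟩⟩

variable (F : X.Modules) (hF : Coh.IsCoh F)

/-- The syzygies. -/
def syzX : ℕ → {K : X.Modules // Coh.IsCoh K}
  | 0 => ⟨F, hF⟩
  | j + 1 => ⟨kernel (nonempty_covX D (syzX j).1 (syzX j).2).some.g, (nonempty_covX D (syzX j).1 (syzX j).2).some.coh⟩

/-- The cover of a syzygy. -/
def covX (j : ℕ) : CovX D (syzX D F hF j).1 := (nonempty_covX D _ (syzX D F hF j).2).some

/-- The middle term. -/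
abbrev midX (j : ℕ) : X.Modules := negX i (covX D F hF j).N (covX D F hF j).b

/-- The inclusion. -/
def inclX (j : ℕ) : (syzX D F hF (j + 1)).1 ⟶ midX D F hF j := kernel.ι (covX D F hF j).g

/-- One step. -/
def seqX (j : ℕ) : ShortComplex X.Modules :=
  ShortComplex.mk (inclX D F hF j) (covX D F hF j).g (kernel.condition _)

theorem seqX_shortExact (j : ℕ) : (seqX D F hF j).ShortExact :=
  haveI : Epi (covX D F hF j).g := (covX D F hF j).epi
  ShortComplex.ShortExact.mk (mono_f := inferInstanceAs (Mono (kernel.ι _)))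
    (epi_g := inferInstanceAs (Epi (covX D F hF j).g)) (ShortComplex.exact_kernel (covX D F hF j).g)

variable [HasExt.{u} X.Modules]

theorem subsingleton_ext_midX (j m : ℕ) : Subsingleton (Ext (midX D F hF j) D.ω (m + 1)) :=
  D.ext _ _ (covX D F hF j).big m

theorem nonempty_extX_shift : ∀ m j : ℕ,
    Nonempty (Ext (syzX D F hF j).1 D.ω (m + 1) ≃ₗ[k] Ext (syzX D F hF (j + m)).1 D.ω 1)
  | 0, j => ⟨LinearEquiv.refl k _⟩
  | m + 1, j => by
    obtain ⟨e⟩ := nonempty_extX_shift m (j + 1)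
    rw [show j + (m + 1) = j + 1 + m by omega]
    exact ⟨(extDelEquiv (seqX_shortExact D F hF j) (a := m + 1) (b := m + 2) (by omega)
      (subsingleton_ext_midX D F hF j m) (subsingleton_ext_midX D F hF j (m + 1))).symm ≪≫ₗ e⟩

theorem nonempty_extX_one (j : ℕ) : Nonempty (Ext (syzX D F hF j).1 D.ω 1 ≃ₗ[k]
    Module.Dual k ↥(LinearMap.ker (CurvLib.hMap (k := k) (inclX D F hF j) n))) := by
  let hS := seqX_shortExact D F hF j
  let f := CurvLib.hMap (k := k) (inclX D F hF j) n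
  let δ := extDel₀ (R := k) hS (Y := D.ω)
  let g : ((syzX D F hF (j + 1)).1 ⟶ D.ω) →ₗ[k] Module.Dual k ↥(LinearMap.ker f) :=
    (LinearMap.ker f).subtype.dualMap.comp (θX D _)
  have hθ₁ := D.bij _ (syzX D F hF (j + 1)).2
  have hθ₂ := D.bij (midX D F hF j) (isCoh_negX i _ _)
  have hg : Function.Surjective g :=
    (LinearMap.dualMap_surjective_of_injective (Submodule.injective_subtype _)).comp hθ₁.2
  have hk : LinearMap.ker δ = LinearMap.ker g := by
    ext φ
    rw [LinearMap.mem_ker, LinearMap.mem_ker, extDel₀_eq_zero_iff hS]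
    constructor
    · rintro ⟨b, rfl⟩
      refine LinearMap.ext fun x => ?_
      show pair D.t _ (inclX D F hF j ≫ b) x.1 = 0
      rw [pair_comp, x.2, map_zero]
    · intro h
      have hmem : pair D.t _ φ ∈ (LinearMap.ker f).dualAnnihilator := by
        rw [Submodule.mem_dualAnnihilator]
        exact fun x hx => LinearMap.congr_fun h ⟨x, hx⟩
      rw [← LinearMap.range_dualMap_eq_dualAnnihilator_ker] at hmem
      obtain ⟨ξ, hξ⟩ := hmem
      obtain ⟨b, rfl⟩ := hθ₂.2 ξ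
      refine ⟨b, hθ₁.1 ?_⟩
      refine Eq.trans (LinearMap.ext fun x => ?_) hξ
      show pair D.t _ (inclX D F hF j ≫ b) x = _
      rw [pair_comp]
      rfl
  exact ⟨(LinearMap.quotKerEquivOfSurjective δ (extDel₀_surjective hS (subsingleton_ext_midX D F hF j 0))).symm ≪≫ₗ
    Submodule.quotEquivOfEq _ _ hk ≪≫ₗ LinearMap.quotKerEquivOfSurjective g hg⟩

theorem subsingleton_midX (j p : ℕ) (hp : p < n) (hs : n - D.s ≤ p) : Subsingleton (Coh.HH X (midX D F hF j) p) :=
  D.low _ _ (covX D F hF j).big p hs hp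

theorem nonempty_kerX_equiv (j p : ℕ) (hp : p + 1 = n) (hs : n - D.s ≤ p) :
    Nonempty (↥(LinearMap.ker (CurvLib.hMap (k := k) (inclX D F hF j) n)) ≃ₗ[k] Coh.HH X (syzX D F hF j).1 p) := by
  subst hp
  have hS := seqX_shortExact D F hF j
  have hinj := injective_del (k := k) hS (subsingleton_midX D F hF j p (by omega) hs)
  exact ⟨((LinearEquiv.ofInjective _ hinj) ≪≫ₗ LinearEquiv.ofEq _ _ (CurvLib.exact₁ (k := k) hS p)).symm⟩

theorem nonempty_HX_shift : ∀ m j p : ℕ, p + m < n → n - D.s ≤ p →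
    Nonempty (Coh.HH X (syzX D F hF j).1 p ≃ₗ[k] Coh.HH X (syzX D F hF (j + m)).1 (p + m))
  | 0, j, p, _, _ => ⟨LinearEquiv.refl k _⟩
  | m + 1, j, p, h, hs => by
    obtain ⟨e⟩ := nonempty_HX_shift m (j + 1) (p + 1) (by omega) (by omega)
    rw [show j + (m + 1) = j + 1 + m by omega, show p + (m + 1) = p + 1 + m by omega]
    exact ⟨delEquiv (k := k) (seqX_shortExact D F hF j) (subsingleton_midX D F hF j p (by omega) hs)
      (subsingleton_midX D F hF j (p + 1) (by omega) (by omega)) ≪≫ₗ e⟩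

include hF in
/-- **`Extᵐ(F, ω)` is dual to `Hⁿ⁻ᵐ(F)`.** -/
theorem nonempty_extX_dual (m : ℕ) (hm : m ≤ n) (hs : m ≤ D.s) :
    Nonempty (Ext F D.ω m ≃ₗ[k] Module.Dual k (Coh.HH X F (n - m))) := by
  match m, hm, hs with
  | 0, _, _ => exact ⟨Ext.linearEquiv₀ ≪≫ₗ LinearEquiv.ofBijective (θX D F) (D.bij F hF)⟩
  | m + 1, hm, hs =>
    obtain ⟨e₁⟩ := nonempty_extX_shift D F hF m 0
    obtain ⟨e₂⟩ := nonempty_extX_one D F hF (0 + m)
    obtain ⟨e₃⟩ := nonempty_kerX_equiv D F hF (0 + m) (n - (m + 1) + m) (by omega) (by omega)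
    obtain ⟨e₄⟩ := nonempty_HX_shift D F hF m 0 (n - (m + 1)) (by omega) (by omega)
    exact ⟨e₁ ≪≫ₗ e₂ ≪≫ₗ (e₄ ≪≫ₗ e₃.symm).dualMap⟩

theorem subsingleton_syzX_succ_zero (j : ℕ) (hn : 0 < n) (hs : n ≤ D.s) :
    Subsingleton (Coh.HH X (syzX D F hF (j + 1)).1 0) := by
  haveI : Subsingleton (Coh.HH X (seqX D F hF j).X₂ 0) := subsingleton_midX D F hF j 0 hn (by omega)
  exact (CurvLib.injective₀ (k := k) (seqX_shortExact D F hF j)).subsingleton

theorem subsingleton_syzX_top (j p : ℕ) (hp : p < n) (hj : p < j) (hs : n ≤ D.s) :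
    Subsingleton (Coh.HH X (syzX D F hF j).1 p) := by
  obtain ⟨a, rfl⟩ : ∃ a, j = a + 1 + p := ⟨j - p - 1, by omega⟩
  obtain ⟨e⟩ := nonempty_HX_shift D F hF p (a + 1) 0 (by omega) (by omega)
  haveI := subsingleton_syzX_succ_zero D F hF a (by omega) hs
  rw [Nat.zero_add] at e
  exact e.symm.toEquiv.subsingleton

theorem subsingleton_kerX (j : ℕ) (hj : n ≤ j) (hs : n ≤ D.s) :
    Subsingleton ↥(LinearMap.ker (CurvLib.hMap (k := k) (inclX D F hF j) n)) := by
  match n, D, hj, hs with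
  | 0, D, _, _ =>
    exact ⟨fun a b => Subtype.ext
      (CurvLib.injective₀ (k := k) (seqX_shortExact D F hF j) (a.2.trans b.2.symm))⟩
  | p + 1, D, hj, hs =>
    obtain ⟨e₃⟩ := nonempty_kerX_equiv D F hF j p rfl (by omega)
    haveI := subsingleton_syzX_top D F hF j p (Nat.lt_succ_self p) (by omega) hs
    exact e₃.toEquiv.subsingleton

include hF in
/-- **`Extᵐ(F, ω) = 0` above the dimension.** -/
theorem subsingleton_extX_above (m : ℕ) (hm : n < m) (hs : n ≤ D.s) : Subsingleton (Ext F D.ω m) := by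
  obtain ⟨m, rfl⟩ : ∃ m', m = m' + 1 := ⟨m - 1, by omega⟩
  obtain ⟨e₁⟩ := nonempty_extX_shift D F hF m 0
  obtain ⟨e₂⟩ := nonempty_extX_one D F hF (0 + m)
  haveI := subsingleton_kerX D F hF (0 + m) (by omega) hs
  have e : Ext F D.ω (m + 1) ≃ₗ[k] Module.Dual k ↥(LinearMap.ker (CurvLib.hMap (k := k) (inclX D F hF (0 + m)) n)) :=
    LinearEquiv.trans (show Ext F D.ω (m + 1) ≃ₗ[k] Ext (syzX D F hF (0 + m)).1 D.ω 1 from e₁) e₂
  exact e.toEquiv.subsingleton

end PnDualLib
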