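import Groth.Agent.PnDualLib.HomExt
import Groth.Agent.CohCmpLib.HC

/-!
# `Extⁱ(F, W) = Hⁱ(Hom(F, W))`, additively, on any scheme
-/

set_option autoImplicit false
set_option linter.unusedSectionVars false
set_option linter.style.haveILetI false
set_option backward.isDefEq.respectTransparency false
set_option backward.isDefEq.respectTransparency.types false
universe u

open CategoryTheory CategoryTheory.Limits AlgebraicGeometry TopologicalSpace Opposite
open CohCmpLib (homMod HC hm hd h0E)

noncomputable section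

namespace PnDualLib

open Abelian

variable {X : Scheme.{u}} {F : X.Modules}

/-- Morphisms as classes in degree zero. -/
def homH0Add (F W : X.Modules) : (F ⟶ W) ≃+ HC X (homMod F W) 0 where
  toFun φ := (h0E _).symm (HomCohLib.ofHom φ)
  map_add' φ ψ := by
    rw [← map_add]
    refine congrArg _ (CohCmpLib.homMod_ext fun y hy => ?_)
    show ((DerSch.stalkFunctor X y).map (φ + ψ)).hom = _
    rw [Functor.map_add]
    rfl
  invFun x := HomCohLib.toHom (h0E _ x)
  left_inv φ := by
    show HomCohLib.toHom (h0E _ ((h0E _).symm _)) = φ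
    rw [AddEquiv.apply_symm_apply, HomCohLib.toHom_ofHom]
  right_inv x := by
    show (h0E _).symm (HomCohLib.ofHom (HomCohLib.toHom (h0E _ x))) = x
    rw [HomCohLib.ofHom_toHom, AddEquiv.symm_apply_apply]

theorem homH0Add_natural {W W' : X.Modules} (g : W ⟶ W') (φ : F ⟶ W) :
    hm (HomCohLib.mapR F g) 0 (homH0Add F W φ) = homH0Add F W' (φ ≫ g) := by
  refine (h0E _).injective ?_
  refine (CohCmpLib.h0E_hm (HomCohLib.mapR F g) _).trans ?_
  show (HomCohLib.mapR F g).app ⊤ (h0E _ ((h0E _).symm _)) = h0E _ ((h0E _).symm _)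
  rw [AddEquiv.apply_symm_apply, AddEquiv.apply_symm_apply, HomCohLib.ofHom_comp]

theorem nonempty_ext_homMod_add (hF : FlatMod.IsFinLocFree F) [HasExt.{u} X.Modules] :
    ∀ (i : ℕ) (W : X.Modules), Nonempty (Ext F W i ≃+ HC X (homMod F W) i) := by
  haveI : EnoughInjectives X.Modules := ModSiteLib.sheafOfModules_enoughInjectives (R := X.ringCatSheaf)
  intro i
  match i with
  | 0 => exact fun W => ⟨Ext.addEquiv₀.trans (homH0Add F W)⟩
  | i + 1 =>
    intro W
    let T : ShortComplex X.Modules := ShortComplex.mk (Injective.ι W) (cokernel.π _) (cokernel.condition _)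
    have hT : T.ShortExact := ShortComplex.ShortExact.mk (ShortComplex.exact_cokernel _)
    haveI : Injective T.X₂ := inferInstanceAs (Injective (Injective.under W))
    have hT' := homSeq_shortExact hF hT
    haveI : Injective (homSeq F T).X₂ := injective_homMod hF T.X₂
    have hI : ∀ p : ℕ, Subsingleton (HC X (homSeq F T).X₂ (p + 1)) := fun p =>
      subsingleton_HH_of_injective (homSeq F T).X₂ p
    have hdsurj : Function.Surjective (hd hT' i) := fun y =>
      CohCmpLib.hd_exact₁ hT' i y ((hI i).elim _ _)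
    match i with
    | 0 =>
      let δ : (F ⟶ T.X₃) →+ Ext F T.X₁ 1 :=
        ((hT.extClass.postcomp F (rfl : 0 + 1 = 1))).comp Ext.addEquiv₀.symm.toAddMonoidHom
      let g : (F ⟶ T.X₃) →+ HC X (homMod F W) 1 := (hd hT' 0).comp (homH0Add F T.X₃).toAddMonoidHom
      have hg : Function.Surjective g := hdsurj.comp (homH0Add F T.X₃).surjective
      have hδ : Function.Surjective δ := fun x => by
        obtain ⟨y, hy⟩ := Ext.covariant_sequence_exact₁ F hT x (Ext.eq_zero_of_injective _) (rfl : 0 + 1 = 1)
        obtain ⟨a, rfl⟩ := Ext.addEquiv₀.symm.surjective y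
        exact ⟨a, hy⟩
      have hk : δ.ker = g.ker := by
        ext φ
        rw [AddMonoidHom.mem_ker, AddMonoidHom.mem_ker]
        constructor
        · intro h
          obtain ⟨y, hy⟩ := Ext.covariant_sequence_exact₃ F hT (Ext.mk₀ φ) (rfl : 0 + 1 = 1) h
          obtain ⟨ψ, rfl⟩ := Ext.homEquiv₀.symm.surjective y
          obtain rfl : ψ ≫ T.g = φ :=
            Ext.homEquiv₀.symm.injective ((Ext.mk₀_comp_mk₀ ψ T.g).symm.trans hy)
          show hd hT' 0 (homH0Add F T.X₃ (ψ ≫ T.g)) = 0
          rw [← homH0Add_natural]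
          exact CohCmpLib.hm_g_hd hT' 0 _
        · intro h
          obtain ⟨x, hx⟩ := CohCmpLib.hd_exact₃ hT' 0 _ h
          obtain ⟨ψ, rfl⟩ := (homH0Add F T.X₂).surjective x
          obtain rfl : ψ ≫ T.g = φ := (homH0Add F T.X₃).injective ((homH0Add_natural T.g ψ).symm.trans hx)
          show (Ext.mk₀ (ψ ≫ T.g)).comp hT.extClass (rfl : 0 + 1 = 1) = 0
          rw [← Ext.mk₀_comp_mk₀, Ext.comp_assoc_of_second_deg_zero, hT.comp_extClass, Ext.comp_zero]
      exact ⟨(QuotientAddGroup.quotientKerEquivOfSurjective δ hδ).symm.trans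
        ((QuotientAddGroup.quotientAddEquivOfEq hk).trans (QuotientAddGroup.quotientKerEquivOfSurjective g hg))⟩
    | i + 1 =>
      obtain ⟨e⟩ := nonempty_ext_homMod_add hF (i + 1) T.X₃
      let c : Ext F T.X₃ (i + 1) →+ Ext F T.X₁ (i + 1 + 1) := hT.extClass.postcomp F rfl
      have hc : Function.Bijective c := by
        refine ⟨(injective_iff_map_eq_zero _).2 fun x hx => ?_, fun x => ?_⟩
        · obtain ⟨y, rfl⟩ := Ext.covariant_sequence_exact₃ F hT x rfl hx
          rw [Ext.eq_zero_of_injective y, Ext.zero_comp]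
        · exact Ext.covariant_sequence_exact₁ F hT x (Ext.eq_zero_of_injective _) rfl
      have hinj : Function.Injective (hd hT' (i + 1)) := (injective_iff_map_eq_zero _).2 fun x hx => by
        obtain ⟨y, rfl⟩ := CohCmpLib.hd_exact₃ hT' (i + 1) x hx
        rw [(hI i).elim y 0, map_zero]
      exact ⟨(AddEquiv.ofBijective c hc).symm.trans (e.trans (AddEquiv.ofBijective _ ⟨hinj, hdsurj⟩))⟩

/-- Isomorphic modules have the same cohomology. -/
def hmIso {M N : X.Modules} (e : M ≅ N) (p : ℕ) : HC X M p ≃+ HC X N p :=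
  { hm e.hom p with
    invFun := hm e.inv p
    left_inv := fun x => by
      show hm e.inv p (hm e.hom p x) = x
      rw [← CohCmpLib.hm_comp, e.hom_inv_id, CohCmpLib.hm_id]
    right_inv := fun x => by
      show hm e.hom p (hm e.inv p x) = x
      rw [← CohCmpLib.hm_comp, e.inv_hom_id, CohCmpLib.hm_id] }

end PnDualLib
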