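import Groth.Agent.PnDualLib.Embed
import Groth.Agent.GrTwistLib.Ample
import Groth.Agent.ProjTopLib.Noeth
import Groth.Agent.AmpleThLib.Pow
import Groth.Agent.RegFlatLib.Basic
import Groth.Agent.FibDimLib.Comps
import Groth.Agent.CurveVBLib.Integral
import Groth.Agent.VBResLib.Basic
import Groth.Agent.MiscFlat6.FreeStalks
import Groth.Agent.PerfLib.Coherent
import Groth.Agent.S1617

/-!
# Twists on the projective spectrum of an algebra generated in degree one
-/

set_option autoImplicit false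
set_option linter.unusedSectionVars false
set_option linter.style.haveILetI false
set_option backward.isDefEq.respectTransparency false
set_option backward.isDefEq.respectTransparency.types false
universe u

open CategoryTheory CategoryTheory.Limits AlgebraicGeometry TopologicalSpace Opposite
open GrTwistLib (Unit' val sec_ext)
open AmpleLib (res shT GenOn)

noncomputable section

namespace PnDualLib

section Twist

variable {A σ : Type u} [CommRing A] [SetLike σ A] [AddSubgroupClass σ A] {𝒜 : ℕ → σ} [GradedRing 𝒜]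

/-- Products of invertible fractions. -/
def mulUnit {m n q : ℤ} (h : m + n = q) {U : (Proj 𝒜).Opens} (g : Unit' 𝒜 m U) (g' : Unit' 𝒜 n U) : Unit' 𝒜 q U :=
  ⟨g.i + g'.i, g.j + g'.j, g.num * g'.num, g.den * g'.den, SetLike.mul_mem_graded g.num_mem g'.num_mem,
    SetLike.mul_mem_graded g.den_mem g'.den_mem,
    by have := g.deg; have := g'.deg; push_cast; omega,
    fun x hh => (x.1.isPrime.mem_or_mem hh).elim (g.num_nin x) (g'.num_nin x),
    fun x hh => (x.1.isPrime.mem_or_mem hh).elim (g.den_nin x) (g'.den_nin x)⟩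

theorem val_mulUnit {m n q : ℤ} (h : m + n = q) {U : (Proj 𝒜).Opens} (g : Unit' 𝒜 m U) (g' : Unit' 𝒜 n U) (x : U) :
    val (mulUnit h g g').sec x = val g.sec x * val g'.sec x := by
  simp only [Unit'.sec, GrTwistLib.val_fracSec, Localization.mk_mul]
  rfl

/-- The fraction one. -/
def oneUnit (U : (Proj 𝒜).Opens) : Unit' 𝒜 0 U :=
  ⟨0, 0, 1, 1, SetLike.GradedOne.one_mem, SetLike.GradedOne.one_mem, by simp,
    fun x hh => x.1.isPrime.ne_top ((Ideal.eq_top_iff_one _).mpr hh),
    fun x hh => x.1.isPrime.ne_top ((Ideal.eq_top_iff_one _).mpr hh)⟩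

theorem nonempty_twist_zero : Nonempty (Coh.structureModule (Proj 𝒜) ≅ GrTwist.twist 𝒜 0) := by
  obtain ⟨φ, -⟩ := AmpleThLib.exists_iso_gens (M := Coh.structureModule (Proj 𝒜)) (N := GrTwist.twist 𝒜 0)
    (fun _ : Unit => (⊤ : (Proj 𝒜).Opens)) (fun _ => (show Γ(Proj 𝒜, ⊤) from 1))
    (fun _ => (oneUnit ⊤).sec) (fun x => ⟨(), trivial⟩) (fun _ => AmpleLib.one_genOn _) (fun _ => Unit'.genOn _)
    (fun _ _ V ha hb => ⟨1, one_smul _ _, one_smul _ _⟩)
  exact ⟨φ⟩

variable (hcov : ∀ x : Proj 𝒜, ∃ f ∈ 𝒜 1, x ∈ Proj.basicOpen 𝒜 f)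

include hcov in
theorem nonempty_twist_add {m n q : ℤ} (h : m + n = q) :
    Nonempty (CohB1.tensorMod (GrTwist.twist 𝒜 m) (GrTwist.twist 𝒜 n) ≅ GrTwist.twist 𝒜 q) := by
  let D : {f : A // f ∈ 𝒜 1} → (Proj 𝒜).Opens := fun f => Proj.basicOpen 𝒜 f.1
  let u : ∀ (l : ℤ) (f : {f : A // f ∈ 𝒜 1}), Unit' 𝒜 l (D f) := fun l f =>
    cast (congrArg (fun m => Unit' 𝒜 m (D f)) (by simp : l * ((1 : ℕ) : ℤ) = l)) (GrTwistLib.powUnit 𝒜 f.2 l)
  obtain ⟨φ, -⟩ := AmpleThLib.exists_iso_gens D (fun f => shT (u m f).sec (u n f).sec)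
    (fun f => (mulUnit h (u m f) (u n f)).sec) (fun x => by
      obtain ⟨f, hf, hx⟩ := hcov x
      exact ⟨⟨f, hf⟩, hx⟩)
    (fun f => AmpleThLib.shT_genOn (u m f).genOn (u n f).genOn) (fun f => Unit'.genOn _)
    (fun a b V ha hb => by
      obtain ⟨c, hc⟩ := ((u m a).genOn V ha).2 (res _ hb (u m b).sec)
      obtain ⟨d, hd⟩ := ((u n a).genOn V ha).2 (res _ hb (u n b).sec)
      dsimp only at hc hd
      refine ⟨c * d, ?_, sec_ext fun x => ?_⟩
      · rw [AmpleLib.shT_res, AmpleLib.shT_res, ← hc, ← hd, AmpleLib.shT_smul]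
      · have h1 := congrArg (fun t => val t x) hc
        have h2 := congrArg (fun t => val t x) hd
        simp only [GrTwistLib.val_smul, GrTwistLib.val_res] at h1 h2
        rw [GrTwistLib.val_smul, GrTwistLib.val_res, GrTwistLib.val_res, val_mulUnit, val_mulUnit, ← h1, ← h2,
          show ((show GrTwist.O (op V) from c * d).1 x).val =
            ((show GrTwist.O (op V) from c).1 x).val * ((show GrTwist.O (op V) from d).1 x).val from
            HomogeneousLocalization.val_mul _ _]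
        ring)
  exact ⟨φ⟩

include hcov in
theorem nonempty_tensorPow_twist : ∀ m : ℕ,
    Nonempty (CohB1.tensorPow (GrTwist.twist 𝒜 (-1)) m ≅ GrTwist.twist 𝒜 (-(m : ℤ)))
  | 0 => by
    obtain ⟨e⟩ := nonempty_twist_zero (𝒜 := 𝒜)
    exact ⟨e ≪≫ eqToIso (by simp)⟩
  | m + 1 => by
    obtain ⟨e⟩ := nonempty_tensorPow_twist m
    obtain ⟨f⟩ := nonempty_twist_add hcov (m := -(m : ℤ)) (n := -1) (q := -((m + 1 : ℕ) : ℤ))
      (by push_cast; ring)
    exact ⟨HilbPolyLib.congrLeft e _ ≪≫ f⟩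

include hcov in
theorem isInverseOf_twist : ClSub.IsInverseOf (GrTwist.twist 𝒜 1) (GrTwist.twist 𝒜 (-1)) := by
  obtain ⟨f⟩ := nonempty_twist_add hcov (m := 1) (n := -1) (q := 0) (by norm_num)
  obtain ⟨e⟩ := nonempty_twist_zero (𝒜 := 𝒜)
  exact ⟨f ≪≫ e.symm⟩

end Twist

section Ring

variable {K : Type u} [Field K] {A : Type u} [CommRing A] [Algebra K A] {𝒜 : ℕ → Submodule K A} [GradedAlgebra 𝒜]
  (hgen : (HomogeneousIdeal.irrelevant 𝒜).toIdeal = Ideal.span (𝒜 1 : Set A))

include hgen in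
theorem exists_finset_cover [IsNoetherianRing A] :
    ∃ s : Finset A, (∀ f ∈ s, f ∈ 𝒜 1) ∧ ∀ x : Proj 𝒜, ∃ f ∈ s, x ∈ Proj.basicOpen 𝒜 f := by
  obtain ⟨s, hs, hspan⟩ := Submodule.fg_span_iff_fg_span_finset_subset (R := A) (𝒜 1 : Set A) |>.1
    (IsNoetherian.noetherian (Submodule.span A (𝒜 1 : Set A)))
  refine ⟨s, fun f hf => hs hf, fun x => ?_⟩
  by_contra! hx
  refine x.not_irrelevant_le ?_
  have : Ideal.span (𝒜 1 : Set A) ≤ x.asHomogeneousIdeal.toIdeal := by
    show Submodule.span A (𝒜 1 : Set A) ≤ _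
    rw [hspan]
    exact Submodule.span_le.2 fun f hf => not_not.1 (hx f hf)
  exact fun a ha => this (hgen.le ha)

variable (h0 : ∀ a : A, a ∈ 𝒜 0 ↔ a ∈ Set.range (algebraMap K A))

include h0 in
theorem bijective_algebraMap_zero [Nonempty (Proj 𝒜)] : Function.Bijective (algebraMap K (𝒜 0)) := by
  haveI : Nontrivial A := by
    by_contra h
    rw [not_nontrivial_iff_subsingleton] at h
    obtain ⟨x⟩ := (inferInstance : Nonempty (Proj 𝒜))
    exact x.isPrime.ne_top (Subsingleton.elim _ _)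
  haveI : Nontrivial (𝒜 0) := ⟨⟨1, 0, fun h => one_ne_zero (α := A) (congrArg Subtype.val h)⟩⟩
  refine ⟨(algebraMap K (𝒜 0)).injective, fun a => ?_⟩
  obtain ⟨c, hc⟩ := (h0 a.1).1 a.2
  exact ⟨c, Subtype.ext hc⟩

end Ring

section Free

variable {X : Scheme.{u}} {k : Type u} [Field k] [X.Over (Spec (CommRingCat.of k))]
  [IsProper (X ↘ Spec (CommRingCat.of k))] [ConnectedSpace X]
  (hreg : ∀ x : X, IsRegularLocalRing (X.presheaf.stalk x)) {d : ℕ} (hd : topologicalKrullDim X = d)

include k hreg hd in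
theorem dim_stalk_closed (x : X) (hx : IsClosed ({x} : Set X)) : ringKrullDim (X.presheaf.stalk x) = d := by
  haveI := CurvLib.isNoetherian k (X := X)
  haveI : ∀ y : X, IsDomain (X.presheaf.stalk y) := fun y =>
    haveI := hreg y; CommAlgDim.isDomain_of_isRegularLocalRing _
  haveI : IsIntegral X := CurveVBLib.isIntegral_of_connected
  rw [← Groth.Agent.S1617.result k X x hx, FibDimLib.localDim_of_irreducible (X ↘ Spec (CommRingCat.of k)) x, hd]

include k hreg hd in
theorem isFinLocFree_iff_depth {F : X.Modules} (hF : Coh.IsCoh F) : FlatMod.IsFinLocFree F ↔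
    ∀ x : X, IsClosed ({x} : Set X) → (d : ℕ∞) ≤ LocCoh.depth (X.presheaf.stalk x) (F.presheaf.stalk x) := by
  haveI := CurvLib.isNoetherian k (X := X)
  haveI := hF.1
  have hsp : ∀ x : X, IsClosed ({x} : Set X) →
      (IsLocalRing.maximalIdeal (X.presheaf.stalk x)).spanFinrank = d := fun x hx => by
    haveI := hreg x
    have h := (isRegularLocalRing_iff (X.presheaf.stalk x)).1 (hreg x)
    rw [dim_stalk_closed (k := k) hreg hd x hx] at h
    exact_mod_cast h
  constructor
  · intro h x hx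
    haveI : Module.Free (X.presheaf.stalk x) (F.presheaf.stalk x) := MiscFlat6.free_stalk_of_isFinLocFree h x
    haveI := DepthLib.finite_stalk F hF.2 x
    haveI := hreg x
    have hOd : (d : ℕ∞) ≤ LocCoh.depth (X.presheaf.stalk x) (X.presheaf.stalk x) := by
      obtain ⟨rs, hrs, hl⟩ := CommAlgDim.isCM_of_isRegularLocalRing (X.presheaf.stalk x)
      rw [dim_stalk_closed (k := k) hreg hd x hx] at hl
      have hl' : rs.length = d := by exact_mod_cast hl.symm
      refine (CommAlgDim.le_depth_iff d).2 ⟨rs, hl', fun r hr => ?_, hrs.toIsWeaklyRegular⟩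
      by_contra hu
      refine hrs.top_ne_smul ?_
      rw [Ideal.eq_top_of_isUnit_mem (Ideal.ofList rs) (Ideal.subset_span hr) (IsLocalRing.notMem_maximalIdeal.1 hu)]
      exact (Submodule.top_smul _).symm
    rw [CommAlgDim.le_depth_iff] at hOd ⊢
    obtain ⟨rs, hl, hm, hr⟩ := hOd
    exact ⟨rs, hl, hm, ((TensorProduct.rid _ _).isWeaklyRegular_congr rs).1 hr.isWeaklyRegular_lTensor⟩
  · intro h
    have hfree : ∀ x : X, Module.Free (X.presheaf.stalk x) (F.presheaf.stalk x) := by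
      intro x
      obtain ⟨y, hxy, hy⟩ := IsClosed.exists_closed_singleton (isClosed_closure (s := ({x} : Set X)))
        ⟨x, subset_closure rfl⟩
      haveI := hreg y
      haveI := DepthLib.finite_stalk F hF.2 y
      have hyf : Module.Free (X.presheaf.stalk y) (F.presheaf.stalk y) :=
        RegFlatLib.free_of_hasSeqIn d _ (hsp y hy) _ ((CommAlgDim.le_depth_iff d).1 (h y hy))
      exact (specializes_iff_mem_closure.2 hxy).mem_open (VBResLib.isOpen_free hF) hyf
    exact MiscFlat6.isFP_and_free_iff.1 ⟨QCohLib.isFP_of_isCoh F hF, hfree⟩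

end Free

end PnDualLib
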