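import Groth.Agent.PnDualLib.Duality
import Groth.Agent.ProjFormLib.Proj
import Groth.Agent.QCohLib.Push
import Groth.Agent.CycPushLib.SheafPush
import Groth.Agent.DevissLib.ClosedImm
import Groth.Agent.CommAlgDim.Depth
import Groth.Agent.AmpleAffLib.Gen
import Groth.Agent.IntMultLib.Asymp
import Groth.Agent.PnCohLib.EmbeddedVan
import Groth.Agent.S9710
import Groth.Agent.S14435

/-!
# Negative twists on a projective scheme
-/

set_option autoImplicit false
set_option linter.unusedSectionVars false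
set_option linter.style.haveILetI false
set_option maxHeartbeats 800000
set_option backward.isDefEq.respectTransparency false
set_option backward.isDefEq.respectTransparency.types false
universe u

open CategoryTheory CategoryTheory.Limits AlgebraicGeometry TopologicalSpace Opposite

noncomputable section

namespace PnDualLib

variable {k : Type u} [Field k] {r : ℕ} {X : Scheme.{u}} (i : X ⟶ CohB1.ProjSpace r k) [IsClosedImmersion i]

/-- The pullback of `O(t)`. -/
abbrev oX (t : ℤ) : X.Modules := (Scheme.Modules.pullback i).obj (Twist.twistProjSpace r k t)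

theorem nonempty_push_twist (G : X.Modules) (t : ℤ) :
    Nonempty ((tw' k r t).obj ((Coh.push i).obj G) ≅ (Coh.push i).obj (CohB1.tensorMod G (oX i t))) :=
  ⟨(ProjFormLib.projIso' i (Twist.twistProjSpace r k t)
      (AmpleDevLib.isFinLocFree_of_isInvertible (PicPnLib.twist_inv r k t))).app G ≪≫
    (Coh.push i).mapIso (HilbPolyLib.swapIso (oX i t) G)⟩

theorem isInvertible_oX (t : ℤ) : PicF.IsInvertible (oX i t) :=
  AmpleDevLib.isInvertible_pb i (PicPnLib.twist_inv r k t)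

theorem isCoh_push' {G : X.Modules} (hG : Coh.IsCoh G) : Coh.IsCoh ((Coh.push i).obj G) := by
  haveI := PnCohLib.isLocallyNoetherian_projSpace (n := r) k
  exact QCohLib.isCoh_push_finite i G hG

theorem subsingleton_HH_iff (G : X.Modules) (hG : Coh.IsCoh G) (t : ℤ) (p : ℕ) :
    Subsingleton (Coh.HH X (CohB1.tensorMod G (oX i t)) p) ↔
      Subsingleton (Coh.HH (CohB1.ProjSpace r k) ((tw' k r t).obj ((Coh.push i).obj G)) p) := by
  haveI : Coh.IsQCoh (CohB1.tensorMod G (oX i t)) := (SerreVanLib.isCoh_tensor hG (isInvertible_oX i t)).1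
  obtain ⟨e⟩ := QCohLib.nonempty_HH_push i (CohB1.tensorMod G (oX i t)) p
  obtain ⟨f⟩ := nonempty_push_twist i G t
  rw [e.toEquiv.subsingleton_congr]
  exact ⟨fun h => SerreVanLib.subsingleton_HH_of_iso f p h,
    fun h => SerreVanLib.subsingleton_HH_of_iso f.symm p h⟩

theorem depth_push (G : X.Modules) (hG : Coh.IsCoh G) (z : X) :
    LocCoh.depth ((CohB1.ProjSpace r k).presheaf.stalk (i z)) (((Coh.push i).obj G).presheaf.stalk (i z)) =
      LocCoh.depth (X.presheaf.stalk z) (G.presheaf.stalk z) := by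
  haveI := hG.1
  haveI := PnCohLib.isLocallyNoetherian_projSpace (n := r) k
  let A := (CohB1.ProjSpace r k).presheaf.stalk (i z)
  let B := X.presheaf.stalk z
  letI : Algebra A B := (i.stalkMap z).hom.toAlgebra
  letI : Module A (G.presheaf.stalk z) := Module.compHom _ (i.stalkMap z).hom
  haveI : IsScalarTower A B (G.presheaf.stalk z) := IsScalarTower.of_compHom _ _ _
  let σ := (TopCat.Presheaf.stalkPushforward AddCommGrpCat i.base G.presheaf z).hom
  let σ' : ((Coh.push i).obj G).presheaf.stalk (i z) →ₗ[A] G.presheaf.stalk z :=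
    { toFun := fun a => σ a
      map_add' := fun a b => map_add σ a b
      map_smul' := fun c a => DegPullLib.stalkPushforward_smul i G z c a }
  let e := LinearEquiv.ofBijective σ' (DegPullLib.bijective_stalkPushforward i i.isClosedEmbedding.isClosedMap
    G z fun w hw => i.isClosedEmbedding.injective hw)
  have hs : Function.Surjective (algebraMap A B) := i.stalkMap_surjective z
  haveI : Module.Finite A B := Module.Finite.of_surjective (Algebra.linearMap A B) hs
  haveI : Module.Finite B (G.presheaf.stalk z) := DepthLib.finite_stalk G hG.2 z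
  rw [CommAlgDim.depth_congr e]
  show LocCoh.idealDepth (IsLocalRing.maximalIdeal A) (G.presheaf.stalk z) =
    LocCoh.idealDepth (IsLocalRing.maximalIdeal B) (G.presheaf.stalk z)
  rw [Groth.Agent.S14435.result (A := A) (B := B) (IsLocalRing.maximalIdeal A) le_rfl (G.presheaf.stalk z)]
  congr 1
  haveI : IsLocalHom (algebraMap A B) := inferInstanceAs (IsLocalHom (i.stalkMap z).hom)
  rcases Ideal.map_eq_top_or_isMaximal_of_surjective (algebraMap A B) hs
    (inferInstance : (IsLocalRing.maximalIdeal A).IsMaximal) with h | h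
  · have h1 : (⊤ : Ideal B) ≤ IsLocalRing.maximalIdeal B :=
      h.ge.trans (((IsLocalRing.local_hom_TFAE (algebraMap A B)).out 0 2).1 ‹IsLocalHom (algebraMap A B)›)
    exact absurd (top_le_iff.1 h1) (IsLocalRing.maximalIdeal.isMaximal B).ne_top
  · exact IsLocalRing.eq_maximalIdeal h

theorem depth_push_ge (G : X.Modules) (hG : Coh.IsCoh G) (c : ℕ)
    (hc : ∀ x : X, IsClosed ({x} : Set X) → (c : ℕ∞) ≤ LocCoh.depth (X.presheaf.stalk x) (G.presheaf.stalk x))
    (y : CohB1.ProjSpace r k) (hy : IsClosed ({y} : Set (CohB1.ProjSpace r k))) :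
    (c : ℕ∞) ≤ LocCoh.depth ((CohB1.ProjSpace r k).presheaf.stalk y) (((Coh.push i).obj G).presheaf.stalk y) := by
  by_cases h : y ∈ Set.range ⇑i
  · obtain ⟨z, rfl⟩ := h
    rw [depth_push i G hG z]
    refine hc z ?_
    convert hy.preimage i.continuous
    exact Set.ext fun w => ⟨fun hw => by simp_all, fun hw => i.isClosedEmbedding.injective hw⟩
  · have hn : y ∉ CohB1.support ((Coh.push i).obj G) := fun hc => h (DevissLib.support_push_subset i G hc)
    haveI : Subsingleton (((Coh.push i).obj G).presheaf.stalk y) := not_not.mp hn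
    have htop : LocCoh.depth ((CohB1.ProjSpace r k).presheaf.stalk y) (((Coh.push i).obj G).presheaf.stalk y) = ⊤ :=
      if_pos (Subsingleton.elim _ _)
    rw [htop]
    exact le_top

/-- `Hʲ(G(-q)) = 0` for `q ≫ 0` below the depth at closed points. -/
theorem exists_vanishing_neg (G : X.Modules) (hG : Coh.IsCoh G) (c : ℕ)
    (hc : ∀ x : X, IsClosed ({x} : Set X) → (c : ℕ∞) ≤ LocCoh.depth (X.presheaf.stalk x) (G.presheaf.stalk x)) :
    ∃ q₀ : ℕ, ∀ q : ℕ, q₀ ≤ q → ∀ j : ℕ, j < c →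
      Subsingleton (Coh.HH X (CohB1.tensorMod G (oX i (-(q : ℤ)))) j) := by
  obtain ⟨m₀, h⟩ := (eventually_below_iff_depth k r _ (isCoh_push' i hG) c).2 (depth_push_ge i G hG c hc)
  exact ⟨m₀.toNat, fun q hq j hj => (subsingleton_HH_iff i G hG _ j).2
    ((subsingleton_twistBy_iff k r _ _ j).1 (h q (by omega) j hj))⟩

theorem nonempty_oX_add (s t u : ℤ) (h : s + t = u) :
    Nonempty (CohB1.tensorMod (oX i s) (oX i t) ≅ oX i u) := by
  obtain ⟨e⟩ := PicPnLib.twist_add r k s t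
  haveI := KFlatLib.isIso_pullθ i (Twist.twistProjSpace r k s) (Twist.twistProjSpace r k t)
  exact ⟨(@asIso _ _ _ _ (KFlatLib.pullθ i (Twist.twistProjSpace r k s) (Twist.twistProjSpace r k t)) this).symm ≪≫
    (Scheme.Modules.pullback i).mapIso (e ≪≫ eqToIso (by rw [h]))⟩

theorem nonempty_oX_zero : Nonempty (oX i 0 ≅ Coh.structureModule X) := by
  obtain ⟨e⟩ := PicPnLib.twist_zero r k
  exact ⟨(Scheme.Modules.pullback i).mapIso e ≪≫ KFlatLib.pullUnitIso i⟩

theorem nonempty_inv_pow {L M : X.Modules} (hM : ClSub.IsInverseOf L M) {d : ℕ}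
    (hd : CohB1.tensorPow L d ≅ oX i 1) : ∀ q : ℕ, Nonempty (CohB1.tensorPow M (d * q) ≅ oX i (-(q : ℤ)))
  | 0 => by
    obtain ⟨e⟩ := nonempty_oX_zero i
    exact ⟨eqToIso (by rw [Nat.mul_zero]; rfl) ≪≫ e.symm ≪≫ eqToIso (by simp)⟩
  | q + 1 => by
    obtain ⟨φ⟩ := hM
    obtain ⟨e⟩ := nonempty_inv_pow ⟨φ⟩ hd q
    obtain ⟨f⟩ := AmpleAffLib.nonempty_powInverse φ d
    obtain ⟨g⟩ := nonempty_oX_add i 1 (-1) 0 (by ring)
    obtain ⟨g₀⟩ := nonempty_oX_zero i
    obtain ⟨h₁⟩ := AmpleAffLib.nonempty_iso_of_inverse_unique ((HilbPolyLib.congrLeft hd _).symm ≪≫ f)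
      (g ≪≫ g₀)
    obtain ⟨h₂⟩ := IntMultLib.nonempty_tensorPow_add M (d * q) d
    obtain ⟨h₃⟩ := nonempty_oX_add i (-(q : ℤ)) (-1) (-((q + 1 : ℕ) : ℤ)) (by push_cast; ring)
    exact ⟨eqToIso (by rw [Nat.mul_succ]) ≪≫ h₂ ≪≫ HilbPolyLib.congrLeft e _ ≪≫
      HilbPolyLib.congrRight _ h₁ ≪≫ h₃⟩

end PnDualLib

namespace PnDualLib

theorem depth_tensor_invertible {X : Scheme.{u}} {P : X.Modules} (hP : PicF.IsInvertible P) (F : X.Modules) (x : X) :
    LocCoh.depth (X.presheaf.stalk x) ((CohB1.tensorMod F P).presheaf.stalk x) =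
      LocCoh.depth (X.presheaf.stalk x) (F.presheaf.stalk x) := by
  obtain ⟨U, g, hxU, hg⟩ := TwistLib.exists_genOn hP x
  let ε : CohCmpLib.stk F x ≃ₗ[X.presheaf.stalk x] CohCmpLib.stk (KFlatLib.tens P F) x :=
    LinearEquiv.ofBijective _ (bijective_ins P F x (ProjFormLib.ger P x hxU g) (hg.genAt hxU))
  let ε' : CohCmpLib.stk (KFlatLib.tens P F) x ≃ₗ[X.presheaf.stalk x] CohCmpLib.stk (KFlatLib.tens F P) x :=
    ((DerSch.stalkFunctor X x).mapIso (KFlatLib.tensSwap F P)).toLinearEquiv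
  exact (CommAlgDim.depth_congr (ε.trans ε')).symm

variable (k : Type u) [Field k] {X : Scheme.{u}} [X.Over (Spec (CommRingCat.of k))]
  [IsProper (X ↘ Spec (CommRingCat.of k))]

theorem exists_closedImm_pow {L : X.Modules} (hL : CohB1.IsAmple L) :
    ∃ (r d : ℕ) (i : X ⟶ CohB1.ProjSpace r k), 0 < d ∧ IsClosedImmersion i ∧
      i ≫ CohB1.ProjSpace.toSpec r k = (X ↘ Spec (CommRingCat.of k)) ∧
      Nonempty (CohB1.tensorPow L d ≅ (Scheme.Modules.pullback i).obj (Twist.twistProjSpace r k 1)) := by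
  obtain ⟨d, hd0, hd⟩ := Groth.Agent.S9710.result (X ↘ Spec (CommRingCat.of k)) L hL
  obtain ⟨r, i', hi', hiq, ⟨e⟩⟩ := hd d le_rfl
  obtain ⟨j, hj, hjd⟩ := PicPnLib.exists_square (n := r) (R := k) (𝟙 (Spec (CommRingCat.of k)))
  haveI : IsIso j := hj.isIso_fst_of_isIso
  haveI := hi'
  let i := i' ≫ inv j
  have hi : i ≫ CohB1.ProjSpace.toSpec r k = (X ↘ Spec (CommRingCat.of k)) := by
    rw [← hiq]
    show (i' ≫ inv j) ≫ _ = _
    rw [Category.assoc]
    refine congrArg (i' ≫ ·) ?_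
    rw [IsIso.inv_comp_eq]
    exact (hj.w.trans (Category.comp_id _)).symm
  haveI : IsProper (CohB1.ProjSpace.toSpec r k) := ProjDegLib.toSpec_isProper k r
  haveI : IsProper (i ≫ CohB1.ProjSpace.toSpec r k) := by rw [hi]; infer_instance
  haveI : IsProper i := IsProper.of_comp i (CohB1.ProjSpace.toSpec r k)
  haveI : IsClosedImmersion i := IsClosedImmersion.of_isPreimmersion i i.isClosedMap.isClosed_range
  obtain ⟨e₁⟩ := hjd 1
  refine ⟨r, d, i, hd0, inferInstance, hi, ⟨e ≪≫ (Scheme.Modules.pullbackCongr (show i' = i ≫ j by simp [i])).app _ ≪≫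
    ((Scheme.Modules.pullbackComp i j).app _).symm ≪≫ (Scheme.Modules.pullback i).mapIso e₁⟩⟩

theorem nonempty_regroup {X : Scheme.{u}} (F : X.Modules) {A B O P Q : X.Modules} (f : B ≅ O)
    (g : P ≅ CohB1.tensorMod A B) (h : P = Q) :
    Nonempty (CohB1.tensorMod (CohB1.tensorMod F A) O ≅ CohB1.tensorMod F Q) :=
  ⟨HilbPolyLib.assocIso _ _ _ ≪≫ HilbPolyLib.congrRight F
    (HilbPolyLib.congrRight _ f.symm ≪≫ g.symm ≪≫ eqToIso h)⟩

include k in
/-- `Hʲ(F ⊗ L^{-m}) = 0` for `m ≫ 0` below the depth at closed points. -/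
theorem exists_vanishing_ample_neg {L M : X.Modules} (hL : CohB1.IsAmple L) (hM : ClSub.IsInverseOf L M)
    (F : X.Modules) (hF : Coh.IsCoh F) (c : ℕ)
    (hc : ∀ x : X, IsClosed ({x} : Set X) → (c : ℕ∞) ≤ LocCoh.depth (X.presheaf.stalk x) (F.presheaf.stalk x)) :
    ∃ m₀ : ℕ, ∀ m : ℕ, m₀ ≤ m → ∀ j : ℕ, j < c →
      Subsingleton (Coh.HH X (CohB1.tensorMod F (CohB1.tensorPow M m)) j) := by
  obtain ⟨r, d, i, hd0, hi, -, ⟨e⟩⟩ := exists_closedImm_pow k hL
  haveI := hi
  have hMi : PicF.IsInvertible M := CohCmpLib.isInvertible_of_inverse' hL.1 hM.some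
  have hG : ∀ a : ℕ, Coh.IsCoh (CohB1.tensorMod F (CohB1.tensorPow M a)) := fun a =>
    SerreVanLib.isCoh_tensor hF (AmpleThLib.tensorPow_isInvertible hMi a)
  have hdepth : ∀ (a : ℕ) (x : X), IsClosed ({x} : Set X) → (c : ℕ∞) ≤
      LocCoh.depth (X.presheaf.stalk x) ((CohB1.tensorMod F (CohB1.tensorPow M a)).presheaf.stalk x) :=
    fun a x hx => (hc x hx).trans_eq (depth_tensor_invertible (AmpleThLib.tensorPow_isInvertible hMi a) F x).symm
  choose q₀ hq using fun a : ℕ => exists_vanishing_neg i _ (hG a) c (hdepth a)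
  obtain ⟨Q, hQ⟩ : ∃ Q, ∀ a, a < d → q₀ a ≤ Q :=
    ⟨(Finset.range d).sup q₀, fun a ha => Finset.le_sup (Finset.mem_range.2 ha)⟩
  refine ⟨d * (Q + 1), fun m hm j hj => ?_⟩
  obtain ⟨f⟩ := nonempty_inv_pow i hM e (m / d)
  obtain ⟨g⟩ := IntMultLib.nonempty_tensorPow_add M (m % d) (d * (m / d))
  have hQm : Q ≤ m / d := by
    rw [Nat.le_div_iff_mul_le hd0]
    exact le_trans (by rw [Nat.mul_comm]; exact Nat.mul_le_mul_left d (Nat.le_succ Q)) hm
  refine SerreVanLib.subsingleton_HH_of_iso ?_ j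
    (hq (m % d) (m / d) ((hQ _ (Nat.mod_lt _ hd0)).trans hQm) j hj)
  exact (nonempty_regroup F f g (by rw [Nat.mod_add_div])).some.symm

end PnDualLib
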