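import Groth.Agent.PnDualLib.Hom
import Groth.Agent.PnDualLib.Eventually
import Groth.Agent.VBResLib.KFunct
import Groth.Agent.PerfLib.Restrict
import Groth.Agent.VBResLib.GGen

/-!
# The asymptotic vanishing criterion in terms of stalks
-/

set_option autoImplicit false
set_option linter.unusedSectionVars false
set_option linter.style.haveILetI false
set_option maxHeartbeats 800000
set_option backward.isDefEq.respectTransparency false
set_option backward.isDefEq.respectTransparency.types false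
universe u

open CategoryTheory CategoryTheory.Limits AlgebraicGeometry TopologicalSpace Opposite
open ProjFormLib (ger exists_ger)
open CohCmpLib (stk homMod evMod evS hVal)

noncomputable section

namespace PnDualLib

section Gen

variable {X : Scheme.{u}}

/-- The map on stalks, linearly over the local ring. -/
abbrev sm {A B : X.Modules} (φ : A ⟶ B) (y : X) : stk A y →ₗ[X.presheaf.stalk y] stk B y :=
  ((DerSch.stalkFunctor X y).map φ).hom

theorem sm_comp {A B C : X.Modules} (φ : A ⟶ B) (ψ : B ⟶ C) (y : X) :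
    sm (φ ≫ ψ) y = (sm ψ y).comp (sm φ y) :=
  congrArg ModuleCat.Hom.hom ((DerSch.stalkFunctor X y).map_comp φ ψ)

theorem sm_zero (A B : X.Modules) (y : X) : sm (0 : A ⟶ B) y = 0 :=
  congrArg ModuleCat.Hom.hom ((DerSch.stalkFunctor X y).map_zero A B)

theorem preMap_comp {A B C : X.Modules} (f : A ⟶ B) (g : B ⟶ C) (N : X.Modules) :
    preMap g N ≫ preMap f N = preMap (f ≫ g) N := by
  refine Scheme.Modules.hom_ext _ _ fun V => ?_
  ext h
  refine CohCmpLib.homMod_ext fun y hy => ?_
  show hVal ((preMap f N).app V ((preMap g N).app V h)) y hy = hVal ((preMap (f ≫ g) N).app V h) y hy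
  rw [hVal_preMap, hVal_preMap, hVal_preMap, LinearMap.comp_assoc]
  exact congrArg (LinearMap.comp _) (sm_comp f g y).symm

theorem preMap_zero (A B N : X.Modules) : preMap (0 : A ⟶ B) N = 0 := by
  refine Scheme.Modules.hom_ext _ _ fun V => ?_
  ext h
  refine CohCmpLib.homMod_ext fun y hy => ?_
  show hVal ((preMap (0 : A ⟶ B) N).app V h) y hy = hVal (0 : Γ(homMod A N, V)) y hy
  rw [hVal_preMap]
  exact (congrArg (LinearMap.comp _) (sm_zero A B y)).trans (LinearMap.comp_zero _)

theorem secHom_zero {L M : X.Modules} (hL : PicF.IsInvertible L) (hM : FlatMod.IsFinLocFree M) (N : X.Modules) :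
    secHom L M N 0 = 0 := by
  refine Scheme.Modules.hom_ext _ _ fun V => ?_
  ext m
  rw [secHom, map_zero, HomCohLib.toHom_app]
  refine ProjFormLib.section_ext _ _ fun y hy => ?_
  rw [CohCmpLib.ger_happ, CohCmpLib.hVal_res]
  exact (CohCmpLib.ger_zero _ y hy).symm

end Gen

variable (k : Type u) [Field k] (n : ℕ)
variable (F : (CohB1.ProjSpace n k).Modules) (hF : Coh.IsCoh F)

local notation "ℙ" => CohB1.ProjSpace n k
local notation "O'" => Twist.twistProjSpace n k
local notation "ω'" => Twist.twistProjSpace n k (-((n : ℤ) + 1))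

theorem isFinLocFree_twistFree (t : ℤ) (b : ℕ) :
    FlatMod.IsFinLocFree ((CurvLib.tensorLeft' (O' t)).obj (FlatMod.freeMod ℙ b)) :=
  haveI := PnCohLib.isLocallyNoetherian_projSpace (n := n) k
  VBResLib.vb_tensor (Y := ℙ) (A := O' t) (FlatMod.freeMod ℙ b)
    (AmpleDevLib.isFinLocFree_of_isInvertible (PicPnLib.twist_inv n k t))
    (VBResLib.vb_of_rank (VBResLib.rank_freeMod (X := ℙ) b))

theorem isFinLocFree_sum (t : ℤ) (b : ℕ) : FlatMod.IsFinLocFree (∐ fun _ : Fin b => O' t) := by
  obtain ⟨e⟩ := PnCohLib.exists_sigma_iso (O' t) b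
  let e' : (∐ fun _ : Fin b => O' t) ≅ (CurvLib.tensorLeft' (O' t)).obj (FlatMod.freeMod ℙ b) := e
  exact Groth.Agent.PerfLib.isFinLocFree_of_iso e'.symm (isFinLocFree_twistFree k n t b)

theorem isFinLocFree_mid (j : ℕ) : FlatMod.IsFinLocFree (mid k n F hF j) := isFinLocFree_sum k n _ _

/-- The differential of the resolution. -/
def dif (j : ℕ) : mid k n F hF (j + 1) ⟶ mid k n F hF j := (cov k n F hF (j + 1)).g ≫ incl k n F hF j

theorem dif_comp (j : ℕ) : dif k n F hF (j + 1) ≫ dif k n F hF j = 0 := by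
  have h : incl k n F hF (j + 1) ≫ (cov k n F hF (j + 1)).g = 0 := kernel.condition _
  rw [dif, dif, Category.assoc, ← Category.assoc (incl k n F hF (j + 1)), h, zero_comp, comp_zero]

/-- The dual of three consecutive terms of the resolution. -/
def dualSeq (j : ℕ) : ShortComplex (CohB1.ProjSpace n k).Modules :=
  ShortComplex.mk (preMap (dif k n F hF j) ω') (preMap (dif k n F hF (j + 1)) ω')
    (by rw [preMap_comp, dif_comp, preMap_zero])

theorem isCoh_dual (j : ℕ) : Coh.IsCoh (homMod (mid k n F hF j) ω') := by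
  haveI := PnCohLib.isLocallyNoetherian_projSpace (n := n) k
  exact HomCohLib.isCoh_homMod (isCoh_neg k n _ _) (CurvLib.isCoh_of_isInvertible (PicPnLib.twist_inv n k _))

theorem extends_iff_sections (j m : ℕ) :
    Extends (incl k n F hF j) ((tw' k n (m : ℤ)).obj ω') ↔
      ∀ w : Γ((tw' k n (m : ℤ)).obj (dualSeq k n F hF j).X₂, (⊤ : (CohB1.ProjSpace n k).Opens)),
        ((tw' k n (m : ℤ)).map (dualSeq k n F hF j).g).app ⊤ w = 0 →
          ∃ v, ((tw' k n (m : ℤ)).map (dualSeq k n F hF j).f).app ⊤ v = w := by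
  have hL := PicPnLib.twist_inv n k (m : ℤ)
  let L := O' (m : ℤ)
  let sec := fun i => secHom L (mid k n F hF i) ω'
  have hb : ∀ i, Function.Bijective (sec i) := fun i => secHom_bijective hL (isFinLocFree_mid k n F hF i) _
  haveI : ∀ i, Epi (cov k n F hF i).g := fun i => (cov k n F hF i).epi
  constructor
  · intro h w hw
    have h1 : dif k n F hF (j + 1) ≫ sec (j + 1) w = 0 :=
      ((secHom_natural (dif k n F hF (j + 1)) L ω' w).symm.trans (congrArg (sec (j + 1 + 1)) hw)).trans
        (secHom_zero hL (isFinLocFree_mid k n F hF _) _)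
    have h2 : incl k n F hF (j + 1) ≫ sec (j + 1) w = 0 := by
      rw [← cancel_epi (cov k n F hF (j + 1 + 1)).g, comp_zero, ← Category.assoc]; exact h1
    let φ := Abelian.epiDesc (cov k n F hF (j + 1)).g (sec (j + 1) w) h2
    obtain ⟨ψ, hψ⟩ := h φ
    obtain ⟨v, rfl⟩ := (hb j).2 ψ
    refine ⟨v, (hb (j + 1)).1 ((secHom_natural (dif k n F hF j) L ω' v).trans ?_)⟩
    rw [dif, Category.assoc]
    exact (congrArg (_ ≫ ·) hψ).trans (Abelian.comp_epiDesc _ _ _)
  · intro h φ
    obtain ⟨w, hw⟩ := (hb (j + 1)).2 ((cov k n F hF (j + 1)).g ≫ φ)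
    obtain ⟨v, hv⟩ := h w ((hb (j + 1 + 1)).1 (by
      refine ((secHom_natural (dif k n F hF (j + 1)) L ω' w).trans ?_).trans
        (secHom_zero hL (isFinLocFree_mid k n F hF _) _).symm
      rw [show secHom L (mid k n F hF (j + 1)) ω' w = _ from hw, dif, Category.assoc,
        ← Category.assoc (incl k n F hF (j + 1)),
        show incl k n F hF (j + 1) ≫ (cov k n F hF (j + 1)).g = 0 from kernel.condition _, zero_comp, comp_zero]))
    refine ⟨sec j v, ?_⟩
    rw [← cancel_epi (cov k n F hF (j + 1)).g, ← Category.assoc]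
    exact (secHom_natural (dif k n F hF j) L ω' v).symm.trans ((congrArg (sec (j + 1)) hv).trans hw)

/-- Linear forms on the stalk of a syzygy extend to the middle term. -/
def ExtendsAt (j : ℕ) (y : CohB1.ProjSpace n k) : Prop :=
  ∀ a : stk (syz k n F hF (j + 1)).1 y →ₗ[(CohB1.ProjSpace n k).presheaf.stalk y] stk ω' y,
    ∃ b : stk (mid k n F hF j) y →ₗ[(CohB1.ProjSpace n k).presheaf.stalk y] stk ω' y,
      b.comp (sm (incl k n F hF j) y) = a

theorem stalk_exact_iff (j : ℕ) (y : CohB1.ProjSpace n k) :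
    (∀ b : stk (dualSeq k n F hF j).X₂ y, sm (dualSeq k n F hF j).g y b = 0 →
        ∃ a, sm (dualSeq k n F hF j).f y a = b) ↔ ExtendsAt k n F hF j y := by
  let Φ := fun i => evS (evMod (mid k n F hF i) ω') y
  have hb : ∀ i, Function.Bijective (Φ i) := fun i => CohCmpLib.homEv_evMod (isFinLocFree_mid k n F hF i) y
  have hgs : ∀ i, Function.Surjective (sm (cov k n F hF i).g y) := fun i =>
    DetRootLib.stalk_surjective (syzSeq_shortExact k n F hF i) y
  have hd : ∀ i, sm (dif k n F hF i) y = (sm (incl k n F hF i) y).comp (sm (cov k n F hF (i + 1)).g y) := fun i =>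
    sm_comp _ _ y
  have hN : ∀ i (b : stk (homMod (mid k n F hF i) ω') y),
      Φ (i + 1) (sm (preMap (dif k n F hF i) ω') y b) = (Φ i b).comp (sm (dif k n F hF i) y) := fun i b =>
    evS_preMap _ _ y b
  have hker : ∀ (i : ℕ) x, sm (cov k n F hF i).g y (sm (incl k n F hF i) y x) = 0 := fun i x =>
    LinearMap.congr_fun ((sm_comp _ _ y).symm.trans ((congrArg (fun z => sm z y) (kernel.condition _)).trans
      (sm_zero _ _ y))) x
  constructor
  · intro h a
    obtain ⟨w, hw⟩ := (hb (j + 1)).2 (a.comp (sm (cov k n F hF (j + 1)).g y))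
    obtain ⟨v, hv⟩ := h w ((hb (j + 1 + 1)).1 (by
      refine (hN (j + 1) w).trans (Eq.trans ?_ (map_zero (Φ (j + 1 + 1))).symm)
      rw [hw, hd]
      refine LinearMap.ext fun x => ?_
      show a (sm (cov k n F hF (j + 1)).g y (sm (incl k n F hF (j + 1)) y _)) = 0
      rw [hker, map_zero]))
    refine ⟨Φ j v, LinearMap.ext fun x => ?_⟩
    obtain ⟨z, rfl⟩ := hgs (j + 1) x
    have h1 := (hN j v).symm.trans ((congrArg (Φ (j + 1)) hv).trans hw)
    rw [hd] at h1
    exact LinearMap.congr_fun h1 z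
  · intro h w hw
    have h1 : (Φ (j + 1) w).comp (sm (dif k n F hF (j + 1)) y) = 0 :=
      (hN (j + 1) w).symm.trans ((congrArg (Φ (j + 1 + 1)) hw).trans (map_zero _))
    rw [hd] at h1
    have h2 : ∀ x, sm (cov k n F hF (j + 1)).g y x = 0 → Φ (j + 1) w x = 0 := fun x hx => by
      obtain ⟨c, rfl⟩ := DetRootLib.stalk_exact (syzSeq_shortExact k n F hF (j + 1)) y x hx
      obtain ⟨e, rfl⟩ := hgs (j + 1 + 1) c
      exact LinearMap.congr_fun h1 e
    have hle : LinearMap.ker (sm (cov k n F hF (j + 1)).g y) ≤ LinearMap.ker (Φ (j + 1) w) := h2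
    let a := (Submodule.liftQ _ (Φ (j + 1) w) hle).comp
      (LinearMap.quotKerEquivOfSurjective _ (hgs (j + 1))).symm.toLinearMap
    have ha : a.comp (sm (cov k n F hF (j + 1)).g y) = Φ (j + 1) w := LinearMap.ext fun x => by
      rw [LinearMap.comp_apply, LinearMap.comp_apply]
      rw [show (LinearMap.quotKerEquivOfSurjective _ (hgs (j + 1))).symm.toLinearMap
        (sm (cov k n F hF (j + 1)).g y x) = Submodule.Quotient.mk x from
        (LinearEquiv.symm_apply_eq _).2 (LinearMap.quotKerEquivOfSurjective_apply_mk _ _ x).symm]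
      rfl
    obtain ⟨b, hb'⟩ := h a
    obtain ⟨v, rfl⟩ := (hb j).2 b
    refine ⟨v, (hb (j + 1)).1 ((hN j v).trans ?_)⟩
    rw [hd, ← LinearMap.comp_assoc, hb', ha]

/-- **Asymptotic vanishing below the top degree, on stalks.** -/
theorem eventually_iff (i q : ℕ) (hi : i + (q + 1) = n) :
    ((∃ m₀ : ℕ, ∀ m : ℕ, m₀ ≤ m → Subsingleton (Coh.HH ℙ ((tw' k n (-(m : ℤ))).obj F) i)) →
      ∀ y : CohB1.ProjSpace n k, ExtendsAt k n F hF q y) ∧
    ((∀ y : CohB1.ProjSpace n k, IsClosed ({y} : Set (CohB1.ProjSpace n k)) → ExtendsAt k n F hF q y) →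
      ∃ m₀ : ℕ, ∀ m : ℕ, m₀ ≤ m → Subsingleton (Coh.HH ℙ ((tw' k n (-(m : ℤ))).obj F) i)) := by
  have key : ∀ m : ℕ, Subsingleton (Coh.HH ℙ ((tw' k n (-(m : ℤ))).obj F) i) ↔
      Extends (incl k n F hF q) ((tw' k n (m : ℤ)).obj ω') := fun m => by
    have h := subsingleton_iff_extends k n F hF m q i 0 hi
    rw [Nat.zero_add] at h
    exact h
  have h₁ := isCoh_dual k n F hF q
  have h₂ := isCoh_dual k n F hF (q + 1)
  have h₃ := isCoh_dual k n F hF (q + 1 + 1)
  constructor
  · rintro ⟨m₀, hm⟩ y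
    have hex := exact_of_lift k n (dualSeq k n F hF q) h₁ h₂ h₃
      ⟨m₀, fun m hm' => (extends_iff_sections k n F hF q m).1 ((key m).1 (hm m hm'))⟩
    exact (stalk_exact_iff k n F hF q y).1 (stalk_exact_of_exact hex y)
  · intro h
    haveI := isNoetherian_projSpace k n
    have hex := exact_of_closed_stalks (dualSeq k n F hF q) h₁ h₂ h₃ fun y hy =>
      (stalk_exact_iff k n F hF q y).2 (h y hy)
    obtain ⟨m₀, hm⟩ := lift_of_exact k n (dualSeq k n F hF q) hex h₁ h₂ h₃
    exact ⟨m₀, fun m hm' => (key m).2 ((extends_iff_sections k n F hF q m).2 (hm m hm'))⟩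

end PnDualLib
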