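import Groth.Agent.PnCohLib.Hypersurface
import Groth.Agent.PnCohLib.Split
import Groth.Agent.PnCohLib.FlatSections
import Groth.Agent.CurvLib.Line
import Groth.Agent.DegPullLib.H0

/-!
# The pairing `Hom(F, ω) × Hⁿ(F) → k` on projective space, for twists
-/

set_option autoImplicit false
set_option linter.unusedSectionVars false
set_option linter.style.haveILetI false
set_option maxHeartbeats 800000
set_option backward.isDefEq.respectTransparency false
set_option backward.isDefEq.respectTransparency.types false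
universe u

open CategoryTheory CategoryTheory.Limits AlgebraicGeometry TopologicalSpace Opposite

noncomputable section

namespace PnDualLib

section Gen

variable {X : Scheme.{u}}

theorem smulHom_comp {M N : X.Modules} (φ : M ⟶ N) (r : Coh.Γtop X) :
    StabLib.smulHom M r ≫ φ = φ ≫ StabLib.smulHom N r := by
  refine Scheme.Modules.hom_ext _ _ fun U => ?_
  ext m
  show φ.app U ((StabLib.smulHom M r).app U m) = (StabLib.smulHom N r).app U (φ.app U m)
  rw [StabLib.smulHom_app, StabLib.smulHom_app, Scheme.Modules.Hom.app_smul]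

theorem tensorLeft_smulHom (L N : X.Modules) (c : Coh.Γtop X) :
    (CurvLib.tensorLeft' L).map (StabLib.smulHom N c) = StabLib.smulHom (CohB1.tensorMod L N) c := by
  refine KFlatLib.tens_hom_ext fun U m n => ?_
  show (((DCoh.tensorBi (X := X)).obj L).map (StabLib.smulHom N c)).app U (KFlatLib.shTm m n) =
    (StabLib.smulHom (CohB1.tensorMod L N) c).app U (KFlatLib.shTm m n)
  refine (KFlatLib.tensorBi_map₂_shTm L _ m n).trans ?_
  have h := AmpleLib.shT_smul (M := L) (N := N) 1
    (X.presheaf.map (homOfLE (le_top : U ≤ ⊤)).op (show Γ(X, (⊤ : X.Opens)) from c)) m n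
  rw [one_smul, one_mul] at h
  exact h

variable {k : Type u} [Field k] [X.Over (Spec (CommRingCat.of k))]

theorem hMap_add {M N : X.Modules} (f g : M ⟶ N) (p : ℕ) :
    CurvLib.hMap (k := k) (f + g) p = CurvLib.hMap (k := k) f p + CurvLib.hMap (k := k) g p := by
  refine LinearMap.ext fun x => ?_
  exact (PnCohLib.hMapEval (k := k) N p x).map_add f g

theorem hMap_id (M : X.Modules) (p : ℕ) (x : Coh.HH X M p) : CurvLib.hMap (k := k) (𝟙 M) p x = x := by
  rw [CurvLib.hMap_apply, CategoryTheory.Functor.map_id]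
  exact Sheaf.H.map_id_apply x

/-- The scalar of `k` as a global function. -/
abbrev cst (c : k) : Coh.Γtop X := Coh.toGlobal (X ↘ Spec (CommRingCat.of k)) c

theorem hMap_smulHom (M : X.Modules) (c : k) (p : ℕ) (x : Coh.HH X M p) :
    CurvLib.hMap (k := k) (StabLib.smulHom M (cst c)) p x = c • x := rfl

/-- A form on `Hᵖ(ω)` pulls back along maps into `ω`. -/
def pair {ω : X.Modules} {p : ℕ} (t : Coh.HH X ω p →ₗ[k] k) (F : X.Modules) :
    (F ⟶ ω) →+ Module.Dual k (Coh.HH X F p) where
  toFun φ := t.comp (CurvLib.hMap (k := k) φ p)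
  map_zero' := LinearMap.ext fun x => by
    show t (CurvLib.hMap (k := k) (0 : F ⟶ ω) p x) = 0
    rw [PnCohLib.hMap_zero, map_zero]
  map_add' f g := by rw [hMap_add, LinearMap.comp_add]

theorem pair_apply {ω : X.Modules} {p : ℕ} (t : Coh.HH X ω p →ₗ[k] k) {F : X.Modules} (φ : F ⟶ ω)
    (x : Coh.HH X F p) : pair t F φ x = t (CurvLib.hMap (k := k) φ p x) := rfl

theorem pair_comp {ω : X.Modules} {p : ℕ} (t : Coh.HH X ω p →ₗ[k] k) {F G : X.Modules} (f : F ⟶ G) (φ : G ⟶ ω)
    (x : Coh.HH X F p) : pair t F (f ≫ φ) x = pair t G φ (CurvLib.hMap (k := k) f p x) := by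
  rw [pair_apply, pair_apply, CurvLib.hMap_comp]

theorem pair_smulHom {ω : X.Modules} {p : ℕ} (t : Coh.HH X ω p →ₗ[k] k) {F : X.Modules} (φ : F ⟶ ω) (c : k) :
    pair t F (φ ≫ StabLib.smulHom ω (cst c)) = c • pair t F φ := LinearMap.ext fun x => by
  rw [pair_apply, CurvLib.hMap_comp, hMap_smulHom, map_smul]
  rfl

theorem bijective_pair_of_iso {ω : X.Modules} {p : ℕ} (t : Coh.HH X ω p →ₗ[k] k) {F G : X.Modules} (e : F ≅ G)
    (h : Function.Bijective (pair t F)) : Function.Bijective (pair t G) := by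
  constructor
  · intro a b hab
    rw [← cancel_epi e.hom]
    refine h.1 (LinearMap.ext fun x => ?_)
    rw [pair_comp, pair_comp, hab]
  · intro ψ
    obtain ⟨φ, hφ⟩ := h.2 (ψ.comp (CurvLib.hMap (k := k) e.hom p))
    refine ⟨e.inv ≫ φ, LinearMap.ext fun x => ?_⟩
    rw [pair_comp, hφ, LinearMap.comp_apply, ← CurvLib.hMap_comp, e.inv_hom_id, hMap_id]

/-- Sections as maps from the structure module, linearly over the global functions. -/
theorem unitHom_smul (M : X.Modules) (r : Coh.Γtop X) (s : Γ(M, (⊤ : X.Opens))) :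
    QCohLib.unitHom M ((show Γ(X, ⊤) from r) • s) = QCohLib.unitHom M s ≫ StabLib.smulHom M r := by
  refine Scheme.Modules.hom_ext _ _ fun V => ?_
  ext a
  show (QCohLib.unitHom M _).app V a = (StabLib.smulHom M r).app V ((QCohLib.unitHom M s).app V a)
  refine (QCohLib.unitHom_app M _ V a).trans ?_
  refine Eq.trans ?_ ((StabLib.smulHom_app M r V _).trans (congrArg
    (fun z : Γ(M, V) => (X.presheaf.map (homOfLE (le_top : V ≤ ⊤)).op (show Γ(X, (⊤ : X.Opens)) from r)) • z)
    (QCohLib.unitHom_app M s V a))).symm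
  rw [smul_comm]
  exact congrArg (fun z : Γ(M, V) => (show Γ(X, V) from a) • z) (AmpleLib.res_smul M le_top _ s)

theorem unitHom_injective (M : X.Modules) : Function.Injective (QCohLib.unitHom M) := fun a b h => by
  have h1 := congrArg (fun f : Coh.structureModule X ⟶ M => f.app ⊤ (1 : Γ(X, (⊤ : X.Opens)))) h
  simp only [QCohLib.unitHom_app, one_smul] at h1
  simpa using h1

/-- Sections of `N` give maps into `L ⊗ N`. -/
def secToHom {A W : X.Modules} (L N : X.Modules) (α : A ⟶ (CurvLib.tensorLeft' L).obj (Coh.structureModule X))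
    (β : (CurvLib.tensorLeft' L).obj N ⟶ W) (s : Γ(N, (⊤ : X.Opens))) : A ⟶ W :=
  α ≫ (CurvLib.tensorLeft' L).map (QCohLib.unitHom N s) ≫ β

theorem secToHom_add {A W : X.Modules} (L N : X.Modules) (α : A ⟶ (CurvLib.tensorLeft' L).obj (Coh.structureModule X))
    (β : (CurvLib.tensorLeft' L).obj N ⟶ W) (s t : Γ(N, (⊤ : X.Opens))) :
    secToHom L N α β (s + t) = secToHom L N α β s + secToHom L N α β t := by
  have h1 : QCohLib.unitHom N (s + t) = QCohLib.unitHom N s + QCohLib.unitHom N t := by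
    refine Scheme.Modules.hom_ext _ _ fun V => ?_
    ext r
    show (QCohLib.unitHom N _).app V r = (QCohLib.unitHom N s).app V r + (QCohLib.unitHom N t).app V r
    refine (QCohLib.unitHom_app N _ V r).trans ?_
    rw [map_add, smul_add]
    exact (congrArg₂ (· + ·) (QCohLib.unitHom_app N s V r) (QCohLib.unitHom_app N t V r)).symm
  have h2 := (congrArg (CurvLib.tensorLeft' L).map h1).trans (CurvLib.tensorLeft' L).map_add
  unfold secToHom
  exact (congrArg (α ≫ ·) ((congrArg (· ≫ β) h2).trans (Preadditive.add_comp _ _ _ _ _ _))).trans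
    (Preadditive.comp_add _ _ _ _ _ _)

theorem secToHom_smul {A W : X.Modules} (L N : X.Modules) (α : A ⟶ (CurvLib.tensorLeft' L).obj (Coh.structureModule X))
    (β : (CurvLib.tensorLeft' L).obj N ⟶ W) (r : Coh.Γtop X) (s : Γ(N, (⊤ : X.Opens))) :
    secToHom L N α β ((show Γ(X, (⊤ : X.Opens)) from r) • s) = secToHom L N α β s ≫ StabLib.smulHom W r := by
  have h2 := ((congrArg (CurvLib.tensorLeft' L).map (unitHom_smul N r s)).trans
    ((CurvLib.tensorLeft' L).map_comp _ _)).trans (congrArg (_ ≫ ·) (tensorLeft_smulHom L N r))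
  unfold secToHom
  refine (congrArg (α ≫ ·) (congrArg (· ≫ β) h2)).trans ?_
  refine Eq.trans (congrArg (α ≫ ·) ((Category.assoc _ _ _).trans (congrArg (_ ≫ ·) (smulHom_comp β r)))) ?_
  exact ((Category.assoc _ _ _).trans (congrArg (α ≫ ·) (Category.assoc _ _ _))).symm

theorem subset_empty_of_dim_zero {Y : Type*} [TopologicalSpace Y] [IrreducibleSpace Y]
    (h : topologicalKrullDim Y ≤ 0) {T : Set Y} (hT : IsClosed T) (hne : T ≠ Set.univ) : T = ∅ := by
  by_contra hc
  obtain ⟨y, hy⟩ := Set.nonempty_iff_ne_empty.2 hc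
  let C : IrreducibleCloseds Y := ⟨closure {y}, isIrreducible_singleton.closure, isClosed_closure⟩
  let top : IrreducibleCloseds Y := ⟨Set.univ, IrreducibleSpace.isIrreducible_univ Y, isClosed_univ⟩
  have hlt : C < top := lt_of_le_of_ne (Set.subset_univ _) fun e => hne (Set.eq_univ_of_univ_subset
    ((congrArg (fun z : IrreducibleCloseds Y => (z : Set Y)) e).ge.trans
      (closure_minimal (by simpa using hy) hT)))
  let s : LTSeries (IrreducibleCloseds Y) := (RelSeries.singleton _ C).snoc top hlt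
  have h2 := (Order.LTSeries.length_le_krullDim s).trans h
  have h3 : s.length = 1 := rfl
  rw [h3] at h2
  exact absurd h2 (by norm_num)

end Gen

variable (k : Type u) [Field k] (n : ℕ)

local notation "ℙ" => CohB1.ProjSpace n k
local notation "O'" => Twist.twistProjSpace n k
local notation "ω'" => Twist.twistProjSpace n k (-((n : ℤ) + 1))

theorem finrank_top_omega : Module.finrank k (Coh.HH ℙ ω' n) = 1 := by
  obtain ⟨e⟩ := PnCohLib.exists_HH_top (n := n) (R := k) 0
  have h : (-((n : ℤ) + 1 + ((0 : ℕ) : ℤ))) = -((n : ℤ) + 1) := by simp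
  rw [h] at e
  rw [e.finrank_eq, Module.finrank_eq_nat_card_basis Finsupp.basisSingleOne, PnCohLib.card_deg]
  simp

/-- A trace: an isomorphism `Hⁿ(ω) ≅ k`. -/
theorem exists_trace : ∃ t : Coh.HH ℙ ω' n ≃ₗ[k] k, True := by
  haveI : Module.Finite k (Coh.HH ℙ ω' n) :=
    Module.finite_of_finrank_eq_succ (finrank_top_omega k n)
  exact ⟨LinearEquiv.ofFinrankEq _ _ (by rw [finrank_top_omega, Module.finrank_self]), trivial⟩

/-- The chosen trace. -/
def trace : Coh.HH ℙ ω' n ≃ₗ[k] k := (exists_trace k n).choose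

/-- The pairing with the trace. -/
abbrev θ (F : (CohB1.ProjSpace n k).Modules) := pair (trace k n).toLinearMap F

/-- A nonzero map between twists is surjective on the top cohomology. -/
theorem surjective_top_of_ne_zero {a b : ℤ} {φ : O' a ⟶ O' b} (hφ : φ ≠ 0) :
    Function.Surjective (CurvLib.hMap (k := k) φ n) := by
  haveI := GenusZeroLib.isIntegral_projSpace k n
  haveI := PnCohLib.isLocallyNoetherian_projSpace (n := n) k
  haveI : IsProper (ℙ ↘ Spec (CommRingCat.of k)) := ProjDegLib.toSpec_isProper k n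
  haveI := CurvLib.isNoetherian k (X := ℙ)
  have hN := PicPnLib.twist_inv n k a
  have hL := PicPnLib.twist_inv n k b
  haveI := CurvLib.mono_of_ne_zero hN hL hφ
  let S : ShortComplex (CohB1.ProjSpace n k).Modules := ShortComplex.mk φ (cokernel.π φ) (cokernel.condition φ)
  have hS : S.ShortExact := ShortComplex.ShortExact.mk (ShortComplex.exact_cokernel φ)
  have hC : Coh.IsCoh (cokernel φ) :=
    QCohLib.isCoh_cokernel φ (CurvLib.isCoh_of_isInvertible hN).1 (CurvLib.isCoh_of_isInvertible hL)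
  have hT : IsClosed (CohB1.support (cokernel φ)) := QCohLib.isClosed_support _ hC.2
  have hne : CohB1.support (cokernel φ) ≠ Set.univ := fun h =>
    CurvLib.generic_notMem_support_cokernel hN hL hφ (h ▸ Set.mem_univ _)
  have h3 : Subsingleton (Coh.HH ℙ (cokernel φ) n) := by
    rcases Nat.eq_zero_or_pos n with h0 | h0
    · exact PnCohLib.subsingleton_HH_of_zero (DevissLib.isZero_of_support_empty
        (subset_empty_of_dim_zero (by rw [GenusZeroLib.dim_projSpace, h0]; rfl) hT hne)) n
    · exact CurvLib.subsingleton_HH_of_support_dim _ hC.2 (d := n - 1)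
        (PnCohLib.dim_closed_le hT hne (by rw [GenusZeroLib.dim_projSpace, Nat.sub_add_cancel h0])) n (by omega)
  intro y
  have h := (CurvLib.exact₂ (k := k) hS n).ge (show y ∈ _ from Subsingleton.elim (α := Coh.HH ℙ (cokernel φ) n) _ _)
  exact h

theorem pair_injective_twist (a : ℤ) : Function.Injective (θ k n (O' a)) := by
  refine (injective_iff_map_eq_zero _).2 fun φ h => ?_
  by_contra hφ
  obtain ⟨y, hy⟩ := surjective_top_of_ne_zero k n hφ ((trace k n).symm 1)
  have h1 : θ k n (O' a) φ y = 1 := by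
    rw [pair_apply, hy]; exact (trace k n).apply_symm_apply 1
  rw [h] at h1
  exact zero_ne_one h1

theorem nontrivial_H0_twist_of_zero (hn : n = 0) (e : ℤ) : Nontrivial (Coh.HH ℙ (O' e) 0) := by
  by_contra hc
  rw [not_nontrivial_iff_subsingleton] at hc
  have hreg : ∀ F : (CohB1.ProjSpace n k).Modules, Curv2.IsMRegular k n F 0 := fun F i hi hin => by omega
  have hz : IsZero (O' e) := by
    have hg := PnCohLib.isGloballyGenerated_of_regular k (O' e) (GrTildeLib.isQCoh_twist e) 0 (hreg _)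
    obtain ⟨i⟩ := PnCohLib.twist_unit (n := n) (R := k) 0 rfl (O' e)
    refine PnCohLib.isZero_of_tensor k 0 _ ((IsZero.iff_id_eq_zero _).2
      (MiscFlat6.cancel_of_isGloballyGenerated hg _ fun u => ?_))
    haveI : Subsingleton (Coh.HH ℙ (CohB1.tensorMod (O' e) (O' 0)) 0) :=
      SerreVanLib.subsingleton_HH_of_iso (HilbPolyLib.swapIso (O' e) (O' 0) ≪≫ i) 0 hc
    haveI := (DegPullLib.e0 (CohB1.tensorMod (O' e) (O' 0))).symm.injective.subsingleton
    exact Subsingleton.elim _ _
  obtain ⟨i⟩ := PicPnLib.twist_add n k (-((n : ℤ) + 1) - e) e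
  have hz' : IsZero ω' := (((CurvLib.tensorLeft' (O' (-((n : ℤ) + 1) - e))).map_isZero hz).of_iso i.symm).of_iso
    (eqToIso (by rw [sub_add_cancel]))
  haveI := PnCohLib.subsingleton_HH_of_zero hz' n
  have := finrank_top_omega k n
  rw [Module.finrank_zero_of_subsingleton] at this
  exact zero_ne_one this

theorem finrank_top_le (a : ℤ) (ha : a ≤ -((n : ℤ) + 1)) :
    Module.finrank k (Coh.HH ℙ (O' a) n) ≤ Module.finrank k (Coh.HH ℙ (O' (-a - (n : ℤ) - 1)) 0) := by
  haveI : IsProper (ℙ ↘ Spec (CommRingCat.of k)) := ProjDegLib.toSpec_isProper k n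
  haveI : ∀ d p, Module.Finite k (Coh.HH ℙ (O' d) p) := fun d p =>
    CurvLib.finite_HH (CurvLib.isCoh_of_isInvertible (PicPnLib.twist_inv n k d)) p
  rcases Nat.eq_zero_or_pos n with h0 | h0
  · obtain ⟨m, rfl⟩ : ∃ m : ℕ, a = -((n : ℤ) + 1 + m) := ⟨(-a - (n + 1)).toNat, by omega⟩
    obtain ⟨e⟩ := PnCohLib.exists_HH_top (n := n) (R := k) m
    rw [e.finrank_eq, Module.finrank_eq_nat_card_basis Finsupp.basisSingleOne, PnCohLib.card_deg]
    haveI := nontrivial_H0_twist_of_zero k n h0 (-(-((n : ℤ) + 1 + m)) - n - 1)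
    refine le_trans (le_of_eq ?_) (Module.finrank_pos (R := k))
    subst h0
    simp
  · rw [PnCohLib.finrank_top_twist k h0, PnCohLib.finrank_zero_twist k h0,
      show (-a - (n : ℤ) - 1 + n).toNat = (-a - 1).toNat by omega]

/-- **The pairing is perfect on twists of negative degree.** -/
theorem pair_bijective_twist (a : ℤ) (ha : a ≤ -((n : ℤ) + 1)) : Function.Bijective (θ k n (O' a)) := by
  haveI : IsProper (ℙ ↘ Spec (CommRingCat.of k)) := ProjDegLib.toSpec_isProper k n
  haveI : ∀ d p, Module.Finite k (Coh.HH ℙ (O' d) p) := fun d p =>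
    CurvLib.finite_HH (CurvLib.isCoh_of_isInvertible (PicPnLib.twist_inv n k d)) p
  refine ⟨pair_injective_twist k n a, ?_⟩
  set e : ℤ := -a - n - 1 with he
  obtain ⟨ia⟩ := PicPnLib.twist_add n k a e
  obtain ⟨i₀⟩ : Nonempty (CohB1.tensorMod (O' a) (O' e) ≅ ω') := ⟨ia ≪≫ eqToIso (by rw [he]; congr 1; ring)⟩
  let α : O' a ≅ CohB1.tensorMod (O' a) (Coh.structureModule ℙ) := (PicPnLib.unitRight _).symm
  let Λ : Coh.HH ℙ (O' e) 0 → (O' a ⟶ ω') := fun x => secToHom (O' a) (O' e) α.hom i₀.hom (DegPullLib.e0 _ x)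
  have hΛ0 : Function.Injective Λ := fun x y h => by
    have h1 := (cancel_mono i₀.hom).1 ((cancel_epi α.hom).1 h)
    refine (DegPullLib.e0 _).injective (unitHom_injective _ (sub_eq_zero.1 ?_))
    exact PnCohLib.eq_zero_of_map k a _ (((CurvLib.tensorLeft' (O' a)).map_sub).trans (sub_eq_zero.2 h1))
  have hΛadd : ∀ x y, Λ (x + y) = Λ x + Λ y := fun x y =>
    (congrArg _ (map_add (DegPullLib.e0 (O' e)) x y)).trans (secToHom_add _ _ _ _ _ _)
  have hΛsmul : ∀ (c : k) x, Λ (c • x) = Λ x ≫ StabLib.smulHom ω' (cst c) := fun c x =>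
    (congrArg _ (DegPullLib.e0_smul _ _ x)).trans (secToHom_smul _ _ _ _ _ _)
  let L : Coh.HH ℙ (O' e) 0 →ₗ[k] Module.Dual k (Coh.HH ℙ (O' a) n) :=
    { toFun := fun x => θ k n (O' a) (Λ x)
      map_add' := fun x y => by rw [hΛadd, map_add]
      map_smul' := fun c x => by rw [hΛsmul, pair_smulHom]; rfl }
  have hL : Function.Injective L := fun x y h => hΛ0 (pair_injective_twist k n a h)
  have hd : Module.finrank k (Coh.HH ℙ (O' e) 0) = Module.finrank k (Module.Dual k (Coh.HH ℙ (O' a) n)) :=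
    le_antisymm (LinearMap.finrank_le_finrank_of_injective hL)
      (by rw [Subspace.dual_finrank_eq]; exact finrank_top_le k n a ha)
  intro ψ
  obtain ⟨x, hx⟩ := (LinearMap.injective_iff_surjective_of_finrank_eq_finrank hd).1 hL ψ
  exact ⟨Λ x, hx⟩

end PnDualLib
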