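import Groth.Agent.HomCohLib.FullyFaithful
import Groth.Agent.CohCmpLib.HomFrame
import Groth.Agent.KFlatLib.StalkTensor
import Groth.Agent.TwistLib.PullGen
import Groth.Agent.CurvLib.Line

/-!
# Sheaves of homomorphisms and tensoring with an invertible module
-/

set_option autoImplicit false
set_option linter.unusedSectionVars false
set_option linter.style.haveILetI false
set_option maxRecDepth 8000
set_option maxHeartbeats 800000
set_option backward.isDefEq.respectTransparency false
set_option backward.isDefEq.respectTransparency.types false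
universe u

open CategoryTheory CategoryTheory.Limits AlgebraicGeometry TopologicalSpace Opposite
open scoped TensorProduct
open ProjFormLib (ger res ger_res ger_smul ger_add ger_map exists_ger section_ext)
open CohCmpLib (stk homMod evMod curryMod evS hVal happ homSec)
open KFlatLib (tens shTm stalkTensorLin)

noncomputable section

namespace PnDualLib

variable {X : Scheme.{u}}

/-- Precomposition on sheaves of homomorphisms. -/
def preMap {M M' : X.Modules} (f : M ⟶ M') (N : X.Modules) : homMod M' N ⟶ homMod M N :=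
  curryMod (((DCoh.tensorBi (X := X)).map f).app (homMod M' N) ≫ evMod M' N)

theorem evS_preMap {M M' : X.Modules} (f : M ⟶ M') (N : X.Modules) (y : X) (n : stk (homMod M' N) y) :
    evS (evMod M N) y (((DerSch.stalkFunctor X y).map (preMap f N)).hom n) =
      (evS (evMod M' N) y n).comp ((DerSch.stalkFunctor X y).map f).hom := by
  rw [preMap, CohCmpLib.evS_evMod_curry]
  obtain ⟨V, hy, n, rfl⟩ := exists_ger (homMod M' N) y n
  refine LinearMap.ext fun m => ?_
  obtain ⟨V', hy', m, rfl⟩ := exists_ger M y m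
  have hT : y ∈ V ⊓ V' := ⟨hy, hy'⟩
  rw [← ger_res (homMod M' N) (inf_le_left : V ⊓ V' ≤ V) y hT n,
    ← ger_res M (inf_le_right : V ⊓ V' ≤ V') y hT m, LinearMap.comp_apply, ger_map, CohCmpLib.evS_ger,
    CohCmpLib.evS_ger]
  exact congrArg (fun s => ger N y _ ((evMod M' N).app _ s))
    (KFlatLib.tensorBi_map₁_shTm f (homMod M' N) _ _)

theorem hVal_preMap {M M' : X.Modules} (f : M ⟶ M') (N : X.Modules) {V : X.Opens} (h : Γ(homMod M' N, V))
    (y : X) (hy : y ∈ V) :
    hVal ((preMap f N).app V h) y hy = (hVal h y hy).comp ((DerSch.stalkFunctor X y).map f).hom := by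
  rw [← CohCmpLib.evS_evMod, ← ger_map (preMap f N) y hy h, evS_preMap, CohCmpLib.evS_evMod]

theorem toHom_preMap {M M' : X.Modules} (f : M ⟶ M') (N : X.Modules) (s : Γ(homMod M' N, (⊤ : X.Opens))) :
    HomCohLib.toHom ((preMap f N).app ⊤ s) = f ≫ HomCohLib.toHom s := by
  refine Scheme.Modules.hom_ext _ _ fun V => ?_
  ext m
  refine section_ext _ _ fun y hy => ?_
  show ger N y hy ((HomCohLib.toHom ((preMap f N).app ⊤ s)).app V m) =
    ger N y hy ((HomCohLib.toHom s).app V (f.app V m))
  rw [HomCohLib.toHom_app, HomCohLib.toHom_app, CohCmpLib.ger_happ, CohCmpLib.ger_happ, CohCmpLib.hVal_res,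
    CohCmpLib.hVal_res, hVal_preMap, LinearMap.comp_apply, ger_map]

/-- Tensoring with a germ. -/
def ins (L N : X.Modules) (y : X) (a : stk L y) : stk N y →ₗ[X.presheaf.stalk y] stk (tens L N) y :=
  (stalkTensorLin L N y).comp (TensorProduct.mk (X.presheaf.stalk y) (stk L y) (stk N y) a)

theorem ins_ger (L N : X.Modules) {V : X.Opens} (y : X) (hy : y ∈ V) (l : Γ(L, V)) (n : Γ(N, V)) :
    ins L N y (ger L y hy l) (ger N y hy n) = ger (tens L N) y hy (shTm l n) :=
  KFlatLib.stalkTensorLin_germ L N y hy l n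

theorem ins_add (L N : X.Modules) (y : X) (a b : stk L y) (n : stk N y) :
    ins L N y (a + b) n = ins L N y a n + ins L N y b n :=
  (congrArg (stalkTensorLin L N y) (TensorProduct.add_tmul a b n)).trans (map_add _ _ _)

theorem ins_smul (L N : X.Modules) (y : X) (c : X.presheaf.stalk y) (a : stk L y) (n : stk N y) :
    ins L N y (c • a) n = c • ins L N y a n :=
  (congrArg (stalkTensorLin L N y) (TensorProduct.smul_tmul' c a n).symm).trans (map_smul _ _ _)

/-- The value of `l ⊗ h`. -/
theorem exists_tw {L M N : X.Modules} {V : X.Opens} (l : Γ(L, V)) (h : Γ(homMod M N, V)) :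
    ∃ h' : Γ(homMod M (tens L N), V), ∀ y (hy : y ∈ V),
      hVal h' y hy = (ins L N y (ger L y hy l)).comp (hVal h y hy) := by
  refine ⟨(show homSec M (tens L N) V from ⟨fun y => (ins L N y.1 (ger L y.1 y.2 l)).comp (hVal h y.1 y.2),
    fun T hT m => ⟨shTm (res L hT l) (happ (res (homMod M N) hT h) m), fun y hy => ?_⟩⟩), fun y hy => rfl⟩
  rw [← ins_ger, CohCmpLib.ger_happ, CohCmpLib.hVal_res, ger_res]
  rfl

/-- The value of `l ⊗ h`, chosen. -/
def tw {L M N : X.Modules} {V : X.Opens} (l : Γ(L, V)) (h : Γ(homMod M N, V)) : Γ(homMod M (tens L N), V) :=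
  (exists_tw l h).choose

theorem hVal_tw {L M N : X.Modules} {V : X.Opens} (l : Γ(L, V)) (h : Γ(homMod M N, V)) (y : X) (hy : y ∈ V)
    (m : stk M y) : hVal (tw l h) y hy m = ins L N y (ger L y hy l) (hVal h y hy m) :=
  LinearMap.congr_fun ((exists_tw l h).choose_spec y hy) m

theorem tw_add_left {L M N : X.Modules} {V : X.Opens} (l l' : Γ(L, V)) (h : Γ(homMod M N, V)) :
    tw (l + l') h = tw l h + tw l' h := by
  refine CohCmpLib.homMod_ext fun y hy => LinearMap.ext fun m => ?_
  refine (hVal_tw _ _ y hy m).trans ?_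
  refine ((congrArg (fun a => ins L N y a (hVal h y hy m)) (ger_add L y hy l l')).trans (ins_add L N y _ _ _)).trans ?_
  exact (congrArg₂ (· + ·) (hVal_tw l h y hy m) (hVal_tw l' h y hy m)).symm

theorem tw_add_right {L M N : X.Modules} {V : X.Opens} (l : Γ(L, V)) (h h' : Γ(homMod M N, V)) :
    tw l (h + h') = tw l h + tw l h' := by
  refine CohCmpLib.homMod_ext fun y hy => LinearMap.ext fun m => ?_
  refine (hVal_tw _ _ y hy m).trans ?_
  refine (map_add (ins L N y _) (hVal h y hy m) (hVal h' y hy m)).trans ?_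
  exact (congrArg₂ (· + ·) (hVal_tw l h y hy m) (hVal_tw l h' y hy m)).symm

theorem tw_smul_left {L M N : X.Modules} {V : X.Opens} (r : Γ(X, V)) (l : Γ(L, V)) (h : Γ(homMod M N, V)) :
    tw (r • l) h = r • tw l h := by
  refine CohCmpLib.homMod_ext fun y hy => LinearMap.ext fun m => ?_
  refine (hVal_tw _ _ y hy m).trans ?_
  refine ((congrArg (fun a => ins L N y a (hVal h y hy m)) (ger_smul L y hy r l)).trans (ins_smul L N y _ _ _)).trans ?_
  exact (congrArg (X.presheaf.germ V y hy r • ·) (hVal_tw l h y hy m)).symm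

theorem tw_smul_right {L M N : X.Modules} {V : X.Opens} (r : Γ(X, V)) (l : Γ(L, V)) (h : Γ(homMod M N, V)) :
    tw l (r • h) = r • tw l h := by
  refine CohCmpLib.homMod_ext fun y hy => LinearMap.ext fun m => ?_
  refine (hVal_tw _ _ y hy m).trans ?_
  refine (map_smul (ins L N y _) (X.presheaf.germ V y hy r) (hVal h y hy m)).trans ?_
  exact (congrArg (X.presheaf.germ V y hy r • ·) (hVal_tw l h y hy m)).symm

theorem tw_res {L M N : X.Modules} {V W : X.Opens} (hVW : V ≤ W) (l : Γ(L, W)) (h : Γ(homMod M N, W)) :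
    res (homMod M (tens L N)) hVW (tw l h) = tw (res L hVW l) (res (homMod M N) hVW h) := by
  refine CohCmpLib.homMod_ext fun y hy => LinearMap.ext fun m => ?_
  refine (LinearMap.congr_fun (CohCmpLib.hVal_res hVW (tw l h) y hy) m).trans ?_
  refine (hVal_tw _ _ y (hVW hy) m).trans (Eq.trans ?_ (hVal_tw _ _ y hy m).symm)
  exact (congrArg (fun a => ins L N y a (hVal h y (hVW hy) m)) (ger_res L hVW y hy l)).symm

theorem exists_twHom (L M N : X.Modules) :
    ∃ τ : tens L (homMod M N) ⟶ homMod M (tens L N), ∀ (V : X.Opens) (l : Γ(L, V)) (h : Γ(homMod M N, V)) y (hy : y ∈ V),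
      hVal (τ.app V (shTm l h)) y hy = (ins L N y (ger L y hy l)).comp (hVal h y hy) := by
  obtain ⟨τ, hτ⟩ := GrTildeLib.exists_tens_hom (M := L) (N := homMod M N) (P := homMod M (tens L N))
    (fun V l h => tw l h) (fun V => tw_add_left) (fun V => tw_add_right) (fun V => tw_smul_left)
    (fun V => tw_smul_right) (fun V W hVW => tw_res hVW)
  refine ⟨τ, fun V l h y hy => LinearMap.ext fun m => ?_⟩
  exact (congrArg (fun z => hVal z y hy m) (hτ V l h)).trans (hVal_tw l h y hy m)

/-- The map `L ⊗ Hom(M, N) → Hom(M, L ⊗ N)`. -/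
def twHom (L M N : X.Modules) : tens L (homMod M N) ⟶ homMod M (tens L N) := (exists_twHom L M N).choose

theorem hVal_twHom (L M N : X.Modules) {V : X.Opens} (l : Γ(L, V)) (h : Γ(homMod M N, V)) (y : X) (hy : y ∈ V) :
    hVal ((twHom L M N).app V (shTm l h)) y hy = (ins L N y (ger L y hy l)).comp (hVal h y hy) :=
  (exists_twHom L M N).choose_spec V l h y hy

theorem twHom_natural {M M' : X.Modules} (f : M ⟶ M') (L N : X.Modules) :
    ((DCoh.tensorBi (X := X)).obj L).map (preMap f N) ≫ twHom L M N = twHom L M' N ≫ preMap f (tens L N) := by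
  refine KFlatLib.tens_hom_ext fun V l h => CohCmpLib.homMod_ext fun y hy => ?_
  show hVal ((twHom L M N).app V ((((DCoh.tensorBi (X := X)).obj L).map (preMap f N)).app V (shTm l h))) y hy =
    hVal ((preMap f (tens L N)).app V ((twHom L M' N).app V (shTm l h))) y hy
  rw [KFlatLib.tensorBi_map₂_shTm, hVal_twHom, hVal_preMap, hVal_preMap, hVal_twHom, LinearMap.comp_assoc]

theorem bijective_ins (L N : X.Modules) (y : X) (g : stk L y)
    (hg : Function.Bijective fun c : X.presheaf.stalk y => c • g) : Function.Bijective (ins L N y g) := by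
  let e : X.presheaf.stalk y ≃ₗ[X.presheaf.stalk y] stk L y :=
    LinearEquiv.ofBijective (LinearMap.toSpanSingleton _ _ g) hg
  have h1 : (TensorProduct.mk (X.presheaf.stalk y) (stk L y) (stk N y) g : stk N y → _) =
      ((TensorProduct.lid (X.presheaf.stalk y) (stk N y)).symm.trans
        (TensorProduct.congr e (LinearEquiv.refl _ _))) := funext fun n => by
    show _ = e 1 ⊗ₜ[X.presheaf.stalk y] n
    exact congrArg (· ⊗ₜ[X.presheaf.stalk y] n) ((one_smul (X.presheaf.stalk y) g).symm : g = e 1)
  show Function.Bijective (stalkTensorLin L N y ∘ TensorProduct.mk (X.presheaf.stalk y) (stk L y) (stk N y) g)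
  rw [h1]
  exact (KFlatLib.stalkTensorLin_bijective L N y).comp (LinearEquiv.bijective _)

theorem isIso_twHom {L M : X.Modules} (hL : PicF.IsInvertible L) (hM : FlatMod.IsFinLocFree M) (N : X.Modules) :
    IsIso (twHom L M N) := KFlatLib.isIso_of_stalks _ fun y => by
  refine (ConcreteCategory.isIso_iff_bijective _).mpr ?_
  obtain ⟨U, e, hyU, he⟩ := TwistLib.exists_genOn hL y
  let g : stk L y := ger L y hyU e
  have hg : Function.Bijective fun c : X.presheaf.stalk y => c • g := he.genAt hyU
  let τ := ((DerSch.stalkFunctor X y).map (twHom L M N)).hom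
  have key : ∀ h : stk (homMod M N) y, evS (evMod M (tens L N)) y (τ (ins L (homMod M N) y g h)) =
      (ins L N y g).comp (evS (evMod M N) y h) := by
    intro h
    obtain ⟨V, hyV, h, rfl⟩ := exists_ger _ y h
    let W : X.Opens := U ⊓ V
    have hyW : y ∈ W := ⟨hyU, hyV⟩
    have e1 : g = ger L y hyW (res L inf_le_left e) := (ger_res L inf_le_left y hyW e).symm
    rw [e1, ← ger_res (homMod M N) (inf_le_right : W ≤ V) y hyW h, ins_ger, CohCmpLib.evS_evMod,
      show τ (ger (tens L (homMod M N)) y hyW (shTm (res L inf_le_left e) (res (homMod M N) inf_le_right h))) = _ from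
        ger_map (twHom L M N) y hyW _, CohCmpLib.evS_evMod, hVal_twHom]
  have hj := bijective_ins L (homMod M N) y g hg
  have hi := bijective_ins L N y g hg
  constructor
  · intro a b hab
    obtain ⟨a, rfl⟩ := hj.2 a
    obtain ⟨b, rfl⟩ := hj.2 b
    refine congrArg _ ((CohCmpLib.homEv_evMod hM y).1 (LinearMap.ext fun m => hi.1 ?_))
    have := congrArg (fun z => evS (evMod M (tens L N)) y z m) hab
    rwa [key, key] at this
  · intro b
    let j := LinearEquiv.ofBijective _ hi
    obtain ⟨h, hh⟩ := (CohCmpLib.homEv_evMod hM y).2 (j.symm.toLinearMap.comp (evS (evMod M (tens L N)) y b))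
    refine ⟨ins L (homMod M N) y g h, (CohCmpLib.homEv_evMod hM y).1 ((key h).trans (LinearMap.ext fun m => ?_))⟩
    rw [LinearMap.comp_apply, hh]
    exact j.apply_symm_apply _

/-- A global section of `L ⊗ Hom(M, N)` as a map. -/
def secHom (L M N : X.Modules) (s : Γ(tens L (homMod M N), (⊤ : X.Opens))) : M ⟶ tens L N :=
  HomCohLib.toHom ((twHom L M N).app ⊤ s)

theorem secHom_bijective {L M : X.Modules} (hL : PicF.IsInvertible L) (hM : FlatMod.IsFinLocFree M) (N : X.Modules) :
    Function.Bijective (secHom L M N) := by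
  haveI := isIso_twHom hL hM N
  have h : Function.Bijective (HomCohLib.toHom (M := M) (N := tens L N)) :=
    ⟨Function.LeftInverse.injective (HomCohLib.ofHom_toHom), fun φ => ⟨_, HomCohLib.toHom_ofHom φ⟩⟩
  exact h.comp ((ConcreteCategory.isIso_iff_bijective ((twHom L M N).app ⊤)).1 inferInstance)

theorem secHom_natural {M M' : X.Modules} (f : M ⟶ M') (L N : X.Modules)
    (s : Γ(tens L (homMod M' N), (⊤ : X.Opens))) :
    secHom L M N ((((DCoh.tensorBi (X := X)).obj L).map (preMap f N)).app ⊤ s) = f ≫ secHom L M' N s :=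
  (congrArg HomCohLib.toHom (congrArg (fun z : _ ⟶ homMod M (tens L N) => z.app ⊤ s) (twHom_natural f L N))).trans
    (toHom_preMap f (tens L N) _)

end PnDualLib
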