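import Groth.Agent.PnDualLib.Local
import Groth.Agent.RpushLib.Compare
import Groth.Agent.RpushLib.Flasque
import Groth.Agent.AVVanishLib.Basic
import Groth.Prelude.Def_KLin
import Mathlib.Algebra.Homology.DerivedCategory.Ext.Linear
import Mathlib.LinearAlgebra.Dual.Lemmas

/-!
# `Extⁱ(F, ω)` on projective space by syzygies
-/

set_option autoImplicit false
set_option linter.unusedSectionVars false
set_option linter.style.haveILetI false
set_option backward.isDefEq.respectTransparency false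
set_option backward.isDefEq.respectTransparency.types false
universe u v w

open CategoryTheory CategoryTheory.Limits AlgebraicGeometry TopologicalSpace Opposite

noncomputable section

namespace PnDualLib

open Abelian

section Abs

variable {C : Type u} [Category.{v} C] [Abelian C] [HasExt.{w} C]
  {R : Type*} [CommRing R] [Linear R C] {S : ShortComplex C} (hS : S.ShortExact) {Y : C}

/-- The connecting map in the first variable. -/
def extDel {a b : ℕ} (h : 1 + a = b) : Ext S.X₁ Y a →ₗ[R] Ext S.X₃ Y b :=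
  Ext.precompOfLinear hS.extClass R Y h

theorem extDel_surjective {a b : ℕ} (h : 1 + a = b) (h₂ : Subsingleton (Ext S.X₂ Y b)) :
    Function.Surjective (extDel (R := R) hS (Y := Y) h) := fun x =>
  Ext.contravariant_sequence_exact₃ hS Y x (Subsingleton.elim _ _) h

theorem extDel_injective {a b : ℕ} (h : 1 + a = b) (h₂ : Subsingleton (Ext S.X₂ Y a)) :
    Function.Injective (extDel (R := R) hS (Y := Y) h) := by
  refine LinearMap.ker_eq_bot.1 (LinearMap.ker_eq_bot'.2 fun x hx => ?_)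
  obtain ⟨y, rfl⟩ := Ext.contravariant_sequence_exact₁ hS Y x h hx
  rw [Subsingleton.elim y 0, Ext.comp_zero]

/-- Dimension shifting in the first variable. -/
def extDelEquiv {a b : ℕ} (h : 1 + a = b) (h₁ : Subsingleton (Ext S.X₂ Y a)) (h₂ : Subsingleton (Ext S.X₂ Y b)) :
    Ext S.X₁ Y a ≃ₗ[R] Ext S.X₃ Y b :=
  LinearEquiv.ofBijective _ ⟨extDel_injective hS h h₁, extDel_surjective hS h h₂⟩

/-- `Hom(X₁, Y) → Ext¹(X₃, Y)`. -/
def extDel₀ : (S.X₁ ⟶ Y) →ₗ[R] Ext S.X₃ Y 1 :=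
  (extDel (R := R) hS (rfl : 1 + 0 = 1)).comp (Ext.linearEquiv₀ (R := R)).symm.toLinearMap

theorem extDel₀_surjective (h₂ : Subsingleton (Ext S.X₂ Y 1)) :
    Function.Surjective (extDel₀ (R := R) hS (Y := Y)) :=
  (extDel_surjective (R := R) hS (rfl : 1 + 0 = 1) h₂).comp (Ext.linearEquiv₀ (R := R)).symm.surjective

theorem extDel₀_eq_zero_iff (a : S.X₁ ⟶ Y) :
    extDel₀ (R := R) hS a = 0 ↔ ∃ b : S.X₂ ⟶ Y, S.f ≫ b = a := by
  constructor
  · intro h
    obtain ⟨y, hy⟩ := Ext.contravariant_sequence_exact₁ hS Y (Ext.mk₀ a) (rfl : 1 + 0 = 1) h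
    obtain ⟨b, rfl⟩ := Ext.homEquiv₀.symm.surjective y
    exact ⟨b, Ext.homEquiv₀.symm.injective ((Ext.mk₀_comp_mk₀ S.f b).symm.trans hy)⟩
  · rintro ⟨b, rfl⟩
    show hS.extClass.comp (Ext.mk₀ (S.f ≫ b)) (rfl : 1 + 0 = 1) = 0
    rw [← Ext.mk₀_comp_mk₀, ← Ext.comp_assoc_of_second_deg_zero, hS.extClass_comp, Ext.zero_comp]

/-- Vanishing of `Extⁱ(A, W)`, `i > 0`, from a class of `W`'s stable under cosyzygies. -/
theorem subsingleton_ext_of_class [EnoughInjectives C] {A : C} (P : C → Prop)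
    (hP : ∀ {S : ShortComplex C}, S.ShortExact → Injective S.X₂ → P S.X₁ →
      P S.X₃ ∧ ∀ φ : A ⟶ S.X₃, ∃ ψ : A ⟶ S.X₂, ψ ≫ S.g = φ) :
    ∀ (i : ℕ) (W : C), P W → Subsingleton (Ext A W (i + 1)) := by
  intro i
  induction i with
  | zero =>
    intro W hW
    let T : ShortComplex C := ShortComplex.mk (Injective.ι W) (cokernel.π _) (cokernel.condition _)
    have hT : T.ShortExact := ShortComplex.ShortExact.mk (ShortComplex.exact_cokernel _)
    haveI : Injective T.X₂ := inferInstanceAs (Injective (Injective.under W))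
    refine subsingleton_of_forall_eq 0 fun x => ?_
    obtain ⟨y, hy⟩ := Ext.covariant_sequence_exact₁ A hT x (Ext.eq_zero_of_injective _) (rfl : 0 + 1 = 1)
    obtain ⟨φ, rfl⟩ := Ext.homEquiv₀.symm.surjective y
    obtain ⟨ψ, rfl⟩ := (hP hT inferInstance hW).2 φ
    rw [← hy]
    show (Ext.mk₀ (ψ ≫ T.g)).comp hT.extClass _ = 0
    rw [← Ext.mk₀_comp_mk₀, Ext.comp_assoc_of_second_deg_zero, hT.comp_extClass, Ext.comp_zero]
  | succ i ih =>
    intro W hW
    let T : ShortComplex C := ShortComplex.mk (Injective.ι W) (cokernel.π _) (cokernel.condition _)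
    have hT : T.ShortExact := ShortComplex.ShortExact.mk (ShortComplex.exact_cokernel _)
    haveI : Injective T.X₂ := inferInstanceAs (Injective (Injective.under W))
    refine subsingleton_of_forall_eq 0 fun x => ?_
    obtain ⟨y, hy⟩ := Ext.covariant_sequence_exact₁ A hT x (Ext.eq_zero_of_injective _) (rfl : i + 1 + 1 = i + 2)
    haveI := ih _ (hP hT inferInstance hW).1
    rw [← hy, Subsingleton.elim y 0, Ext.zero_comp]

end Abs

theorem subsingleton_HH_of_injective {X : Scheme.{u}} (I : X.Modules) [Injective I] (p : ℕ) :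
    Subsingleton (Coh.HH X I (p + 1)) :=
  (QCohLib.subsingleton_H_iff ((QCohLib.toAbF X).obj I) (p + 1)).mpr
    (haveI := RpushLib.isFlasque_toAb_injective I; QCohLib.subsingleton_of_isFlasque p _ ⊤)

variable (k : Type u) [Field k] (n : ℕ)

local notation "ℙ" => CohB1.ProjSpace n k
local notation "O'" => Twist.twistProjSpace n k
local notation "ω'" => Twist.twistProjSpace n k (-((n : ℤ) + 1))

instance enoughInjectives_projSpace : EnoughInjectives (CohB1.ProjSpace n k).Modules :=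
  ModSiteLib.sheafOfModules_enoughInjectives (R := (CohB1.ProjSpace n k).ringCatSheaf)

/-- Maps out of `O(-N)` lift when the kernel has no twisted `H¹`. -/
theorem exists_lift_twist (N : ℤ) {S : ShortComplex (CohB1.ProjSpace n k).Modules} (hS : S.ShortExact)
    (h : Subsingleton (Coh.HH ℙ ((tw' k n N).obj S.X₁) 1)) (φ : O' (-N) ⟶ S.X₃) :
    ∃ ψ : O' (-N) ⟶ S.X₂, ψ ≫ S.g = φ := by
  let E := twistEquiv k n (-N) N (by ring)
  let adj := E.toAdjunction
  let O := Coh.structureModule (CohB1.ProjSpace n k)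
  let u : (tw' k n (-N)).obj O ≅ O' (-N) := PicPnLib.unitRight (O' (-N))
  let φ' : O ⟶ (tw' k n N).obj S.X₃ := adj.homEquiv O S.X₃ (u.hom ≫ φ)
  have hS' : (S.map (tw' k n N)).ShortExact := HilbPolyLib.shortExact_tensor (PicPnLib.twist_inv n k N) hS
  have hsur : Function.Surjective (CurvLib.hMap (k := k) ((tw' k n N).map S.g) 0) := by
    have h3 := CurvLib.exact₃ (k := k) hS' 0
    rw [← LinearMap.range_eq_top]
    refine h3.trans ?_
    rw [LinearMap.ker_eq_top]
    exact LinearMap.ext fun x => h.elim _ _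
  obtain ⟨w, hw⟩ := (KFlatLib.unitSecEquiv ((tw' k n N).obj S.X₃)).symm.surjective φ'
  obtain ⟨s, hs⟩ := hsur ((CohCmpLib.h0E _).symm w)
  let v : Γ((tw' k n N).obj S.X₂, (⊤ : (CohB1.ProjSpace n k).Opens)) := CohCmpLib.h0E _ s
  have hv : ((tw' k n N).map S.g).app ⊤ v = w := by
    refine (CohCmpLib.h0E_hm ((tw' k n N).map S.g) s).symm.trans ?_
    exact (congrArg (CohCmpLib.h0E _) hs).trans ((CohCmpLib.h0E _).apply_symm_apply _)
  let ψ' : O ⟶ (tw' k n N).obj S.X₂ := (KFlatLib.unitSecEquiv _).symm v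
  have hψ : ψ' ≫ (tw' k n N).map S.g = φ' := by
    refine Eq.trans ?_ hw
    refine (KFlatLib.unitSecEquiv _).injective ?_
    rw [Equiv.apply_symm_apply]
    show ((tw' k n N).map S.g).app ⊤ (KFlatLib.unitSecEquiv _ ψ') = w
    rw [Equiv.apply_symm_apply, hv]
  refine ⟨u.inv ≫ (adj.homEquiv O S.X₂).symm ψ', ?_⟩
  rw [Category.assoc, ← Adjunction.homEquiv_naturality_right_symm, Iso.inv_comp_eq]
  refine (congrArg (adj.homEquiv O S.X₃).symm hψ).trans ?_
  exact (adj.homEquiv O S.X₃).symm_apply_apply _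

theorem subsingleton_ext_neg [HasExt.{u} (CohB1.ProjSpace n k).Modules] (N b : ℕ) (W : (CohB1.ProjSpace n k).Modules)
    (hW : ∀ j : ℕ, Subsingleton (Coh.HH ℙ ((tw' k n (N : ℤ)).obj W) (j + 1))) (i : ℕ) :
    Subsingleton (Ext (neg k n N b) W (i + 1)) := by
  refine subsingleton_ext_of_class (fun V => ∀ j : ℕ, Subsingleton (Coh.HH ℙ ((tw' k n (N : ℤ)).obj V) (j + 1)))
    (fun {S} hS hI h₁ => ⟨fun j => ?_, fun φ => ?_⟩) i W hW
  · have hS' : (S.map (tw' k n (N : ℤ))).ShortExact := HilbPolyLib.shortExact_tensor (PicPnLib.twist_inv n k _) hS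
    haveI : Injective ((tw' k n (N : ℤ)).obj S.X₂) :=
      (twistEquiv k n (-(N : ℤ)) (N : ℤ) (by ring)).symm.map_injective_iff S.X₂ |>.2 hI
    haveI : Subsingleton (Coh.HH ℙ (S.map (tw' k n (N : ℤ))).X₁ (j + 1 + 1)) := h₁ (j + 1)
    exact (injective_del (k := k) hS' (subsingleton_HH_of_injective ((tw' k n (N : ℤ)).obj S.X₂) j)).subsingleton
  · let ι := fun a : Fin b => Sigma.ι (fun _ : Fin b => O' (-(N : ℤ))) a
    choose ψ hψ using fun a : Fin b => exists_lift_twist k n (N : ℤ) hS (h₁ 0) (ι a ≫ φ)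
    refine ⟨Sigma.desc ψ, Sigma.hom_ext _ _ fun a => ?_⟩
    rw [Sigma.ι_desc_assoc, hψ]

/-- The pairing, linearly. -/
def θlin (G : (CohB1.ProjSpace n k).Modules) : (G ⟶ ω') →ₗ[k] Module.Dual k (Coh.HH ℙ G n) where
  toFun := θ k n G
  map_add' := map_add _
  map_smul' c φ := by
    show θ k n G (StabLib.smulHom G (cst c) ≫ φ) = c • θ k n G φ
    rw [smulHom_comp, θ, pair_smulHom]

variable (F : (CohB1.ProjSpace n k).Modules) (hF : Coh.IsCoh F)

theorem subsingleton_twist_omega (N : ℕ) (hN : n + 1 ≤ N) (j : ℕ) :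
    Subsingleton (Coh.HH ℙ ((tw' k n (N : ℤ)).obj ω') (j + 1)) := by
  obtain ⟨e⟩ := PicPnLib.twist_add n k (N : ℤ) (-((n : ℤ) + 1))
  exact SerreVanLib.subsingleton_HH_of_iso e (j + 1)
    (PnCohLib.subsingleton_HH_twist _ (j + 1) (fun h => by omega) (fun h => by omega))

variable [HasExt.{u} (CohB1.ProjSpace n k).Modules]

theorem subsingleton_ext_mid (j i : ℕ) : Subsingleton (Ext (mid k n F hF j) ω' (i + 1)) :=
  subsingleton_ext_neg k n _ _ _ (subsingleton_twist_omega k n _ (cov k n F hF j).big) i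

/-- `Ext^{i+1}` by syzygies. -/
theorem nonempty_ext_shift : ∀ i j : ℕ,
    Nonempty (Ext (syz k n F hF j).1 ω' (i + 1) ≃ₗ[k] Ext (syz k n F hF (j + i)).1 ω' 1)
  | 0, j => ⟨LinearEquiv.refl k _⟩
  | i + 1, j => by
    obtain ⟨e⟩ := nonempty_ext_shift i (j + 1)
    rw [show j + (i + 1) = j + 1 + i by omega]
    exact ⟨(extDelEquiv (syzSeq_shortExact k n F hF j) (a := i + 1) (b := i + 2) (by omega)
      (subsingleton_ext_mid k n F hF j i) (subsingleton_ext_mid k n F hF j (i + 1))).symm ≪≫ₗ e⟩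

/-- `Ext¹` of a syzygy. -/
theorem nonempty_ext_one (j : ℕ) : Nonempty (Ext (syz k n F hF j).1 ω' 1 ≃ₗ[k]
    Module.Dual k ↥(LinearMap.ker (CurvLib.hMap (k := k) (incl k n F hF j) n))) := by
  let hS := syzSeq_shortExact k n F hF j
  let f := CurvLib.hMap (k := k) (incl k n F hF j) n
  let δ := extDel₀ (R := k) hS (Y := ω')
  let g : ((syz k n F hF (j + 1)).1 ⟶ ω') →ₗ[k] Module.Dual k ↥(LinearMap.ker f) :=
    (LinearMap.ker f).subtype.dualMap.comp (θlin k n _)
  have hθ₁ := pair_bijective k n _ (syz k n F hF (j + 1)).2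
  have hθ₂ : Function.Bijective (θ k n (mid k n F hF j)) := pair_bijective_neg k n _ _ (cov k n F hF j).big
  have hg : Function.Surjective g :=
    (LinearMap.dualMap_surjective_of_injective (Submodule.injective_subtype _)).comp hθ₁.2
  have hk : LinearMap.ker δ = LinearMap.ker g := by
    ext φ
    rw [LinearMap.mem_ker, LinearMap.mem_ker, extDel₀_eq_zero_iff hS]
    constructor
    · rintro ⟨b, rfl⟩
      refine LinearMap.ext fun x => ?_
      show θ k n _ (incl k n F hF j ≫ b) x.1 = 0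
      rw [θ, pair_comp, x.2, map_zero]
    · intro h
      have hmem : θ k n _ φ ∈ (LinearMap.ker f).dualAnnihilator := by
        rw [Submodule.mem_dualAnnihilator]
        exact fun x hx => LinearMap.congr_fun h ⟨x, hx⟩
      rw [← LinearMap.range_dualMap_eq_dualAnnihilator_ker] at hmem
      obtain ⟨ξ, hξ⟩ := hmem
      obtain ⟨b, rfl⟩ := hθ₂.2 ξ
      refine ⟨b, hθ₁.1 ?_⟩
      refine Eq.trans (LinearMap.ext fun x => ?_) hξ
      show θ k n _ (incl k n F hF j ≫ b) x = _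
      rw [θ, pair_comp]
      rfl
  exact ⟨(LinearMap.quotKerEquivOfSurjective δ (extDel₀_surjective hS (subsingleton_ext_mid k n F hF j 0))).symm ≪≫ₗ
    Submodule.quotEquivOfEq _ _ hk ≪≫ₗ LinearMap.quotKerEquivOfSurjective g hg⟩

theorem subsingleton_mid (j : ℕ) (p : ℕ) (hp : p ≠ n) : Subsingleton (Coh.HH ℙ (mid k n F hF j) p) := by
  obtain ⟨e⟩ := PnCohLib.exists_sigma_iso (O' (-((cov k n F hF j).N : ℤ))) (cov k n F hF j).b
  have := (cov k n F hF j).big
  exact SerreVanLib.subsingleton_HH_of_iso e p (PnCohLib.subsingleton_HH_tensor_free _ p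
    (PnCohLib.subsingleton_HH_twist _ p (fun h => by omega) (fun h => hp h.1)) _)

/-- The kernel on top cohomology. -/
theorem nonempty_ker_equiv (j p : ℕ) (hp : p + 1 = n) :
    Nonempty (↥(LinearMap.ker (CurvLib.hMap (k := k) (incl k n F hF j) n)) ≃ₗ[k] Coh.HH ℙ (syz k n F hF j).1 p) := by
  subst hp
  have hS := syzSeq_shortExact k (p + 1) F hF j
  have hinj := injective_del (k := k) hS (subsingleton_mid k (p + 1) F hF j p (by omega))
  exact ⟨((LinearEquiv.ofInjective _ hinj) ≪≫ₗ LinearEquiv.ofEq _ _ (CurvLib.exact₁ (k := k) hS p)).symm⟩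

/-- Cohomology below the top degree by syzygies. -/
theorem nonempty_H_shift : ∀ i j p : ℕ, p + i < n →
    Nonempty (Coh.HH ℙ (syz k n F hF j).1 p ≃ₗ[k] Coh.HH ℙ (syz k n F hF (j + i)).1 (p + i))
  | 0, j, p, _ => ⟨LinearEquiv.refl k _⟩
  | i + 1, j, p, h => by
    obtain ⟨e⟩ := nonempty_H_shift i (j + 1) (p + 1) (by omega)
    rw [show j + (i + 1) = j + 1 + i by omega, show p + (i + 1) = p + 1 + i by omega]
    exact ⟨delEquiv (k := k) (syzSeq_shortExact k n F hF j) (subsingleton_mid k n F hF j p (by omega))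
      (subsingleton_mid k n F hF j (p + 1) (by omega)) ≪≫ₗ e⟩

theorem injective_HH_zero (j : ℕ) :
    Function.Injective (CurvLib.hMap (k := k) (incl k n F hF j) 0) :=
  CohCmpLib.hm_f_injective (syzSeq_shortExact k n F hF j)

include hF in
theorem nonempty_ext_dual (i : ℕ) (hi : i ≤ n) :
    Nonempty (Ext F ω' i ≃ₗ[k] Module.Dual k (Coh.HH ℙ F (n - i))) := by
  match i, hi with
  | 0, _ =>
    exact ⟨Ext.linearEquiv₀ ≪≫ₗ LinearEquiv.ofBijective (θlin k n F) (pair_bijective k n F hF)⟩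
  | i + 1, hi =>
    obtain ⟨e₁⟩ := nonempty_ext_shift k n F hF i 0
    obtain ⟨e₂⟩ := nonempty_ext_one k n F hF (0 + i)
    obtain ⟨e₃⟩ := nonempty_ker_equiv k n F hF (0 + i) (n - (i + 1) + i) (by omega)
    obtain ⟨e₄⟩ := nonempty_H_shift k n F hF i 0 (n - (i + 1)) (by omega)
    exact ⟨e₁ ≪≫ₗ e₂ ≪≫ₗ (e₄ ≪≫ₗ e₃.symm).dualMap⟩

include hF in
theorem subsingleton_ext_above (i : ℕ) (hi : n < i) : Subsingleton (Ext F ω' i) := by
  obtain ⟨c, rfl⟩ : ∃ c, i = n + c + 1 := ⟨i - n - 1, by omega⟩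
  obtain ⟨e₁⟩ := nonempty_ext_shift k n F hF (n + c) 0
  obtain ⟨e₂⟩ := nonempty_ext_one k n F hF (0 + (n + c))
  refine (e₁ ≪≫ₗ e₂).toEquiv.subsingleton_congr.2 ?_
  suffices Subsingleton ↥(LinearMap.ker (CurvLib.hMap (k := k) (incl k n F hF (0 + (n + c))) n)) from
    ⟨fun a b => LinearMap.ext fun x => by rw [this.elim x 0, map_zero, map_zero]⟩
  rcases Nat.eq_zero_or_pos n with hn | hn
  · subst hn
    rw [LinearMap.ker_eq_bot.2 (injective_HH_zero k 0 F hF _)]
    infer_instance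
  · obtain ⟨e₃⟩ := nonempty_ker_equiv k n F hF (0 + (n + c)) (0 + (n - 1)) (by omega)
    obtain ⟨e₄⟩ := nonempty_H_shift k n F hF (n - 1) (c + 1) 0 (by omega)
    rw [show c + 1 + (n - 1) = 0 + (n + c) by omega] at e₄
    refine (e₃ ≪≫ₗ e₄.symm).toEquiv.subsingleton_congr.2 ?_
    haveI := subsingleton_mid k n F hF c 0 (by omega)
    exact (injective_HH_zero k n F hF c).subsingleton

end PnDualLib
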