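import Groth.Agent.PnDualLib.Top
import Groth.Agent.MiscFlat6.FreeStalks
import Mathlib.Algebra.Category.ModuleCat.Ext.HasExt
import Mathlib.Algebra.Category.ModuleCat.EnoughInjectives
import Mathlib.Algebra.Homology.DerivedCategory.Ext.EnoughProjectives

/-!
# The stalk condition as vanishing of Ext
-/

set_option autoImplicit false
set_option linter.unusedSectionVars false
set_option linter.style.haveILetI false
set_option maxHeartbeats 800000
set_option backward.isDefEq.respectTransparency false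
set_option backward.isDefEq.respectTransparency.types false
universe w v u

open CategoryTheory CategoryTheory.Limits AlgebraicGeometry TopologicalSpace Opposite

noncomputable section

namespace PnDualLib

section Abs

open Abelian

variable {C : Type u} [Category.{v} C] [Abelian C] [HasExt.{w} C] {S : ShortComplex C} (hS : S.ShortExact)
  [Projective S.X₂] (Y : C)

include hS in
theorem subsingleton_ext_one_iff : Subsingleton (Ext S.X₃ Y 1) ↔ ∀ a : S.X₁ ⟶ Y, ∃ b : S.X₂ ⟶ Y, S.f ≫ b = a := by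
  constructor
  · intro h a
    obtain ⟨x, hx⟩ := Ext.contravariant_sequence_exact₁ hS Y (Ext.mk₀ a) (rfl : 1 + 0 = 1) (Subsingleton.elim _ _)
    obtain ⟨b, rfl⟩ := Ext.homEquiv₀.symm.surjective x
    refine ⟨b, Ext.homEquiv₀.symm.injective ?_⟩
    exact ((Ext.mk₀_comp_mk₀ S.f b).symm.trans hx)
  · refine fun h => subsingleton_of_forall_eq 0 fun x => ?_
    obtain ⟨y, rfl⟩ := Ext.contravariant_sequence_exact₃ hS Y x (Ext.eq_zero_of_projective _) (rfl : 1 + 0 = 1)
    obtain ⟨a, rfl⟩ := Ext.homEquiv₀.symm.surjective y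
    obtain ⟨b, rfl⟩ := h a
    show hS.extClass.comp (Ext.mk₀ (S.f ≫ b)) _ = 0
    rw [← Ext.mk₀_comp_mk₀, ← Ext.comp_assoc_of_second_deg_zero, hS.extClass_comp, Ext.zero_comp]

include hS in
theorem subsingleton_ext_shift_iff (i : ℕ) : Subsingleton (Ext S.X₃ Y (i + 2)) ↔ Subsingleton (Ext S.X₁ Y (i + 1)) := by
  constructor
  · refine fun h => subsingleton_of_forall_eq 0 fun y => ?_
    obtain ⟨x, rfl⟩ := Ext.contravariant_sequence_exact₁ hS Y y (by omega : 1 + (i + 1) = i + 2) (Subsingleton.elim _ _)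
    rw [Ext.eq_zero_of_projective x, Ext.comp_zero]
  · refine fun h => subsingleton_of_forall_eq 0 fun x => ?_
    obtain ⟨y, rfl⟩ := Ext.contravariant_sequence_exact₃ hS Y x (Ext.eq_zero_of_projective _) (by omega : 1 + (i + 1) = i + 2)
    rw [Subsingleton.elim y 0, Ext.comp_zero]

end Abs

variable (k : Type u) [Field k] (n : ℕ)
variable (F : (CohB1.ProjSpace n k).Modules) (hF : Coh.IsCoh F)

local notation "ℙ" => CohB1.ProjSpace n k
local notation "O'" => Twist.twistProjSpace n k
local notation "ω'" => Twist.twistProjSpace n k (-((n : ℤ) + 1))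

open CohCmpLib (stk)

theorem nonempty_twist_stalk (t : ℤ) (y : CohB1.ProjSpace n k) :
    Nonempty (stk (O' t) y ≅ ModuleCat.of ((CohB1.ProjSpace n k).presheaf.stalk y) ((CohB1.ProjSpace n k).presheaf.stalk y)) := by
  obtain ⟨U, e, hyU, he⟩ := TwistLib.exists_genOn (PicPnLib.twist_inv n k t) y
  exact ⟨(LinearEquiv.ofBijective (LinearMap.toSpanSingleton _ _ (ProjFormLib.ger (O' t) y hyU e)) (he.genAt hyU)).symm.toModuleIso⟩

theorem projective_mid (j : ℕ) (y : CohB1.ProjSpace n k) : Projective (stk (mid k n F hF j) y) := by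
  haveI := MiscFlat6.free_stalk_of_isFinLocFree (isFinLocFree_mid k n F hF j) y
  exact (IsProjective.iff_projective _).1 inferInstance

theorem stalk_seq (j : ℕ) (y : CohB1.ProjSpace n k) :
    ((syzSeq k n F hF j).map (DerSch.stalkFunctor ℙ y)).ShortExact :=
  (syzSeq_shortExact k n F hF j).map_of_exact _

/-- The Ext group of a stalk against the local ring. -/
abbrev ExtAt (M : (CohB1.ProjSpace n k).Modules) (y : CohB1.ProjSpace n k) (j : ℕ) :=
  Abelian.Ext (stk M y)
    (ModuleCat.of ((CohB1.ProjSpace n k).presheaf.stalk y) ((CohB1.ProjSpace n k).presheaf.stalk y)) j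

theorem subsingleton_extAt_iff (y : CohB1.ProjSpace n k) : ∀ q j : ℕ,
    Subsingleton (ExtAt k n (syz k n F hF j).1 y (q + 1)) ↔ ExtendsAt k n F hF (j + q) y
  | 0, j => by
    haveI : Projective ((syzSeq k n F hF j).map (DerSch.stalkFunctor ℙ y)).X₂ := projective_mid k n F hF j y
    obtain ⟨e⟩ := nonempty_twist_stalk k n (-((n : ℤ) + 1)) y
    refine (subsingleton_ext_one_iff (stalk_seq k n F hF j y) _).trans ⟨fun h a => ?_, fun h a => ?_⟩
    · obtain ⟨b, hb⟩ := h (ModuleCat.ofHom a ≫ e.hom)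
      refine ⟨(b ≫ e.inv).hom, ?_⟩
      have h2 : ((syzSeq k n F hF j).map (DerSch.stalkFunctor ℙ y)).f ≫ (b ≫ e.inv) = ModuleCat.ofHom a := by
        rw [← Category.assoc, hb, Category.assoc, e.hom_inv_id, Category.comp_id]
      exact congrArg ModuleCat.Hom.hom h2
    · obtain ⟨b, hb⟩ := h (a ≫ e.inv).hom
      refine ⟨ModuleCat.ofHom b ≫ e.hom, ?_⟩
      have h2 : ((syzSeq k n F hF j).map (DerSch.stalkFunctor ℙ y)).f ≫ ModuleCat.ofHom b = a ≫ e.inv :=
        ModuleCat.hom_ext hb
      rw [← Category.assoc, h2, Category.assoc, e.inv_hom_id, Category.comp_id]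
  | q + 1, j => by
    haveI : Projective ((syzSeq k n F hF j).map (DerSch.stalkFunctor ℙ y)).X₂ := projective_mid k n F hF j y
    refine (subsingleton_ext_shift_iff (stalk_seq k n F hF j y) _ q).trans ?_
    rw [show j + (q + 1) = j + 1 + q by omega]
    exact subsingleton_extAt_iff y q (j + 1)

theorem subsingleton_extAt_zero_iff (y : CohB1.ProjSpace n k) :
    Subsingleton (ExtAt k n F y 0) ↔
      ∀ a : stk F y →ₗ[(CohB1.ProjSpace n k).presheaf.stalk y] stk ω' y, a = 0 := by
  obtain ⟨e⟩ := nonempty_twist_stalk k n (-((n : ℤ) + 1)) y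
  rw [Abelian.Ext.homEquiv₀.subsingleton_congr]
  constructor
  · intro h a
    have h1 : ModuleCat.ofHom a ≫ e.hom = 0 := Subsingleton.elim _ _
    have h2 : ModuleCat.ofHom a = (0 : stk F y ⟶ _) := by rw [← cancel_mono e.hom, h1, zero_comp]
    exact congrArg ModuleCat.Hom.hom h2
  · refine fun h => ⟨fun a b => ?_⟩
    rw [← cancel_mono e.inv]
    exact ModuleCat.hom_ext ((h _).trans (h _).symm)

/-- Twisting by a negative number, whichever way round. -/
theorem subsingleton_twistBy_iff (m : ℤ) (i : ℕ) :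
    Subsingleton (Coh.HH ℙ (Twist.twistBy (CohB1.polyGrading n k) F m) i) ↔
      Subsingleton (Coh.HH ℙ ((tw' k n m).obj F) i) :=
  ⟨fun h => SerreVanLib.subsingleton_HH_of_iso (HilbPolyLib.swapIso (O' m) F) i h,
    fun h => SerreVanLib.subsingleton_HH_of_iso (HilbPolyLib.swapIso F (O' m)) i h⟩

theorem eventually_neg_iff (i : ℕ) :
    (∃ m₀ : ℤ, ∀ m : ℤ, m₀ ≤ m → Subsingleton (Coh.HH ℙ (Twist.twistBy (CohB1.polyGrading n k) F (-m)) i)) ↔
      ∃ m₀ : ℕ, ∀ m : ℕ, m₀ ≤ m → Subsingleton (Coh.HH ℙ ((tw' k n (-(m : ℤ))).obj F) i) := by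
  constructor
  · rintro ⟨m₀, h⟩
    exact ⟨m₀.toNat, fun m hm => (subsingleton_twistBy_iff k n F _ i).1 (h m (by omega))⟩
  · rintro ⟨m₀, h⟩
    refine ⟨m₀, fun m hm => ?_⟩
    obtain ⟨p, rfl⟩ := Int.eq_ofNat_of_zero_le (le_trans (Int.natCast_nonneg m₀) hm)
    exact (subsingleton_twistBy_iff k n F _ i).2 (h p (by omega))

include hF in
/-- **The criterion**: `Hⁱ(F(-m)) = 0` for `m ≫ 0` gives the vanishing of `Ext^{n-i}` at all stalks. -/
theorem extAt_of_eventually (i j : ℕ) (hij : i + j = n)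
    (h : ∃ m₀ : ℤ, ∀ m : ℤ, m₀ ≤ m → Subsingleton (Coh.HH ℙ (Twist.twistBy (CohB1.polyGrading n k) F (-m)) i))
    (y : CohB1.ProjSpace n k) : Subsingleton (ExtAt k n F y j) := by
  rw [eventually_neg_iff] at h
  cases j with
  | zero =>
    obtain rfl : i = n := by omega
    exact (subsingleton_extAt_zero_iff k i F y).2 ((eventually_top_iff k i F hF).1 h y)
  | succ q =>
    have := (subsingleton_extAt_iff k n F hF y q 0).2
      (by rw [Nat.zero_add]; exact (eventually_iff k n F hF i q hij).1 h y)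
    exact this

include hF in
/-- **The criterion**: vanishing of `Ext^{n-i}` at closed points gives `Hⁱ(F(-m)) = 0` for `m ≫ 0`. -/
theorem eventually_of_extAt (i j : ℕ) (hij : i + j = n)
    (h : ∀ y : CohB1.ProjSpace n k, IsClosed ({y} : Set (CohB1.ProjSpace n k)) → Subsingleton (ExtAt k n F y j)) :
    ∃ m₀ : ℤ, ∀ m : ℤ, m₀ ≤ m → Subsingleton (Coh.HH ℙ (Twist.twistBy (CohB1.polyGrading n k) F (-m)) i) := by
  rw [eventually_neg_iff]
  cases j with
  | zero =>
    obtain rfl : i = n := by omega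
    exact (eventually_top_iff k i F hF).2 fun y hy => (subsingleton_extAt_zero_iff k i F y).1 (h y hy)
  | succ q =>
    refine (eventually_iff k n F hF i q hij).2 fun y hy => ?_
    have := (subsingleton_extAt_iff k n F hF y q 0).1 (h y hy)
    rwa [Nat.zero_add] at this

theorem eventually_above (i : ℕ) (hi : n < i) :
    ∃ m₀ : ℤ, ∀ m : ℤ, m₀ ≤ m → Subsingleton (Coh.HH ℙ (Twist.twistBy (CohB1.polyGrading n k) F (-m)) i) :=
  ⟨0, fun _ _ => subsingleton_HH_above k n _ i hi⟩

end PnDualLib
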