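import Groth.Agent.PnDualLib.Master

/-!
# The asymptotic criterion in the top degree
-/

set_option autoImplicit false
set_option linter.unusedSectionVars false
set_option linter.style.haveILetI false
set_option maxHeartbeats 800000
set_option backward.isDefEq.respectTransparency false
set_option backward.isDefEq.respectTransparency.types false
universe u

open CategoryTheory CategoryTheory.Limits AlgebraicGeometry TopologicalSpace Opposite
open CohCmpLib (stk homMod evMod evS)

noncomputable section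

namespace PnDualLib

variable (k : Type u) [Field k] (n : ℕ)
variable (F : (CohB1.ProjSpace n k).Modules) (hF : Coh.IsCoh F)

local notation "ℙ" => CohB1.ProjSpace n k
local notation "O'" => Twist.twistProjSpace n k
local notation "ω'" => Twist.twistProjSpace n k (-((n : ℤ) + 1))

/-- The start of the dual of the resolution. -/
def dualStart : ShortComplex (CohB1.ProjSpace n k).Modules :=
  ShortComplex.mk (0 : homMod (mid k n F hF 0) ω' ⟶ homMod (mid k n F hF 0) ω') (preMap (dif k n F hF 0) ω') zero_comp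

theorem stalk_start_iff (y : CohB1.ProjSpace n k) :
    (∀ b : stk (dualStart k n F hF).X₂ y, sm (dualStart k n F hF).g y b = 0 →
        ∃ a, sm (dualStart k n F hF).f y a = b) ↔
      ∀ a : stk F y →ₗ[(CohB1.ProjSpace n k).presheaf.stalk y] stk ω' y, a = 0 := by
  let Φ := fun i => evS (evMod (mid k n F hF i) ω') y
  have hb : ∀ i, Function.Bijective (Φ i) := fun i => CohCmpLib.homEv_evMod (isFinLocFree_mid k n F hF i) y
  have hgs : ∀ i, Function.Surjective (sm (cov k n F hF i).g y) := fun i =>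
    DetRootLib.stalk_surjective (syzSeq_shortExact k n F hF i) y
  have hd : sm (dif k n F hF 0) y = (sm (incl k n F hF 0) y).comp (sm (cov k n F hF 1).g y) := sm_comp _ _ y
  have hN : ∀ b, Φ 1 (sm (preMap (dif k n F hF 0) ω') y b) = (Φ 0 b).comp (sm (dif k n F hF 0) y) := fun b =>
    evS_preMap _ _ y b
  have hker : ∀ x, sm (cov k n F hF 0).g y (sm (incl k n F hF 0) y x) = 0 := fun x =>
    LinearMap.congr_fun ((sm_comp _ _ y).symm.trans ((congrArg (fun z => sm z y) (kernel.condition _)).trans
      (sm_zero _ _ y))) x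
  constructor
  · intro h a
    obtain ⟨w, hw⟩ := (hb 0).2 (a.comp (sm (cov k n F hF 0).g y))
    obtain ⟨v, hv⟩ := h w ((hb 1).1 (by
      refine (hN w).trans (Eq.trans ?_ (map_zero (Φ 1)).symm)
      rw [hw, hd]
      refine LinearMap.ext fun x => ?_
      show a (sm (cov k n F hF 0).g y (sm (incl k n F hF 0) y _)) = 0
      rw [hker, map_zero]))
    have h0 : w = 0 := hv.symm.trans (LinearMap.congr_fun (sm_zero _ _ y) v)
    refine LinearMap.ext fun x => ?_
    obtain ⟨z, rfl⟩ := hgs 0 x
    have h1 := hw.symm.trans ((congrArg (Φ 0) h0).trans (map_zero _))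
    exact LinearMap.congr_fun h1 z
  · intro h w hw
    refine ⟨0, (map_zero _).trans ?_⟩
    have h1 : (Φ 0 w).comp (sm (dif k n F hF 0) y) = 0 := (hN w).symm.trans ((congrArg (Φ 1) hw).trans (map_zero _))
    rw [hd] at h1
    have h2 : ∀ x, sm (cov k n F hF 0).g y x = 0 → Φ 0 w x = 0 := fun x hx => by
      obtain ⟨c, rfl⟩ := DetRootLib.stalk_exact (syzSeq_shortExact k n F hF 0) y x hx
      obtain ⟨e, rfl⟩ := hgs 1 c
      exact LinearMap.congr_fun h1 e
    have hle : LinearMap.ker (sm (cov k n F hF 0).g y) ≤ LinearMap.ker (Φ 0 w) := h2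
    have ha := h ((Submodule.liftQ _ (Φ 0 w) hle).comp
      (LinearMap.quotKerEquivOfSurjective _ (hgs 0)).symm.toLinearMap)
    refine (hb 0).1 ((map_zero _).trans (LinearMap.ext fun x => ?_))
    have hx := LinearMap.congr_fun ha (sm (cov k n F hF 0).g y x)
    have e : (LinearMap.quotKerEquivOfSurjective _ (hgs 0)).symm.toLinearMap
      (sm (cov k n F hF 0).g y x) = Submodule.Quotient.mk x :=
      (LinearEquiv.symm_apply_eq _).2 (LinearMap.quotKerEquivOfSurjective_apply_mk _ _ x).symm
    exact ((congrArg (Submodule.liftQ _ (Φ 0 w) hle) e).symm.trans hx).symm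

theorem forall_eq_zero_iff_sections (m : ℕ) :
    (∀ φ : F ⟶ (tw' k n (m : ℤ)).obj ω', φ = 0) ↔
      ∀ w : Γ((tw' k n (m : ℤ)).obj (dualStart k n F hF).X₂, (⊤ : (CohB1.ProjSpace n k).Opens)),
        ((tw' k n (m : ℤ)).map (dualStart k n F hF).g).app ⊤ w = 0 →
          ∃ v, ((tw' k n (m : ℤ)).map (dualStart k n F hF).f).app ⊤ v = w := by
  have hL := PicPnLib.twist_inv n k (m : ℤ)
  let L := O' (m : ℤ)
  let sec := fun i => secHom L (mid k n F hF i) ω'
  have hb : ∀ i, Function.Bijective (sec i) := fun i => secHom_bijective hL (isFinLocFree_mid k n F hF i) _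
  haveI : ∀ i, Epi (cov k n F hF i).g := fun i => (cov k n F hF i).epi
  have hz := secHom_zero hL (isFinLocFree_mid k n F hF 0) ω'
  constructor
  · intro h w hw
    have h1 : dif k n F hF 0 ≫ sec 0 w = 0 :=
      ((secHom_natural (dif k n F hF 0) L ω' w).symm.trans (congrArg (sec 1) hw)).trans
        (secHom_zero hL (isFinLocFree_mid k n F hF _) _)
    have h2 : incl k n F hF 0 ≫ sec 0 w = 0 := by
      rw [← cancel_epi (cov k n F hF 1).g, comp_zero, ← Category.assoc]; exact h1
    have h3 := Abelian.comp_epiDesc (cov k n F hF 0).g (sec 0 w) h2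
    rw [h (Abelian.epiDesc (cov k n F hF 0).g (sec 0 w) h2), comp_zero] at h3
    exact ⟨0, (map_zero _).trans ((hb 0).1 (hz.trans h3))⟩
  · intro h φ
    obtain ⟨w, hw⟩ := (hb 0).2 ((cov k n F hF 0).g ≫ φ)
    obtain ⟨v, hv⟩ := h w ((hb 1).1 (by
      refine ((secHom_natural (dif k n F hF 0) L ω' w).trans ?_).trans
        (secHom_zero hL (isFinLocFree_mid k n F hF _) _).symm
      rw [show secHom L (mid k n F hF 0) ω' w = _ from hw, dif, Category.assoc,
        ← Category.assoc (incl k n F hF 0),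
        show incl k n F hF 0 ≫ (cov k n F hF 0).g = 0 from kernel.condition _, zero_comp, comp_zero]))
    have hw0 : w = 0 := hv.symm.trans
      (congrArg (fun z => Scheme.Modules.Hom.app z ⊤ v) ((tw' k n (m : ℤ)).map_zero _ _))
    rw [← cancel_epi (cov k n F hF 0).g, comp_zero]
    exact hw.symm.trans ((congrArg (sec 0) hw0).trans hz)

include hF in
/-- **Asymptotic vanishing in the top degree, on stalks.** -/
theorem eventually_top_iff :
    ((∃ m₀ : ℕ, ∀ m : ℕ, m₀ ≤ m → Subsingleton (Coh.HH ℙ ((tw' k n (-(m : ℤ))).obj F) n)) →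
      ∀ (y : CohB1.ProjSpace n k) (a : stk F y →ₗ[(CohB1.ProjSpace n k).presheaf.stalk y] stk ω' y), a = 0) ∧
    ((∀ (y : CohB1.ProjSpace n k), IsClosed ({y} : Set (CohB1.ProjSpace n k)) →
        ∀ a : stk F y →ₗ[(CohB1.ProjSpace n k).presheaf.stalk y] stk ω' y, a = 0) →
      ∃ m₀ : ℕ, ∀ m : ℕ, m₀ ≤ m → Subsingleton (Coh.HH ℙ ((tw' k n (-(m : ℤ))).obj F) n)) := by
  have h₁ := isCoh_dual k n F hF 0
  have h₃ := isCoh_dual k n F hF 1
  constructor
  · rintro ⟨m₀, hm⟩ y
    have hex := exact_of_lift k n (dualStart k n F hF) h₁ h₁ h₃ ⟨m₀, fun m hm' =>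
      (forall_eq_zero_iff_sections k n F hF m).1 ((subsingleton_top_iff k n F hF m).1 (hm m hm'))⟩
    exact (stalk_start_iff k n F hF y).1 (stalk_exact_of_exact hex y)
  · intro h
    haveI := isNoetherian_projSpace k n
    have hex := exact_of_closed_stalks (dualStart k n F hF) h₁ h₁ h₃ fun y hy =>
      (stalk_start_iff k n F hF y).2 (h y hy)
    obtain ⟨m₀, hm⟩ := lift_of_exact k n (dualStart k n F hF) hex h₁ h₁ h₃
    exact ⟨m₀, fun m hm' => (subsingleton_top_iff k n F hF m).2
      ((forall_eq_zero_iff_sections k n F hF m).2 (hm m hm'))⟩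

end PnDualLib
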