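import Groth.Agent.PnDualLib.Embed
import Groth.Agent.AVAmpleLib.Degree
import Groth.Agent.AVVanishLib.Basic
import Groth.Agent.RelDualLib.Sect
import Groth.Agent.AmpleFinGenLib.Divisor
import Groth.Agent.SteinLib.Conn
import Groth.Agent.ProperClopenLib.LocalIdem

/-!
# Connectedness of the zero scheme of an ample section
-/

set_option autoImplicit false
set_option linter.unusedSectionVars false
set_option linter.style.haveILetI false
set_option maxHeartbeats 400000
set_option backward.isDefEq.respectTransparency false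
set_option backward.isDefEq.respectTransparency.types false
universe u

open CategoryTheory CategoryTheory.Limits AlgebraicGeometry TopologicalSpace Opposite
open AmpleLib (GenOn res)

noncomputable section

namespace PnDualLib

theorem idem_trivial_of_surjective {k B C : Type u} [Field k] [CommRing B] [CommRing C] [Algebra k B]
    [Algebra.IsIntegral k B] (hB : ∀ e : B, e * e = e → e = 0 ∨ e = 1) (f : B →+* C) (hf : Function.Surjective f)
    (e : C) (he : e * e = e) : e = 0 ∨ e = 1 := by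
  obtain ⟨r, rfl⟩ := hf e
  have hidem : IsIdempotentElem (f r) := he
  suffices IsUnit r ∨ IsNilpotent r by
    rcases this with h | h
    · exact Or.inr ((h.map f).mul_left_cancel (by rw [mul_one]; exact he))
    · exact Or.inl (hidem.eq_zero_of_isNilpotent (h.map f))
  obtain ⟨p, hp, hr⟩ := (Algebra.IsIntegral.isIntegral (R := k) r)
  obtain ⟨n, q, hq, hq0⟩ : ∃ (n : ℕ) (q : Polynomial k), p = Polynomial.X ^ n * q ∧ q.coeff 0 ≠ 0 := by
    obtain ⟨q, hq, hq0⟩ := Polynomial.exists_eq_pow_rootMultiplicity_mul_and_not_dvd p hp.ne_zero 0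
    refine ⟨p.rootMultiplicity 0, q, by simpa using hq, fun h => hq0 ?_⟩
    simpa [Polynomial.X_dvd_iff] using h
  rw [← Polynomial.aeval_def, hq, map_mul, map_pow, Polynomial.aeval_X] at hr
  -- `rⁿ (c + r b) = 0`
  obtain ⟨b, hb⟩ : ∃ b : B, Polynomial.aeval r q = algebraMap k B (q.coeff 0) + r * b := by
    refine ⟨Polynomial.aeval r q.divX, ?_⟩
    conv_lhs => rw [← Polynomial.X_mul_divX_add q]
    rw [map_add, map_mul, Polynomial.aeval_X, Polynomial.aeval_C, add_comm]
  let b' : B := -(b * algebraMap k B (q.coeff 0)⁻¹)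
  have h1 : r ^ n = r ^ n * (r * b') := by
    have hc : algebraMap k B (q.coeff 0) * algebraMap k B (q.coeff 0)⁻¹ = 1 := by
      rw [← map_mul, mul_inv_cancel₀ hq0, map_one]
    rw [hb] at hr
    simp only [b']
    linear_combination (algebraMap k B (q.coeff 0)⁻¹) * hr - r ^ n * hc
  have hpow : ∀ j : ℕ, r ^ n = r ^ n * (r * b') ^ j := fun j => by
    induction j with
    | zero => simp
    | succ j ih => calc r ^ n = r ^ n * (r * b') ^ j := ih
                    _ = r ^ n * (r * b') * (r * b') ^ j := by rw [← h1]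
                    _ = _ := by ring
  let m := n + 1
  have hm : r ^ m = r ^ m * (r * b') ^ m := by
    calc r ^ m = r * r ^ n := pow_succ' r n
      _ = r * (r ^ n * (r * b') ^ m) := by rw [← hpow]
      _ = _ := by simp only [m]; ring
  have he' : (r * b') ^ m * (r * b') ^ m = (r * b') ^ m := by
    rw [mul_pow]
    linear_combination (b' ^ m) * (-hm) + (b' ^ m * r ^ m) * (mul_pow r b' m)
  rcases hB _ he' with h | h
  · exact Or.inr ⟨m, by rw [hm, h, mul_zero]⟩
  · exact Or.inl (isUnit_of_mul_isUnit_left ((isUnit_pow_iff (Nat.succ_ne_zero n)).1 (h ▸ isUnit_one)))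

variable {X : Scheme.{u}}

theorem nonempty_tensorPow_trivial {M : X.Modules} (e : M ≅ Coh.structureModule X) :
    ∀ m : ℕ, Nonempty (CohB1.tensorPow M m ≅ Coh.structureModule X)
  | 0 => ⟨Iso.refl _⟩
  | m + 1 => by
    obtain ⟨f⟩ := nonempty_tensorPow_trivial e m
    exact ⟨HilbPolyLib.congrLeft f M ≪≫ HilbPolyLib.unitLeft M ≪≫ e⟩

theorem idem_trivial_of_connected [ConnectedSpace X] (e : Γ(X, ⊤)) (he : e * e = e) : e = 0 ∨ e = 1 := by
  have he' : (1 - e) * (1 - e) = 1 - e := by linear_combination he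
  have hd : X.basicOpen e ⊓ X.basicOpen (1 - e) = ⊥ := by
    rw [← Scheme.basicOpen_mul, show e * (1 - e) = 0 by linear_combination -he, Scheme.basicOpen_zero]
  have hu : ∀ x : X, x ∈ X.basicOpen e ∨ x ∈ X.basicOpen (1 - e) := fun x => by
    simp only [X.mem_basicOpen (U := ⊤) _ x trivial]
    apply IsLocalRing.isUnit_or_isUnit_of_add_one
    rw [← map_add, add_sub_cancel, map_one]
  have hc : IsClopen (X.basicOpen e : Set X) := by
    refine ⟨⟨?_⟩, (X.basicOpen e).isOpen⟩
    have : (X.basicOpen e : Set X)ᶜ = X.basicOpen (1 - e) := Set.ext fun x =>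
      ⟨fun h => (hu x).resolve_left h, fun h h' => by
        have : x ∈ X.basicOpen e ⊓ X.basicOpen (1 - e) := ⟨h', h⟩
        rw [hd] at this
        exact this⟩
    rw [this]
    exact (X.basicOpen (1 - e)).isOpen
  rcases isClopen_iff.mp hc with h | h
  · exact Or.inl (ProperClopenLib.eq_zero_of_idempotent_of_basicOpen_eq_bot he (Opens.ext h))
  · refine Or.inr (sub_eq_zero.1 ?_).symm
    refine ProperClopenLib.eq_zero_of_idempotent_of_basicOpen_eq_bot he' ?_
    rw [← hd, show X.basicOpen e = ⊤ from Opens.ext h, top_inf_eq]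

section Surj

variable (k : Type u) [Field k] [X.Over (Spec (CommRingCat.of k))] {Z : Scheme.{u}} (i : Z ⟶ X) [IsClosedImmersion i]

include k in
theorem surjective_appTop_of_chart {P : X.Modules} {τ : P ⟶ Coh.structureModule X} (h : RelDualLib.HasChart i τ)
    (hP : Subsingleton (Coh.HH X P 1)) : Function.Surjective i.appTop := by
  intro c
  let O := Coh.structureModule X
  let one : Γ(O, ⊤) := show Γ(X, ⊤) from 1
  have hsur : Function.Surjective (CurvLib.hMap (k := k) (RelDualLib.uni i O) 0) := by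
    have h3 := CurvLib.exact₃ (k := k) h.shortExact 0
    rw [← LinearMap.range_eq_top, h3, LinearMap.ker_eq_top]
    exact LinearMap.ext fun x => hP.elim _ _
  let c' : Γ(Z, i ⁻¹ᵁ ⊤) := c
  obtain ⟨s, hs⟩ := hsur ((CohCmpLib.h0E _).symm (show Γ((Scheme.Modules.pushforward i).obj (KFlatLib.pb i O), ⊤)
    from c' • KFlatLib.puSec i one))
  let r : Γ(X, ⊤) := CohCmpLib.h0E O s
  refine ⟨r, ?_⟩
  have h1 : (RelDualLib.uni i O).app ⊤ (CohCmpLib.h0E O s) = c' • KFlatLib.puSec i one := by
    refine (CohCmpLib.h0E_hm (RelDualLib.uni i O) s).symm.trans ?_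
    exact (congrArg (CohCmpLib.h0E _) hs).trans ((CohCmpLib.h0E _).apply_symm_apply _)
  have h2 : KFlatLib.puSec i (r • one) = c' • KFlatLib.puSec i one := by
    have : r • one = CohCmpLib.h0E O s := mul_one r
    rw [this]; exact h1
  rw [KFlatLib.puSec_smul] at h2
  have hgen := CubeLib.genOn_puSecLE i (AmpleLib.one_genOn (X := X) ⊤) (le_refl (i ⁻¹ᵁ ⊤))
  have e : KFlatLib.puSecLE i O (le_refl (i ⁻¹ᵁ ⊤)) one = KFlatLib.puSec i one := by
    rw [KFlatLib.puSecLE_apply]; exact AmpleLib.res_refl _ _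
  rw [e] at hgen
  refine (hgen _ le_rfl).1 ?_
  simp only [AmpleLib.res_refl]
  exact h2

include k in
theorem connectedSpace_of_chart [IsProper (X ↘ Spec (CommRingCat.of k))] [ConnectedSpace X] [Nonempty Z]
    {P : X.Modules} {τ : P ⟶ Coh.structureModule X} (h : RelDualLib.HasChart i τ)
    (hP : Subsingleton (Coh.HH X P 1)) : ConnectedSpace Z := by
  let φ : CommRingCat.of k ⟶ Γ(X, ⊤) :=
    (Scheme.ΓSpecIso (CommRingCat.of k)).inv ≫ (X ↘ Spec (CommRingCat.of k)).appTop
  letI : Algebra k Γ(X, ⊤) := φ.hom.toAlgebra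
  haveI : Algebra.IsIntegral k Γ(X, ⊤) := ⟨(RingHom.IsIntegral.trans _ _
    (RingHom.isIntegral_of_surjective (Scheme.ΓSpecIso (CommRingCat.of k)).inv.hom
      (Scheme.ΓSpecIso (CommRingCat.of k)).commRingCatIsoToRingEquiv.symm.surjective)
    (isIntegral_appTop_of_universallyClosed (X ↘ Spec (CommRingCat.of k))) : φ.hom.IsIntegral)⟩
  rw [connectedSpace_iff_clopen]
  refine ⟨inferInstance, fun U hU => ?_⟩
  obtain ⟨e, he, rfl⟩ := ProperClopenLib.exists_idempotent_of_isClopen_scheme hU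
  rcases idem_trivial_of_surjective (k := k) (idem_trivial_of_connected (X := X)) i.appTop.hom
    (surjective_appTop_of_chart k i h hP) e he with h' | h'
  · left; rw [h', Scheme.basicOpen_zero]; rfl
  · right; rw [h', Scheme.basicOpen_of_isUnit _ isUnit_one]; rfl

end Surj

section Pow

variable {L : X.Modules} (hL : PicF.IsInvertible L) (s : Coh.structureModule X ⟶ L) [Mono s]

include hL in
theorem exists_pow_section : ∀ m : ℕ, ∃ t : Coh.structureModule X ⟶ CohB1.tensorPow L m, Mono t ∧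
    ∀ (x : X) (V : X.Opens), x ∈ V → ∃ (W : X.affineOpens) (g : Γ(CohB1.tensorPow L m, W.1)) (c : Γ(X, W.1)),
      x ∈ W.1 ∧ W.1 ≤ V ∧ GenOn (CohB1.tensorPow L m) g ∧ c • g = MeroLib.secOn t W.1 ∧
      (x ∈ X.basicOpen c ↔ (m = 0 ∨ x ∉ (PicF2.zeroScheme L s).support))
  | 0 => ⟨𝟙 _, inferInstance, fun x V hV => by
    obtain ⟨W, hW, hxW, hWV⟩ := exists_isAffineOpen_mem_and_subset (U := V) hV
    refine ⟨⟨W, hW⟩, (show Γ(Coh.structureModule X, W) from (1 : Γ(X, W))), 1, hxW, hWV,
      AmpleLib.one_genOn W, one_smul _ _, ?_⟩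
    simp [Scheme.basicOpen_of_isUnit _ isUnit_one, hxW]⟩
  | m + 1 => by
    obtain ⟨t, ht, hc⟩ := exists_pow_section m
    let I := PicF2.zeroScheme L s
    obtain ⟨τ, hτ⟩ := RelDualLib.exists_twist (i := I.subschemeι) (P := CohB1.tensorPow L m) hL
      (AmpleThLib.tensorPow_isInvertible hL m) s (I.ker_subschemeι).symm
    haveI := hτ.mono
    haveI := ht
    refine ⟨t ≫ τ, mono_comp _ _, fun x V hV => ?_⟩
    obtain ⟨W₀, g₀, c₀, hx₀, hW₀V, hg₀, hc₀, hb₀⟩ := hc x V hV
    obtain ⟨W, g, g', a, hxW, hWW₀, hg, hg', hτg, -, hker⟩ := hτ x W₀.1 hx₀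
    obtain ⟨v, hv⟩ := (hg W.1 le_rfl).2 (res _ hWW₀ g₀)
    simp only [AmpleLib.res_refl] at hv
    have hvU : IsUnit v := CubeLib.isUnit_of_genOn hg (hv ▸ hg₀.res hWW₀)
    let c : Γ(X, W.1) := X.presheaf.map (homOfLE hWW₀).op c₀
    refine ⟨W, g', c * (v * a), hxW, hWW₀.trans hW₀V, hg', ?_, ?_⟩
    · show _ = τ.app W.1 (MeroLib.secOn t W.1)
      rw [← MeroLib.secOn_res t hWW₀, ← hc₀, AmpleLib.res_smul, ← hv, QCohLib.app_smul, QCohLib.app_smul, hτg,
        smul_smul, smul_smul]
      rw [mul_assoc]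
    · have ha : x ∈ X.basicOpen a ↔ x ∉ I.support := by
        have h2 := Set.ext_iff.mp (Scheme.IdealSheafData.coe_support_inter I W) x
        rw [show I.ideal W = Ideal.span {a} by rw [← hker, I.ker_subschemeι]] at h2
        simp only [Set.mem_inter_iff, Scheme.zeroLocus_span, Scheme.mem_zeroLocus_iff, Set.mem_singleton_iff,
          forall_eq, SetLike.mem_coe, hxW, and_true] at h2
        rw [h2, not_not]
      have hcb : x ∈ X.basicOpen c ↔ x ∈ X.basicOpen c₀ := by
        rw [Scheme.basicOpen_res]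
        exact ⟨fun h => h.2, fun h => ⟨hxW, h⟩⟩
      rw [Scheme.basicOpen_mul, Scheme.basicOpen_mul, Scheme.basicOpen_of_isUnit _ hvU]
      show x ∈ X.basicOpen c ∧ (x ∈ W.1 ∧ x ∈ X.basicOpen a) ↔ _
      rw [hcb, hb₀, ha]
      simp only [hxW, true_and, Nat.succ_ne_zero, false_or]
      exact ⟨fun h => h.2, fun h => ⟨Or.inr h, h⟩⟩

include hL in
theorem exists_pow_section_support (m : ℕ) (hm : m ≠ 0) : ∃ t : Coh.structureModule X ⟶ CohB1.tensorPow L m,
    Mono t ∧ (PicF2.zeroScheme _ t).support = (PicF2.zeroScheme L s).support := by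
  obtain ⟨t, ht, hc⟩ := exists_pow_section hL s m
  haveI := ht
  refine ⟨t, ht, SetLike.ext fun x => ?_⟩
  obtain ⟨W, g, c, hxW, -, hg, hcg, hb⟩ := hc x ⊤ trivial
  have h2 := Set.ext_iff.mp (Scheme.IdealSheafData.coe_support_inter (PicF2.zeroScheme _ t) W) x
  rw [MeroLib.zeroScheme_ideal_of_genOn (AmpleThLib.tensorPow_isInvertible hL m) t hg hcg] at h2
  simp only [Set.mem_inter_iff, Scheme.zeroLocus_span, Scheme.mem_zeroLocus_iff, Set.mem_singleton_iff,
    forall_eq, SetLike.mem_coe, hxW, and_true] at h2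
  rw [or_iff_right hm] at hb
  rw [h2, hb, not_not]

include hL in
theorem isIso_of_support_empty (h : ∀ x : X, x ∉ (PicF2.zeroScheme L s).support) : IsIso s := by
  haveI : Epi s := QCohLib.epi_of_surjective_on_affines _ fun V t x hx => by
    obtain ⟨W₀, g₀, c₀, hx₀, hg₀, hc₀, -, hI⟩ := AmpleFinGenLib.exists_chart hL s x
    have h2 := Set.ext_iff.mp (Scheme.IdealSheafData.coe_support_inter (PicF2.zeroScheme L s) W₀) x
    simp only [hI, Set.mem_inter_iff, Scheme.zeroLocus_span, Scheme.mem_zeroLocus_iff, Set.mem_singleton_iff,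
      forall_eq, SetLike.mem_coe, hx₀, and_true] at h2
    have hxb : x ∈ X.basicOpen c₀ := not_not.1 (fun hn => h x (h2.2 hn))
    obtain ⟨W, hW, hxW, hWV⟩ := exists_isAffineOpen_mem_and_subset (U := V ⊓ (W₀.1 ⊓ X.basicOpen c₀)) (x := x)
      ⟨hx, hx₀, hxb⟩
    have hWV' : W ≤ V := fun y hy => (hWV hy).1
    have hW₀ : W ≤ W₀.1 := fun y hy => (hWV hy).2.1
    let c : Γ(X, W) := X.presheaf.map (homOfLE hW₀).op c₀
    have hcU : IsUnit c := X.toLocallyRingedSpace.toRingedSpace.isUnit_of_isUnit_germ W c fun y hy => by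
      rw [TopCat.Presheaf.germ_res_apply]
      exact (X.mem_basicOpen c₀ y (hW₀ hy)).1 (hWV hy).2.2
    have hgen : GenOn L (MeroLib.secOn s W) := by
      rw [← MeroLib.secOn_res s hW₀, ← hc₀, AmpleLib.res_smul]
      exact CubeLib.genOn_unit_smul (AmpleLib.GenOn.res hg₀ hW₀) hcU
    obtain ⟨r, hr⟩ := (hgen W le_rfl).2 (res L hWV' t)
    simp only [AmpleLib.res_refl] at hr
    exact ⟨W, hWV', hxW, r, (AmpleFinGenLib.app_eq_smul_secOn s W r).trans hr⟩
  exact isIso_of_mono_of_epi s

end Pow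

theorem nonempty_zeroScheme [Nonempty X] {L M : X.Modules} (hL : PicF.IsInvertible L)
    (s : Coh.structureModule X ⟶ L) [Mono s] (φ : CohB1.tensorMod L M ≅ Coh.structureModule X) (m : ℕ)
    (h : Subsingleton (Coh.HH X (CohB1.tensorMod (Coh.structureModule X) (CohB1.tensorPow M m)) 0)) :
    Nonempty (PicF2.zeroScheme L s).subscheme := by
  let O := Coh.structureModule X
  let I := PicF2.zeroScheme L s
  by_contra hn
  have hs : IsIso s := isIso_of_support_empty hL s fun x hx => by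
    rw [← SetLike.mem_coe, ← I.range_subschemeι] at hx
    obtain ⟨z, -⟩ := hx
    exact hn ⟨z⟩
  let eL : O ≅ L := asIso s
  let eM : M ≅ O := (HilbPolyLib.unitLeft M).symm ≪≫ HilbPolyLib.congrLeft eL M ≪≫ φ
  have eMm : Nonempty (CohB1.tensorMod O (CohB1.tensorPow M m) ≅ O) := by
    obtain ⟨e⟩ := nonempty_tensorPow_trivial eM m
    exact ⟨HilbPolyLib.unitLeft _ ≪≫ e⟩
  obtain ⟨e⟩ := eMm
  have h0 := SerreVanLib.subsingleton_HH_of_iso e.symm 0 h
  rw [AVVanishLib.subsingleton_HH_zero_iff] at h0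
  have h1 : (𝟙 O : O ⟶ O) = 0 := Subsingleton.elim _ _
  obtain ⟨x⟩ := (inferInstance : Nonempty X)
  have h2 := ConcreteCategory.congr_hom (congrArg (fun g : O ⟶ O => g.app (⊤ : X.Opens)) h1) (show Γ(X, ⊤) from 1)
  exact one_ne_zero (α := X.presheaf.stalk x) ((map_one (X.presheaf.germ ⊤ x trivial).hom).symm.trans
    ((congrArg (X.presheaf.germ ⊤ x trivial).hom h2).trans (map_zero _)))

/-- A regular section with trivialised target gives a chart. -/
theorem hasChart_comp_iso {Z : Scheme.{u}} (i : Z ⟶ X) {P Q R : X.Modules} {τ : P ⟶ Q}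
    (hτ : RelDualLib.HasChart i τ) (e : Q ≅ R) : RelDualLib.HasChart i (τ ≫ e.hom) := fun x V hV => by
  obtain ⟨W, g, g', a, h1, h2, h3, h4, h5, h6, h7⟩ := hτ x V hV
  refine ⟨W, g, e.hom.app W.1 g', a, h1, h2, h3, MeroLib.genOn_iso e.hom h4, ?_, h6, h7⟩
  show e.hom.app W.1 (τ.app W.1 g) = _
  rw [h5, QCohLib.app_smul]

/-- The zero scheme of a regular section of an ample module is connected at depth at least two. -/
theorem connectedSpace_zeroScheme (k : Type u) [Field k] [X.Over (Spec (CommRingCat.of k))]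
    [IsProper (X ↘ Spec (CommRingCat.of k))] [ConnectedSpace X] {L : X.Modules} (hL : CohB1.IsAmple L)
    (s : Coh.structureModule X ⟶ L) [Mono s]
    (hdepth : ∀ x : X, IsClosed ({x} : Set X) → 2 ≤ LocCoh.depth (X.presheaf.stalk x) (X.presheaf.stalk x)) :
    ConnectedSpace ↥(PicF2.zeroScheme L s).subscheme := by
  obtain ⟨φ⟩ := MiscFlat6.nonempty_dualIso hL.1
  let M := MiscFlat6.dual L
  let O := Coh.structureModule X
  have hO : ∀ x : X, IsClosed ({x} : Set X) → (2 : ℕ∞) ≤ LocCoh.depth (X.presheaf.stalk x) (O.presheaf.stalk x) :=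
    fun x hx => by
      obtain ⟨e⟩ := AVAmpleLib.nonempty_stalk_structureModule X x
      exact (hdepth x hx).trans_eq (CommAlgDim.depth_congr e)
  obtain ⟨m₀, h⟩ := exists_vanishing_ample_neg k hL ⟨φ⟩ O (DevissLib.isCoh_structureModule X) 2 hO
  let I := PicF2.zeroScheme L s
  let m := m₀ + 1
  obtain ⟨f⟩ := AmpleAffLib.nonempty_powInverse φ m
  have hMi : PicF.IsInvertible M := CohCmpLib.isInvertible_of_inverse' hL.1 φ
  have hne : Nonempty I.subscheme := nonempty_zeroScheme hL.1 s φ m (h m (Nat.le_succ _) 0 (by omega))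
  obtain ⟨t, ht, hsupp⟩ := exists_pow_section_support hL.1 s m (Nat.succ_ne_zero _)
  haveI := ht
  let J := PicF2.zeroScheme _ t
  have hLm := AmpleThLib.tensorPow_isInvertible hL.1 m
  obtain ⟨τ, hτ⟩ := RelDualLib.exists_twist (i := J.subschemeι) (P := CohB1.tensorPow M m) hLm
    (AmpleThLib.tensorPow_isInvertible hMi m) t (J.ker_subschemeι).symm
  let e : CohB1.tensorMod (CohB1.tensorPow M m) (CohB1.tensorPow L m) ≅ O := HilbPolyLib.swapIso _ _ ≪≫ f
  have hτ' : RelDualLib.HasChart J.subschemeι (τ ≫ e.hom) := hasChart_comp_iso _ hτ e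
  have hP : Subsingleton (Coh.HH X (CohB1.tensorPow M m) 1) :=
    SerreVanLib.subsingleton_HH_of_iso (HilbPolyLib.unitLeft _).symm 1 (h m (Nat.le_succ _) 1 (by omega))
  have hne' : Nonempty J.subscheme := by
    obtain ⟨z⟩ := hne
    have hz : I.subschemeι z ∈ (I.support : Set X) := I.range_subschemeι ▸ Set.mem_range_self z
    rw [← hsupp, ← J.range_subschemeι] at hz
    exact ⟨hz.choose⟩
  haveI := connectedSpace_of_chart k J.subschemeι hτ' hP
  have hJ : _root_.IsConnected (I.support : Set X) := by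
    rw [← hsupp, ← J.range_subschemeι]
    exact isConnected_range J.subschemeι.continuous
  rw [← I.range_subschemeι] at hJ
  rw [connectedSpace_iff_univ]
  refine ⟨⟨hne.some, trivial⟩, ?_⟩
  rw [← I.subschemeι.isClosedEmbedding.isInducing.isPreconnected_image, Set.image_univ]
  exact hJ.isPreconnected

end PnDualLib
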