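import Groth.Agent.PnDualLib.Perfect

/-!
# Dimension shifting along sums of very negative twists
-/

set_option autoImplicit false
set_option linter.unusedSectionVars false
set_option linter.style.haveILetI false
set_option maxHeartbeats 800000
set_option backward.isDefEq.respectTransparency false
set_option backward.isDefEq.respectTransparency.types false
universe u

open CategoryTheory CategoryTheory.Limits AlgebraicGeometry TopologicalSpace Opposite

noncomputable section

namespace PnDualLib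

section Gen

variable {X : Scheme.{u}} {k : Type u} [Field k] [X.Over (Spec (CommRingCat.of k))]
  {S : ShortComplex X.Modules} (hS : S.ShortExact)

include hS in
theorem injective_del {p : ℕ} (h₂ : Subsingleton (Coh.HH X S.X₂ p)) :
    Function.Injective (CurvLib.hDel (k := k) hS p) := by
  rw [← LinearMap.ker_eq_bot, ← CurvLib.exact₃, LinearMap.range_eq_bot]
  exact LinearMap.ext fun x => by rw [h₂.elim x 0, map_zero]; rfl

include hS in
theorem surjective_del {p : ℕ} (h₂ : Subsingleton (Coh.HH X S.X₂ (p + 1))) :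
    Function.Surjective (CurvLib.hDel (k := k) hS p) := by
  rw [← LinearMap.range_eq_top, CurvLib.exact₁, LinearMap.ker_eq_top]
  exact LinearMap.ext fun x => h₂.elim _ _

/-- Dimension shifting in the middle degrees. -/
def delEquiv {p : ℕ} (h₂ : Subsingleton (Coh.HH X S.X₂ p)) (h₂' : Subsingleton (Coh.HH X S.X₂ (p + 1))) :
    Coh.HH X S.X₃ p ≃ₗ[k] Coh.HH X S.X₁ (p + 1) :=
  LinearEquiv.ofBijective (CurvLib.hDel (k := k) hS p) ⟨injective_del hS h₂, surjective_del hS h₂'⟩

include hS in
theorem subsingleton_iff_injective {p : ℕ} (h₂ : Subsingleton (Coh.HH X S.X₂ p)) :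
    Subsingleton (Coh.HH X S.X₃ p) ↔ Function.Injective (CurvLib.hMap (k := k) S.f (p + 1)) := by
  rw [← LinearMap.ker_eq_bot, ← CurvLib.exact₁ hS, LinearMap.range_eq_bot]
  constructor
  · intro h
    exact LinearMap.ext fun x => by rw [h.elim x 0, map_zero]; rfl
  · exact fun h => ⟨fun x y => injective_del (k := k) hS h₂ (by rw [h]; rfl)⟩

/-- Every map out of the source extends along `f`. -/
def Extends {A B : X.Modules} (f : A ⟶ B) (W : X.Modules) : Prop := ∀ φ : A ⟶ W, ∃ ψ : B ⟶ W, f ≫ ψ = φ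

theorem injective_iff_extends {ω : X.Modules} {p : ℕ} (t : Coh.HH X ω p →ₗ[k] k) {A B : X.Modules} (f : A ⟶ B)
    (hA : Function.Bijective (pair t A)) (hB : Function.Bijective (pair t B)) :
    Function.Injective (CurvLib.hMap (k := k) f p) ↔ Extends f ω := by
  rw [← LinearMap.dualMap_surjective_iff]
  constructor
  · intro h φ
    obtain ⟨ξ, hξ⟩ := h (pair t A φ)
    obtain ⟨ψ, rfl⟩ := hB.2 ξ
    refine ⟨ψ, hA.1 (LinearMap.ext fun x => ?_)⟩
    rw [pair_comp, ← hξ]
    rfl
  · intro h ξ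
    obtain ⟨φ, rfl⟩ := hA.2 ξ
    obtain ⟨ψ, rfl⟩ := h φ
    exact ⟨pair t B ψ, LinearMap.ext fun x => (pair_comp t f ψ x).symm⟩

theorem subsingleton_iff_forall_eq_zero {ω : X.Modules} {p : ℕ} (t : Coh.HH X ω p →ₗ[k] k) {A : X.Modules}
    (hA : Function.Bijective (pair t A)) : Subsingleton (Coh.HH X A p) ↔ ∀ φ : A ⟶ ω, φ = 0 := by
  rw [← Module.subsingleton_dual_iff k]
  constructor
  · exact fun h φ => hA.1 ((h.elim _ _).trans (map_zero (pair t A)).symm)
  · refine fun h => ⟨fun a b => ?_⟩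
    obtain ⟨φ, rfl⟩ := hA.2 a
    obtain ⟨ψ, rfl⟩ := hA.2 b
    rw [h φ, h ψ]

end Gen

variable (k : Type u) [Field k] (n : ℕ)

local notation "ℙ" => CohB1.ProjSpace n k
local notation "O'" => Twist.twistProjSpace n k
local notation "ω'" => Twist.twistProjSpace n k (-((n : ℤ) + 1))

/-- Tensoring with `O(t)`. -/
abbrev tw' (t : ℤ) : (CohB1.ProjSpace n k).Modules ⥤ (CohB1.ProjSpace n k).Modules :=
  CurvLib.tensorLeft' (Twist.twistProjSpace n k t)

theorem subsingleton_twist_neg (N b : ℕ) (t : ℤ) (ht : t < N) (p : ℕ) (hp : p ≠ n) :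
    Subsingleton (Coh.HH ℙ ((tw' k n t).obj (neg k n N b)) p) := by
  obtain ⟨e⟩ := PnCohLib.exists_sigma_iso (O' (-(N : ℤ))) b
  obtain ⟨e'⟩ := PnCohLib.twist_twist t (-(N : ℤ)) (t - N) (by ring) (FlatMod.freeMod ℙ b)
  refine SerreVanLib.subsingleton_HH_of_iso (HilbPolyLib.congrRight _ e ≪≫ e') p
    (PnCohLib.subsingleton_HH_tensor_free _ p
      (PnCohLib.subsingleton_HH_twist _ p (fun h => by omega) (fun h => hp h.1)) b)

theorem isCoh_tw' (t : ℤ) {F : (CohB1.ProjSpace n k).Modules} (hF : Coh.IsCoh F) : Coh.IsCoh ((tw' k n t).obj F) :=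
  HilbPolyLib.isCoh_tensor (PicPnLib.twist_inv n k t) hF

/-- Twists by `t` and `-t` are inverse. -/
def twistEquiv (t s : ℤ) (h : t + s = 0) : (CohB1.ProjSpace n k).Modules ≌ (CohB1.ProjSpace n k).Modules :=
  CategoryTheory.Equivalence.mk (tw' k n t) (tw' k n s)
    ((PnCohLib.exists_twistNat (n := n) k s t 0 (by omega)).some ≪≫ (PnCohLib.exists_unitNat (n := n) k).some).symm
    ((PnCohLib.exists_twistNat (n := n) k t s 0 h).some ≪≫ (PnCohLib.exists_unitNat (n := n) k).some)

theorem extends_twist_iff (t s : ℤ) (h : t + s = 0) {A B : (CohB1.ProjSpace n k).Modules} (f : A ⟶ B)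
    (W : (CohB1.ProjSpace n k).Modules) :
    Extends ((tw' k n t).map f) W ↔ Extends f ((tw' k n s).obj W) := by
  let adj := (twistEquiv k n t s h).toAdjunction
  constructor
  · intro H φ
    obtain ⟨ψ, hψ⟩ := H ((adj.homEquiv A W).symm φ)
    refine ⟨adj.homEquiv B W ψ, ?_⟩
    exact (adj.homEquiv_naturality_left f ψ).symm.trans ((congrArg (adj.homEquiv A W) hψ).trans
      ((adj.homEquiv A W).apply_symm_apply φ))
  · intro H φ
    obtain ⟨ψ, hψ⟩ := H (adj.homEquiv A W φ)
    refine ⟨(adj.homEquiv B W).symm ψ, ?_⟩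
    exact (adj.homEquiv_naturality_left_symm f ψ).symm.trans ((congrArg (adj.homEquiv A W).symm hψ).trans
      ((adj.homEquiv A W).symm_apply_apply φ))

/-- A chosen cover by copies of one negative twist. -/
structure Cov (F : (CohB1.ProjSpace n k).Modules) where
  N : ℕ
  b : ℕ
  g : neg k n N b ⟶ F
  big : n + 1 ≤ N
  epi : Epi g
  coh : Coh.IsCoh (kernel g)

theorem nonempty_cov (F : (CohB1.ProjSpace n k).Modules) (hF : Coh.IsCoh F) : Nonempty (Cov k n F) := by
  obtain ⟨N, b, g, hN, hg, hK⟩ := exists_neg_epi k n F hF (n + 1)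
  exact ⟨⟨N, b, g, hN, hg, hK⟩⟩

variable (F : (CohB1.ProjSpace n k).Modules) (hF : Coh.IsCoh F)

/-- The syzygies of a coherent module. -/
def syz : ℕ → {K : (CohB1.ProjSpace n k).Modules // Coh.IsCoh K}
  | 0 => ⟨F, hF⟩
  | j + 1 => ⟨kernel (nonempty_cov k n (syz j).1 (syz j).2).some.g, (nonempty_cov k n (syz j).1 (syz j).2).some.coh⟩

/-- The cover of a syzygy. -/
def cov (j : ℕ) : Cov k n (syz k n F hF j).1 := (nonempty_cov k n _ (syz k n F hF j).2).some

/-- The middle term. -/
abbrev mid (j : ℕ) : (CohB1.ProjSpace n k).Modules := neg k n (cov k n F hF j).N (cov k n F hF j).b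

/-- The inclusion of a syzygy. -/
def incl (j : ℕ) : (syz k n F hF (j + 1)).1 ⟶ mid k n F hF j := kernel.ι (cov k n F hF j).g

/-- One step of the syzygies. -/
def syzSeq (j : ℕ) : ShortComplex (CohB1.ProjSpace n k).Modules :=
  ShortComplex.mk (incl k n F hF j) (cov k n F hF j).g (kernel.condition _)

theorem syzSeq_shortExact (j : ℕ) : (syzSeq k n F hF j).ShortExact :=
  haveI : Epi (cov k n F hF j).g := (cov k n F hF j).epi
  ShortComplex.ShortExact.mk (mono_f := inferInstanceAs (Mono (kernel.ι _))) (epi_g := inferInstanceAs (Epi (cov k n F hF j).g))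
    (ShortComplex.exact_kernel (cov k n F hF j).g)

theorem twisted_shortExact (t : ℤ) (j : ℕ) : ((syzSeq k n F hF j).map (tw' k n t)).ShortExact :=
  HilbPolyLib.shortExact_tensor (PicPnLib.twist_inv n k t) (syzSeq_shortExact k n F hF j)

/-- **The criterion for `Hⁱ(F(-m)) = 0` below the top degree.** -/
theorem subsingleton_iff_extends (m : ℕ) : ∀ (q i j : ℕ), i + (q + 1) = n →
    (Subsingleton (Coh.HH ℙ ((tw' k n (-(m : ℤ))).obj (syz k n F hF j).1) i) ↔
      Extends (incl k n F hF (j + q)) ((tw' k n (m : ℤ)).obj ω'))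
  | 0, i, j, hi => by
    have h₂ : Subsingleton (Coh.HH ℙ ((tw' k n (-(m : ℤ))).obj (mid k n F hF j)) i) :=
      subsingleton_twist_neg k n _ _ _ (by have := (cov k n F hF j).big; omega) i (by omega)
    refine (subsingleton_iff_injective (k := k) (twisted_shortExact k n F hF (-(m : ℤ)) j) h₂).trans ?_
    rw [← extends_twist_iff k n (-(m : ℤ)) (m : ℤ) (by ring)]
    rw [show i + 1 = n by omega]
    exact injective_iff_extends _ _ (pair_bijective k n _ (isCoh_tw' k n _ (syz k n F hF (j + 1)).2))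
      (pair_bijective k n _ (isCoh_tw' k n _ (isCoh_neg k n _ _)))
  | q + 1, i, j, hi => by
    have hb := (cov k n F hF j).big
    have e : Coh.HH ℙ ((tw' k n (-(m : ℤ))).obj (syz k n F hF j).1) i ≃ₗ[k]
        Coh.HH ℙ ((tw' k n (-(m : ℤ))).obj (syz k n F hF (j + 1)).1) (i + 1) :=
      delEquiv (twisted_shortExact k n F hF (-(m : ℤ)) j)
        (subsingleton_twist_neg k n _ _ _ (by omega) i (by omega))
        (subsingleton_twist_neg k n _ _ _ (by omega) (i + 1) (by omega))
    rw [e.toEquiv.subsingleton_congr, subsingleton_iff_extends m q (i + 1) (j + 1) (by omega),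
      show j + 1 + q = j + (q + 1) by omega]

include hF in
theorem subsingleton_top_iff (m : ℕ) :
    Subsingleton (Coh.HH ℙ ((tw' k n (-(m : ℤ))).obj F) n) ↔ ∀ φ : F ⟶ (tw' k n (m : ℤ)).obj ω', φ = 0 := by
  rw [subsingleton_iff_forall_eq_zero _ (pair_bijective k n _ (isCoh_tw' k n _ hF))]
  let adj := (twistEquiv k n (-(m : ℤ)) (m : ℤ) (by ring)).toAdjunction
  constructor
  · intro h φ
    have h1 := h ((adj.homEquiv F ω').symm φ)
    have h2 : φ = adj.homEquiv F ω' 0 := by rw [← h1]; exact ((adj.homEquiv F ω').apply_symm_apply φ).symm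
    rw [h2, Adjunction.homEquiv_unit, Functor.map_zero, comp_zero]
  · intro h φ
    refine (adj.homEquiv F ω').injective ?_
    rw [h (adj.homEquiv F ω' φ), Adjunction.homEquiv_unit, Functor.map_zero, comp_zero]

end PnDualLib
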