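import Groth.Agent.KoszOrthLib.PnPC
import Groth.Agent.TildeDerLib.Counit
import Groth.Agent.KoszOrthLib.DQCoh
import Groth.Agent.DerLib.Devissage

/-!
# The right adjoint of `Rπ_*` at the structure sheaf, on projective space
-/

set_option autoImplicit false
set_option linter.style.haveILetI false
set_option backward.isDefEq.respectTransparency false
set_option backward.isDefEq.respectTransparency.types false
set_option maxHeartbeats 1000000

universe u v w

open CategoryTheory CategoryTheory.Limits AlgebraicGeometry CategoryTheory.Pretriangulated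
open scoped ZeroObject

attribute [local instance] HasDerivedCategory.standard

namespace Groth.Agent.PnDualLib

section General

variable {C D : Type*} [Category C] [Category D] [HasShift C ℤ] [HasShift D ℤ]

/-- Bijectivity of a functor on maps out of `A` passes to the shifts of `A`. -/
theorem bijective_map_shift (F : C ⥤ D) [F.CommShift ℤ] (A : C) (s : ℤ)
    (h : ∀ E : C, Function.Bijective (F.map : (A ⟶ E) → (F.obj A ⟶ F.obj E))) (B : C) :
    Function.Bijective (F.map : (A⟦s⟧ ⟶ B) → (F.obj (A⟦s⟧) ⟶ F.obj B)) := by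
  let e : B⟦-s⟧⟦s⟧ ≅ B := (shiftFunctorCompIsoId C (-s) s (by omega)).app B
  have hsh : Function.Bijective (F.map : (A⟦s⟧ ⟶ B⟦-s⟧⟦s⟧) → _) := by
    have heq : (F.map : (A⟦s⟧ ⟶ B⟦-s⟧⟦s⟧) → _) ∘ (fun ψ : A ⟶ B⟦-s⟧ => ψ⟦s⟧') =
        (Iso.homCongr ((F.commShiftIso s).app A).symm ((F.commShiftIso s).app (B⟦-s⟧)).symm) ∘
          (fun ψ => ψ⟦s⟧') ∘ F.map := by
      funext ψ
      simp only [Function.comp_apply, Iso.homCongr_apply, Iso.symm_inv, Iso.symm_hom, Iso.app_hom, Iso.app_inv]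
      rw [← F.commShiftIso_hom_naturality_assoc, Iso.hom_inv_id_app]
      exact (Category.comp_id _).symm
    refine (Function.Bijective.of_comp_iff _ ⟨(shiftFunctor C s).map_injective, (shiftFunctor C s).map_surjective⟩).1 ?_
    rw [heq]
    exact (Iso.homCongr _ _).bijective.comp ((Function.Bijective.comp
      ⟨(shiftFunctor D s).map_injective, (shiftFunctor D s).map_surjective⟩ (h _)))
  have heq2 : (F.map : (A⟦s⟧ ⟶ B) → _) = (Iso.homCongr (Iso.refl _) (F.mapIso e)) ∘ F.map ∘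
      (Iso.homCongr (Iso.refl _) e).symm := by
    funext φ
    simp [← Functor.map_comp]
  rw [heq2]
  exact (Iso.homCongr _ _).bijective.comp (hsh.comp (Equiv.bijective _))

end General

variable (n : ℕ) (R : Type u) [CommRing R]


/-- On `P^0` the coordinate generates everywhere. -/
theorem genOn_coordSec : AmpleLib.GenOn (Twist.twistProjSpace 0 R 1) (KoszOrthLib.coordSec 0 R 0) :=
  TwistLib.genOn_of_genAt fun x _ => by
    obtain ⟨σ, hσ, h⟩ := KoszOrthLib.exists_genAt_coordSec 0 R x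
    obtain ⟨i, rfl⟩ := List.mem_ofFn.1 hσ
    obtain rfl : i = 0 := Subsingleton.elim (α := Fin 1) _ _
    exact h

/-- Twisting commutes with shifts. -/
theorem nonempty_iterT_shift {X : Scheme.{u}} (L : X.Modules) [PreservesFiniteLimits (DCoh.tensorRightMod L)]
    [PreservesFiniteColimits (DCoh.tensorRightMod L)] (E : DCoh.D X) (m : ℤ) :
    ∀ k : ℕ, Nonempty ((KoszOrthLib.iterT L k).obj (E⟦m⟧) ≅ ((KoszOrthLib.iterT L k).obj E)⟦m⟧)
  | 0 => ⟨Iso.refl _⟩
  | k + 1 => by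
    obtain ⟨e⟩ := nonempty_iterT_shift L E m k
    exact ⟨(KoszOrthLib.TD L).mapIso e ≪≫ ((KoszOrthLib.TD L).commShiftIso m).app _⟩

variable [DCoh.HasRpush (CohB1.ProjSpace.toSpec n R)]

/-- The direct image of a twist vanishes in the degrees where the cohomology does. -/
theorem isZero_HD_rpush_OD (j : ℤ) (k : ℕ)
    (h : Subsingleton (Coh.HH (CohB1.ProjSpace n R) (Twist.twistProjSpace n R j) k)) :
    IsZero (DCoh.HD ((DCoh.Rpush (CohB1.ProjSpace.toSpec n R)).obj (KoszOrthLib.OD n R j)) (k : ℤ)) := by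
  obtain ⟨hp, -, -⟩ := KoszOrthLib.projSpace_hyps n R
  haveI := hp
  haveI : IsGrothendieckAbelian.{u} (Scheme.Modules.{u} (CohB1.ProjSpace n R)) :=
    inferInstanceAs (IsGrothendieckAbelian.{u} (SheafOfModules.{u} (Scheme.ringCatSheaf (CohB1.ProjSpace n R))))
  let M := Twist.twistProjSpace n R j
  haveI hM : Coh.IsQCoh M := TwistLib.isQCoh_of_isInvertible (PicPnLib.twist_inv n R j)
  obtain ⟨e⟩ := KiehlLib.nonempty_HD_rpush_inD (CohB1.ProjSpace.toSpec n R) M k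
  exact (KoszOrthLib.isZero_rpush_of_subsingleton_HH (CohB1.ProjSpace.toSpec n R) M k h (@QCohLib.isQCoh_of_iso _ _ _ e
    (QRlimLib.isQCohD_rpush (CohB1.ProjSpace.toSpec n R) (KiehlLib.isQCohD_single M hM 0) (k : ℤ)))).of_iso e

theorem isZero_HD_rpush_OD_neg (j : ℤ) (i : ℤ) (hi : i < 0) :
    IsZero (DCoh.HD ((DCoh.Rpush (CohB1.ProjSpace.toSpec n R)).obj (KoszOrthLib.OD n R j)) i) := by
  haveI : (KoszOrthLib.OD n R j).IsGE 0 :=
    inferInstanceAs (((DerivedCategory.singleFunctor (Scheme.Modules.{u} (CohB1.ProjSpace n R)) 0).obj _).IsGE 0)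
  haveI := QRlimLib.rpush_isGE (CohB1.ProjSpace.toSpec n R) (KoszOrthLib.OD n R j) 0
  exact DerivedCategory.isZero_of_isGE _ 0 i hi

/-- `Rπ_* O(j) = 0` for `-n ≤ j < 0`. -/
theorem isZero_rpush_OD (j : ℤ) (h1 : -(n : ℤ) ≤ j) (h2 : j < 0) :
    IsZero ((DCoh.Rpush (CohB1.ProjSpace.toSpec n R)).obj (KoszOrthLib.OD n R j)) := by
  refine (DCohRestrLib.isZero_iff_HD _).2 fun i => ?_
  by_cases hi : i < 0
  · exact isZero_HD_rpush_OD_neg n R j i hi
  · obtain ⟨k, rfl⟩ : ∃ k : ℕ, i = (k : ℤ) := ⟨i.toNat, by omega⟩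
    exact isZero_HD_rpush_OD n R j k
      (PnCohLib.subsingleton_HH_twist (n := n) (R := R) j k (by omega) (fun h => by omega))

omit [DCoh.HasRpush (CohB1.ProjSpace.toSpec n R)] in
/-- The index set of monomials of degree zero. -/
@[reducible] noncomputable def uniqueDeg : Unique (PnCohLib.Deg n 0) :=
  { default := ⟨0, by simp⟩, uniq := fun d => Subtype.ext ((Finsupp.degree_eq_zero_iff _).1 d.2) }

/-- A direct image of a twist with free rank one cohomology is the structure sheaf. -/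
theorem nonempty_Rpush_iso_structure (j : ℤ) (k : ℕ) (l₂ : Coh.HH (CohB1.ProjSpace n R) (Twist.twistProjSpace n R j) k ≃ₗ[R] R) :
    Nonempty ((Coh.Rpush (CohB1.ProjSpace.toSpec n R) k).obj (Twist.twistProjSpace n R j) ≅
      Coh.structureModule (Spec (CommRingCat.of R))) := by
  obtain ⟨hp, -, -⟩ := KoszOrthLib.projSpace_hyps n R
  haveI := hp
  haveI : IsGrothendieckAbelian.{u} (Scheme.Modules.{u} (CohB1.ProjSpace n R)) :=
    inferInstanceAs (IsGrothendieckAbelian.{u} (SheafOfModules.{u} (Scheme.ringCatSheaf (CohB1.ProjSpace n R))))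
  let G := Twist.twistProjSpace n R j
  haveI hG : Coh.IsQCoh G := TwistLib.isQCoh_of_isInvertible (PicPnLib.twist_inv n R _)
  obtain ⟨eH⟩ := KiehlLib.nonempty_HD_rpush_inD (CohB1.ProjSpace.toSpec n R) G k
  let N := (Coh.Rpush (CohB1.ProjSpace.toSpec n R) k).obj G
  have hN : Coh.IsQCoh N := @QCohLib.isQCoh_of_iso _ _ _ eH
    (QRlimLib.isQCohD_rpush (CohB1.ProjSpace.toSpec n R) (KiehlLib.isQCohD_single G hG 0) (k : ℤ))
  let ΓN : ModuleCat.{u} R := (moduleSpecΓFunctor (R := CommRingCat.of R)).obj N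
  let F := RpushLib.FlRes.ofInjective (injectiveResolution G)
  let W : (Spec (CommRingCat.of R)).Opens := ⊤
  let eT' := LinearEquiv.ofBijective (RpushLib.toHom (RpushLib.pushCx (CohB1.ProjSpace.toSpec n R) F.K) k W)
    (RpushLib.toHom_bijective (RpushLib.localizes_pushCx (CohB1.ProjSpace.toSpec n R) F k) (isAffineOpen_top _))
  let eP := LinearEquiv.ofBijective (RpushLib.phPush (CohB1.ProjSpace.toSpec n R) F.K k W) (RpushLib.phPush_bijective (CohB1.ProjSpace.toSpec n R) F.K k W)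
  let e₁ : Γ(N, W) ≃+ Coh.HH (CohB1.ProjSpace n R) G k :=
    ((AddEquiv.ofBijective ((RpushLib.rpushIso (CohB1.ProjSpace.toSpec n R) (injectiveResolution G) k).hom.app W).hom
        (ConcreteCategory.bijective_of_isIso
          ((RpushLib.rpushIso (CohB1.ProjSpace.toSpec n R) (injectiveResolution G) k).hom.app W))).trans eT'.symm.toAddEquiv).trans
      (eP.toAddEquiv.trans (F.hhEquiv (Scheme.Hom.app (CohB1.ProjSpace.toSpec n R) W).hom k))
  have he : ∀ (r : Γ(Spec (CommRingCat.of R), W)) (x : Γ(N, W)),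
      e₁ (r • x) = HSMul.hSMul (α := Coh.Γtop (CohB1.ProjSpace n R)) (show Coh.Γtop (CohB1.ProjSpace n R) from Scheme.Hom.app (CohB1.ProjSpace.toSpec n R) W r) (e₁ x) := fun r x => by
    let y := (RpushLib.rpushIso (CohB1.ProjSpace.toSpec n R) (injectiveResolution G) k).hom.app W x
    have h1 : (RpushLib.rpushIso (CohB1.ProjSpace.toSpec n R) (injectiveResolution G) k).hom.app W (r • x) = r • y :=
      (RpushLib.rpushIso (CohB1.ProjSpace.toSpec n R) (injectiveResolution G) k).hom.app_smul r x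
    change F.hhEquiv (Scheme.Hom.app (CohB1.ProjSpace.toSpec n R) W).hom k (eP (eT'.symm
      ((RpushLib.rpushIso (CohB1.ProjSpace.toSpec n R) _ k).hom.app W (r • x)))) = _
    rw [h1]
    refine (congrArg (F.hhEquiv (Scheme.Hom.app (CohB1.ProjSpace.toSpec n R) W).hom k) ((congrArg eP (eT'.symm.map_smul r y)).trans
      (eP.map_smul r _))).trans ?_
    exact F.hhEquiv_smul (Scheme.Hom.app (CohB1.ProjSpace.toSpec n R) W).hom k r _
  let l₁ : ΓN ≃ₗ[R] Coh.HH (CohB1.ProjSpace n R) G k :=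
    { e₁ with map_smul' := fun r x => he ((Scheme.ΓSpecIso (CommRingCat.of R)).inv r) x }
  haveI := KFlatLib.isIso_counit_of_qcoh _ hN
  exact ⟨(asIso ((tilde.adjunction (R := CommRingCat.of R)).counit.app N)).symm ≪≫
    (tilde.functor (CommRingCat.of R)).mapIso (show ΓN ≅ ModuleCat.of R R from (l₁.trans l₂).toModuleIso) ≪≫
      tildeSelf⟩

/-- The `n`-th direct image of `O(-n-1)`. -/
theorem nonempty_rpush_top : Nonempty ((Coh.Rpush (CohB1.ProjSpace.toSpec n R) n).obj (Twist.twistProjSpace n R (-((n : ℤ) + 1))) ≅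
    Coh.structureModule (Spec (CommRingCat.of R))) := by
  obtain ⟨l⟩ : Nonempty (Coh.HH (CohB1.ProjSpace n R) (Twist.twistProjSpace n R (-((n : ℤ) + 1))) n ≃ₗ[R] R) := by
    have h := PnCohLib.exists_HH_top (n := n) (R := R) 0
    rw [show -((n : ℤ) + 1 + ((0 : ℕ) : ℤ)) = -((n : ℤ) + 1) by omega] at h
    obtain ⟨e⟩ := h
    letI := uniqueDeg n
    exact ⟨e.trans (Finsupp.LinearEquiv.finsuppUnique R R _)⟩
  exact nonempty_Rpush_iso_structure n R _ n l

/-- The direct image of `O(-n-1)[n]` is the structure sheaf. -/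
theorem nonempty_rpush_dual : Nonempty ((DCoh.Rpush (CohB1.ProjSpace.toSpec n R)).obj ((KoszOrthLib.OD n R (-((n : ℤ) + 1)))⟦(n : ℤ)⟧) ≅
    DCoh.inD (Spec (CommRingCat.of R)) (Coh.structureModule (Spec (CommRingCat.of R)))) := by
  obtain ⟨hp, -, -⟩ := KoszOrthLib.projSpace_hyps n R
  haveI := hp
  haveI : IsGrothendieckAbelian.{u} (Scheme.Modules.{u} (CohB1.ProjSpace n R)) :=
    inferInstanceAs (IsGrothendieckAbelian.{u} (SheafOfModules.{u} (Scheme.ringCatSheaf (CohB1.ProjSpace n R))))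
  obtain ⟨_, _⟩ := QRlimLib.exists_isTriangulated_rpush (CohB1.ProjSpace.toSpec n R)
  let T := (DCoh.Rpush (CohB1.ProjSpace.toSpec n R)).obj (KoszOrthLib.OD n R (-((n : ℤ) + 1)))
  have hz : ∀ i : ℤ, i ≠ n → IsZero (DCoh.HD T i) := fun i hi => by
    by_cases hi' : i < 0
    · exact isZero_HD_rpush_OD_neg n R _ i hi'
    · obtain ⟨k, rfl⟩ : ∃ k : ℕ, i = (k : ℤ) := ⟨i.toNat, by omega⟩
      exact isZero_HD_rpush_OD n R _ k (PnCohLib.subsingleton_HH_twist (n := n) (R := R) _ k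
        (fun h => by omega) (fun h => hi (by exact_mod_cast h.1)))
  haveI : T.IsGE n := (DerivedCategory.isGE_iff _ _).2 fun i hi => hz i (by omega)
  haveI : T.IsLE n := (DerivedCategory.isLE_iff _ _).2 fun i hi => hz i (by omega)
  obtain ⟨e⟩ := DerLib.Devissage.nonempty_iso_single T n
  obtain ⟨eH⟩ := KiehlLib.nonempty_HD_rpush_inD (CohB1.ProjSpace.toSpec n R) (Twist.twistProjSpace n R (-((n : ℤ) + 1))) n
  obtain ⟨eO⟩ := nonempty_rpush_top n R
  exact ⟨((DCoh.Rpush (CohB1.ProjSpace.toSpec n R)).commShiftIso (n : ℤ)).app _ ≪≫ (shiftFunctor _ (n : ℤ)).mapIso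
    (e ≪≫ (DerivedCategory.singleFunctor _ (n : ℤ)).mapIso (eH ≪≫ eO)) ≪≫
      (((DerivedCategory.singleFunctors (Spec (CommRingCat.of R)).Modules).shiftIso (n : ℤ) 0 (n : ℤ) (by omega)).app _)⟩

/-- No maps from `O(-d)` into shifts of `O(-n-1)` for `1 ≤ d ≤ n`. -/
theorem hom_OD_eq_zero (d : ℕ) (h1 : 1 ≤ d) (h2 : d ≤ n) (m : ℤ)
    (φ : KoszOrthLib.OD n R (-(d : ℤ)) ⟶ (KoszOrthLib.OD n R (-((n : ℤ) + 1)))⟦m⟧) : φ = 0 := by
  obtain ⟨hp, -, -⟩ := KoszOrthLib.projSpace_hyps n R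
  haveI := hp
  obtain ⟨_, _⟩ := QRlimLib.exists_isTriangulated_rpush (CohB1.ProjSpace.toSpec n R)
  let L := KoszOrthLib.O1 n R
  haveI := KoszOrthLib.isEquivalence_iterT (PicPnLib.twist_inv n R 1) d
  haveI := KoszOrthLib.additive_iterT L d
  obtain ⟨a⟩ := KoszOrthLib.nonempty_iterT_OD n R (-(d : ℤ)) d
  obtain ⟨b⟩ := nonempty_iterT_shift L (KoszOrthLib.OD n R (-((n : ℤ) + 1))) m d
  obtain ⟨c⟩ := KoszOrthLib.nonempty_iterT_OD n R (-((n : ℤ) + 1)) d
  obtain ⟨c₀⟩ := PicPnLib.twist_zero n R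
  let a' : (KoszOrthLib.iterT L d).obj (KoszOrthLib.OD n R (-(d : ℤ))) ≅ DCoh.inD _ (Coh.structureModule (CohB1.ProjSpace n R)) :=
    a ≪≫ eqToIso (congrArg (KoszOrthLib.OD n R) (by omega)) ≪≫ (DerivedCategory.singleFunctor _ 0).mapIso c₀
  have hz : IsZero ((DCoh.Rpush (CohB1.ProjSpace.toSpec n R)).obj ((KoszOrthLib.iterT L d).obj ((KoszOrthLib.OD n R (-((n : ℤ) + 1)))⟦m⟧))) :=
    ((shiftFunctor _ m).map_isZero (isZero_rpush_OD n R _ (by omega) (by omega))).of_iso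
      ((DCoh.Rpush (CohB1.ProjSpace.toSpec n R)).mapIso (b ≪≫ (shiftFunctor _ m).mapIso c) ≪≫ ((DCoh.Rpush (CohB1.ProjSpace.toSpec n R)).commShiftIso m).app _)
  obtain ⟨η, hη⟩ := KoszOrthLib.exists_unit_rpush (CohB1.ProjSpace.toSpec n R)
  apply (KoszOrthLib.iterT L d).map_injective
  rw [Functor.map_zero, ← cancel_epi a'.inv, comp_zero]
  exact (hη _).1 (hz.eq_of_tgt _ _)

/-- Tensor products respect isomorphisms. -/
theorem nonempty_tensorMod_congr {X : Scheme.{u}} {A B : X.Modules} (C : X.Modules) (u : A ≅ B) :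
    Nonempty (CohB1.tensorMod A C ≅ CohB1.tensorMod B C) :=
  ⟨(DCoh.tensorRightMod C).mapIso u⟩

omit [DCoh.HasRpush (CohB1.ProjSpace.toSpec n R)] in
/-- On `P^0`, the twist `O(-1)` is trivial. -/
theorem nonempty_twist_P0 (h : n = 0) :
    Nonempty (Twist.twistProjSpace n R 0 ≅ Twist.twistProjSpace n R (-1)) := by
  subst h
  let σ := KoszOrthLib.coordSec 0 R 0
  haveI : IsIso (QCohLib.unitHom (Twist.twistProjSpace 0 R 1) σ) :=
    AmpleLib.isIso_unitHom (M := Twist.twistProjSpace 0 R 1) σ (genOn_coordSec R)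
  obtain ⟨c₀⟩ := PicPnLib.twist_zero 0 R
  obtain ⟨c₁⟩ := PicPnLib.twist_add 0 R 1 (-1)
  obtain ⟨c₂⟩ := PicPnLib.twist_add 0 R 0 (-1)
  let u : Twist.twistProjSpace 0 R 1 ≅ Twist.twistProjSpace 0 R 0 :=
    (asIso (QCohLib.unitHom (Twist.twistProjSpace 0 R 1) σ)).symm ≪≫ c₀.symm
  obtain ⟨cu⟩ := nonempty_tensorMod_congr (Twist.twistProjSpace 0 R (-1)) u
  let a : Twist.twistProjSpace 0 R 0 ≅ Twist.twistProjSpace 0 R (1 + -1) :=
    eqToIso (congrArg (Twist.twistProjSpace 0 R) (Int.add_right_neg 1).symm)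
  let b : Twist.twistProjSpace 0 R (0 + -1) ≅ Twist.twistProjSpace 0 R (-1) :=
    eqToIso (congrArg (Twist.twistProjSpace 0 R) (Int.zero_add (-1)))
  exact ⟨a ≪≫ c₁.symm ≪≫ cu ≪≫ c₂ ≪≫ b⟩

/-- `R⁰π_* O` is the structure sheaf. -/
theorem nonempty_rpush_unit : Nonempty ((DCoh.Rpush (CohB1.ProjSpace.toSpec n R)).obj (KoszOrthLib.OD n R 0) ≅
    DCoh.inD (Spec (CommRingCat.of R)) (Coh.structureModule (Spec (CommRingCat.of R)))) := by
  by_cases hn : n = 0
  · obtain ⟨e⟩ := nonempty_rpush_dual n R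
    obtain ⟨c⟩ := nonempty_twist_P0 n R hn
    let a : KoszOrthLib.OD n R 0 ≅ (KoszOrthLib.OD n R (-((n : ℤ) + 1)))⟦(n : ℤ)⟧ :=
      (DerivedCategory.singleFunctor _ 0).mapIso c ≪≫ eqToIso (congrArg (KoszOrthLib.OD n R) (by omega)) ≪≫
        ((shiftFunctorZero' _ (n : ℤ) (by omega)).app _).symm
    exact ⟨(DCoh.Rpush (CohB1.ProjSpace.toSpec n R)).mapIso a ≪≫ e⟩
  obtain ⟨hp, -, -⟩ := KoszOrthLib.projSpace_hyps n R
  haveI := hp
  haveI : IsGrothendieckAbelian.{u} (Scheme.Modules.{u} (CohB1.ProjSpace n R)) :=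
    inferInstanceAs (IsGrothendieckAbelian.{u} (SheafOfModules.{u} (Scheme.ringCatSheaf (CohB1.ProjSpace n R))))
  let T := (DCoh.Rpush (CohB1.ProjSpace.toSpec n R)).obj (KoszOrthLib.OD n R 0)
  have hz : ∀ i : ℤ, i ≠ 0 → IsZero (DCoh.HD T i) := fun i hi => by
    by_cases hi' : i < 0
    · exact isZero_HD_rpush_OD_neg n R _ i hi'
    · obtain ⟨k, rfl⟩ : ∃ k : ℕ, i = (k : ℤ) := ⟨i.toNat, by omega⟩
      exact isZero_HD_rpush_OD n R _ k (PnCohLib.subsingleton_HH_twist (n := n) (R := R) _ k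
        (fun h => hi (by exact_mod_cast h.1)) (fun h => by omega))
  haveI : T.IsGE 0 := (DerivedCategory.isGE_iff _ _).2 fun i hi => hz i (by omega)
  haveI : T.IsLE 0 := (DerivedCategory.isLE_iff _ _).2 fun i hi => hz i (by omega)
  obtain ⟨e⟩ := DerLib.Devissage.nonempty_iso_single T 0
  obtain ⟨eH⟩ := KiehlLib.nonempty_HD_rpush_inD (CohB1.ProjSpace.toSpec n R) (Twist.twistProjSpace n R 0) 0
  obtain ⟨l⟩ : Nonempty (Coh.HH (CohB1.ProjSpace n R) (Twist.twistProjSpace n R 0) 0 ≃ₗ[R] R) := by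
    obtain ⟨e⟩ := PnCohLib.exists_HH_zero (n := n) (R := R) (by omega) 0
    letI := uniqueDeg n
    exact ⟨e.trans (Finsupp.LinearEquiv.finsuppUnique R R _)⟩
  obtain ⟨eO⟩ := nonempty_Rpush_iso_structure n R _ 0 l
  exact ⟨e ≪≫ (DerivedCategory.singleFunctor _ 0).mapIso (eH ≪≫ eO)⟩

omit [DCoh.HasRpush (CohB1.ProjSpace.toSpec n R)] in
/-- Endomorphisms of the structure sheaf in degree zero commute. -/
theorem end_comm (a b : DCoh.inD (Spec (CommRingCat.of R)) (Coh.structureModule (Spec (CommRingCat.of R))) ⟶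
    DCoh.inD (Spec (CommRingCat.of R)) (Coh.structureModule (Spec (CommRingCat.of R)))) : a ≫ b = b ≫ a := by
  let T : ModuleCat.{u} R ⥤ DCoh.D (Spec (CommRingCat.of R)) :=
    tilde.functor (CommRingCat.of R) ⋙ DerivedCategory.singleFunctor _ 0
  let e : T.obj (ModuleCat.of R R) ≅
      DCoh.inD (Spec (CommRingCat.of R)) (Coh.structureModule (Spec (CommRingCat.of R))) :=
    (DerivedCategory.singleFunctor _ 0).mapIso tildeSelf
  haveI := (tilde.fullyFaithfulFunctor (R := CommRingCat.of R)).full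
  obtain ⟨a', ha⟩ := (DerivedCategory.singleFunctor _ 0).map_surjective (e.hom ≫ a ≫ e.inv)
  obtain ⟨b', hb⟩ := (DerivedCategory.singleFunctor _ 0).map_surjective (e.hom ≫ b ≫ e.inv)
  obtain ⟨α, hα⟩ := (tilde.functor (CommRingCat.of R)).map_surjective a'
  obtain ⟨β, hβ⟩ := (tilde.functor (CommRingCat.of R)).map_surjective b'
  have hαβ : α ≫ β = β ≫ α := by
    refine ModuleCat.hom_ext (LinearMap.ext_ring ?_)
    have h : ∀ (f : R →ₗ[R] R) (x : R), f x = x * f 1 := fun f x => by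
      rw [← smul_eq_mul, ← f.map_smul, smul_eq_mul, mul_one]
    show β.hom (α.hom 1) = α.hom (β.hom 1)
    exact (h β.hom (α.hom 1)).trans ((mul_comm _ _).trans (h α.hom (β.hom 1)).symm)
  rw [← cancel_epi e.hom, ← cancel_mono e.inv]
  simp only [Category.assoc]
  calc e.hom ≫ a ≫ b ≫ e.inv = (e.hom ≫ a ≫ e.inv) ≫ (e.hom ≫ b ≫ e.inv) := by simp
    _ = T.map (α ≫ β) := by rw [T.map_comp, ← ha, ← hb, ← hα, ← hβ]; rfl
    _ = (e.hom ≫ b ≫ e.inv) ≫ (e.hom ≫ a ≫ e.inv) := by rw [hαβ, T.map_comp, ← ha, ← hb, ← hα, ← hβ]; rfl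
    _ = e.hom ≫ b ≫ a ≫ e.inv := by simp

/-- On maps out of shifts of the structure sheaf, `Rπ_*` is bijective. -/
theorem bijective_rpush_unit (s : ℤ) (B : DCoh.D (CohB1.ProjSpace n R)) :
    Function.Bijective ((DCoh.Rpush (CohB1.ProjSpace.toSpec n R)).map : ((KoszOrthLib.OD n R 0)⟦s⟧ ⟶ B) → _) := by
  obtain ⟨hp, -, -⟩ := KoszOrthLib.projSpace_hyps n R
  haveI := hp
  obtain ⟨_, _⟩ := QRlimLib.exists_isTriangulated_rpush (CohB1.ProjSpace.toSpec n R)
  obtain ⟨η, hη⟩ := KoszOrthLib.exists_unit_rpush (CohB1.ProjSpace.toSpec n R)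
  obtain ⟨c₀⟩ := PicPnLib.twist_zero n R
  let c : KoszOrthLib.OD n R 0 ≅ DCoh.inD (CohB1.ProjSpace n R) (Coh.structureModule (CohB1.ProjSpace n R)) := (DerivedCategory.singleFunctor _ 0).mapIso c₀
  let η' := η ≫ (DCoh.Rpush (CohB1.ProjSpace.toSpec n R)).map c.inv
  have hη' : ∀ E : DCoh.D (CohB1.ProjSpace n R), Function.Bijective fun φ : KoszOrthLib.OD n R 0 ⟶ E => η' ≫ (DCoh.Rpush (CohB1.ProjSpace.toSpec n R)).map φ := by
    intro E
    have heq : (fun φ : KoszOrthLib.OD n R 0 ⟶ E => η' ≫ (DCoh.Rpush (CohB1.ProjSpace.toSpec n R)).map φ) =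
        (fun ψ => η ≫ (DCoh.Rpush (CohB1.ProjSpace.toSpec n R)).map ψ) ∘ (fun φ => c.symm.hom ≫ φ) := funext fun φ => by simp [η']
    rw [heq]
    exact (hη E).comp (KoszOrthLib.bijective_iso_comp c.symm E)
  obtain ⟨e⟩ := nonempty_rpush_unit n R
  obtain ⟨φ, hφ⟩ := (hη' _).2 e.inv
  have h1 : (η' ≫ e.hom) ≫ (e.inv ≫ (DCoh.Rpush (CohB1.ProjSpace.toSpec n R)).map φ ≫ e.hom) = 𝟙 _ := by
    simp only [Category.assoc, Iso.hom_inv_id_assoc]
    refine (Category.assoc _ _ _).symm.trans ((congrArg (· ≫ e.hom) hφ).trans e.inv_hom_id)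
  haveI : IsIso (η' ≫ e.hom) := ⟨_, h1, (end_comm R _ _).trans h1⟩
  haveI : IsIso η' := IsIso.of_isIso_comp_right η' e.hom
  refine bijective_map_shift (DCoh.Rpush (CohB1.ProjSpace.toSpec n R)) _ s (fun E => ?_) B
  exact (Function.Bijective.of_comp_iff' (g := (DCoh.Rpush (CohB1.ProjSpace.toSpec n R)).map)
    (KoszOrthLib.bijective_iso_comp (asIso η') ((DCoh.Rpush (CohB1.ProjSpace.toSpec n R)).obj E))).1 (hη' E)

/-- `O(-n-1)[n]` corepresents maps into the structure sheaf after `Rπ_*`. -/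
theorem main (h : ∀ K : DCoh.D (CohB1.ProjSpace n R), DCoh.IsQCohD K → DCoh.IsQCohD ((DCoh.Rpush (CohB1.ProjSpace.toSpec n R)).obj K))
    (a : DCoh.DQCoh (Spec (CommRingCat.of R)) ⥤ DCoh.DQCoh (CohB1.ProjSpace n R))
    (adj : (ObjectProperty.lift DCoh.IsQCohD (ObjectProperty.ι DCoh.IsQCohD ⋙ DCoh.Rpush (CohB1.ProjSpace.toSpec n R))
      (fun K => h K.obj K.property)) ⊣ a)
    (O : DCoh.DQCoh (Spec (CommRingCat.of R)))
    (hO : Nonempty (O.obj ≅ DCoh.inD (Spec (CommRingCat.of R)) (Coh.structureModule (Spec (CommRingCat.of R))))) :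
    Nonempty ((a.obj O).obj ≅ (KoszOrthLib.OD n R (-((n : ℤ) + 1)))⟦(n : ℤ)⟧) := by
  obtain ⟨hp, -, -⟩ := KoszOrthLib.projSpace_hyps n R
  haveI := hp
  obtain ⟨_, _⟩ := QRlimLib.exists_isTriangulated_rpush (CohB1.ProjSpace.toSpec n R)
  obtain ⟨eO⟩ := hO
  obtain ⟨t⟩ := nonempty_rpush_dual n R
  have hq : ∀ d : ℤ, DCoh.IsQCohD (KoszOrthLib.OD n R d) := fun d =>
    KiehlLib.isQCohD_single _ (TwistLib.isQCoh_of_isInvertible (PicPnLib.twist_inv n R d)) 0
  have hqs : ∀ (d s : ℤ), DCoh.IsQCohD ((KoszOrthLib.OD n R d)⟦s⟧) := fun d s =>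
    ObjectProperty.le_shift DCoh.IsQCohD s _ (hq d)
  let M := (KoszOrthLib.OD n R (-((n : ℤ) + 1)))⟦(n : ℤ)⟧
  let M₀ : DCoh.DQCoh (CohB1.ProjSpace n R) := ⟨M, hqs _ _⟩
  let τ₀ : (DCoh.Rpush (CohB1.ProjSpace.toSpec n R)).obj M ≅ O.obj := t ≪≫ eO.symm
  let τ : (ObjectProperty.lift DCoh.IsQCohD (ObjectProperty.ι DCoh.IsQCohD ⋙ DCoh.Rpush (CohB1.ProjSpace.toSpec n R))
      (fun K => h K.obj K.property)).obj M₀ ⟶ O := ObjectProperty.homMk τ₀.hom
  let ψ := (adj.homEquiv M₀ O τ).hom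
  have key : ∀ (d : ℕ), d ≤ n → ∀ s : ℤ,
      Function.Bijective fun g : (KoszOrthLib.OD n R (-(d : ℤ)))⟦s⟧ ⟶ M => g ≫ ψ := by
    intro d hd s
    have hb : Function.Bijective fun g : (KoszOrthLib.OD n R (-(d : ℤ)))⟦s⟧ ⟶ M =>
        (DCoh.Rpush (CohB1.ProjSpace.toSpec n R)).map g ≫ τ₀.hom := by
      suffices Function.Bijective ((DCoh.Rpush (CohB1.ProjSpace.toSpec n R)).map :
          ((KoszOrthLib.OD n R (-(d : ℤ)))⟦s⟧ ⟶ M) → _) by
        have heq : (fun g : (KoszOrthLib.OD n R (-(d : ℤ)))⟦s⟧ ⟶ M =>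
            (DCoh.Rpush (CohB1.ProjSpace.toSpec n R)).map g ≫ τ₀.hom) =
            (Iso.homCongr (Iso.refl _) τ₀) ∘ (DCoh.Rpush (CohB1.ProjSpace.toSpec n R)).map :=
          funext fun g => (Category.id_comp _).symm
        rw [heq]
        exact (Equiv.bijective _).comp this
      rcases Nat.eq_zero_or_pos d with rfl | hd0
      · exact bijective_rpush_unit n R s M
      have hz : IsZero ((DCoh.Rpush (CohB1.ProjSpace.toSpec n R)).obj ((KoszOrthLib.OD n R (-(d : ℤ)))⟦s⟧)) :=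
        ((shiftFunctor _ s).map_isZero (isZero_rpush_OD n R _ (by omega) (by omega))).of_iso
          (((DCoh.Rpush (CohB1.ProjSpace.toSpec n R)).commShiftIso s).app _)
      refine ⟨fun g g' _ => ?_, fun y => ⟨0, hz.eq_of_src _ _⟩⟩
      have h0 : ∀ g : (KoszOrthLib.OD n R (-(d : ℤ)))⟦s⟧ ⟶ M, g = 0 :=
        (KoszOrthLib.forall_shift_iff _ _ s (-s) (by omega)).2 fun φ => zero_of_comp_mono
          ((shiftFunctorAdd' (DCoh.D (CohB1.ProjSpace n R)) (n : ℤ) (-s) _ rfl).app _).inv (hom_OD_eq_zero n R d hd0 hd _ _)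
      rw [h0 g, h0 g']
    let G₀ : DCoh.DQCoh (CohB1.ProjSpace n R) := ⟨(KoszOrthLib.OD n R (-(d : ℤ)))⟦s⟧, hqs _ _⟩
    have heq : (fun g : (KoszOrthLib.OD n R (-(d : ℤ)))⟦s⟧ ⟶ M => g ≫ ψ) =
        (fun φ : G₀ ⟶ a.obj O => φ.hom) ∘ (adj.homEquiv G₀ O) ∘ (fun y => ObjectProperty.homMk y) ∘
          (fun g => (DCoh.Rpush (CohB1.ProjSpace.toSpec n R)).map g ≫ τ₀.hom) :=
      funext fun g => (congrArg (fun φ : G₀ ⟶ a.obj O => φ.hom)
        (adj.homEquiv_naturality_left (ObjectProperty.homMk g : G₀ ⟶ M₀) τ)).symm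
    rw [heq]
    exact (ObjectProperty.fullyFaithfulι _).homEquiv.bijective.comp ((adj.homEquiv G₀ O).bijective.comp
      ((ObjectProperty.fullyFaithfulι _).homEquiv.symm.bijective.comp hb))
  obtain ⟨C, g, δ, hT⟩ := distinguished_cocone_triangle ψ
  have hC : DCoh.IsQCohD C :=
    (DCoh.IsQCohD (X := (CohB1.ProjSpace n R))).ext_of_isTriangulatedClosed₃ _ hT M₀.property (a.obj O).property
  have hz : IsZero C := KoszOrthLib.isZero_of_orth_twists n R C hC fun d hd m =>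
    (KoszOrthLib.forall_shift_iff _ C (-m) m (by omega)).1 fun φ => by
      have hd0 : φ ≫ δ = 0 := by
        obtain ⟨y, hy⟩ := (shiftFunctor (DCoh.D (CohB1.ProjSpace n R)) (1 : ℤ)).map_surjective
          (((shiftFunctorAdd' (DCoh.D (CohB1.ProjSpace n R)) (-m - 1) (1 : ℤ) (-m) (by omega)).app (KoszOrthLib.OD n R (-(d : ℤ)))).inv ≫ φ ≫ δ)
        have hy0 : y = 0 := by
          apply (key d hd (-m - 1)).1
          apply (shiftFunctor (DCoh.D (CohB1.ProjSpace n R)) (1 : ℤ)).map_injective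
          simp only [Functor.map_comp, zero_comp, Functor.map_zero]
          rw [hy]
          simp only [Category.assoc]
          exact (congrArg (_ ≫ ·) ((congrArg (φ ≫ ·) (comp_distTriang_mor_zero₃₁ _ hT)).trans comp_zero)).trans comp_zero
        rw [hy0, Functor.map_zero] at hy
        exact zero_of_epi_comp _ hy.symm
      obtain ⟨x, hx⟩ := Triangle.coyoneda_exact₃ _ hT φ hd0
      obtain ⟨z, hz⟩ := (key d hd (-m)).2 x
      rw [hx, ← hz]
      exact (Category.assoc _ _ _).trans ((congrArg (z ≫ ·) (comp_distTriang_mor_zero₁₂ _ hT)).trans comp_zero)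
  haveI : IsIso ψ := ((Triangle.mk ψ g δ).isZero₃_iff_isIso₁ hT).1 hz
  exact ⟨(asIso ψ).symm⟩

end Groth.Agent.PnDualLib
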