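import Groth.Agent.PnDualLib.Pair

/-!
# The pairing is perfect on coherent modules
-/

set_option autoImplicit false
set_option linter.unusedSectionVars false
set_option linter.style.haveILetI false
set_option maxHeartbeats 800000
set_option backward.isDefEq.respectTransparency false
set_option backward.isDefEq.respectTransparency.types false
universe u

open CategoryTheory CategoryTheory.Limits AlgebraicGeometry TopologicalSpace Opposite

noncomputable section

namespace PnDualLib

section Gen

variable {X : Scheme.{u}} {k : Type u} [Field k] [X.Over (Spec (CommRingCat.of k))]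

theorem bijective_pair_biproduct {ω : X.Modules} {p : ℕ} (t : Coh.HH X ω p →ₗ[k] k) {r : ℕ} (M : Fin r → X.Modules)
    (h : ∀ j, Function.Bijective (pair t (M j))) : Function.Bijective (pair t (⨁ M)) := by
  classical
  constructor
  · intro a b hab
    refine biproduct.hom_ext' _ _ fun j => (h j).1 (LinearMap.ext fun x => ?_)
    rw [pair_comp, pair_comp, hab]
  · intro ψ
    choose φ hφ using fun j => (h j).2 (ψ.comp (CurvLib.hMap (k := k) (biproduct.ι M j) p))
    refine ⟨biproduct.desc φ, LinearMap.ext fun x => ?_⟩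
    have hx := PnCohLib.hMap_sum_components (k := k) M (𝟭 X.Modules) p x
    simp only [Functor.id_map] at hx
    rw [hx, map_sum, map_sum]
    refine Finset.sum_congr rfl fun j _ => ?_
    refine (pair_comp t (biproduct.ι M j) (biproduct.desc φ) _).symm.trans ?_
    exact LinearMap.congr_fun ((congrArg (pair t (M j)) (biproduct.ι_desc φ j)).trans (hφ j)) _

/-- The pairing passes to cokernels. -/
theorem bijective_pair_of_presentation {ω : X.Modules} {p : ℕ} (t : Coh.HH X ω p →ₗ[k] k)
    {A B F : X.Modules} (f : A ⟶ B) (g : B ⟶ F) [Epi g] (q : A ⟶ kernel g) [Epi q] (hq : q ≫ kernel.ι g = f)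
    (hsurj : Function.Surjective (CurvLib.hMap (k := k) g p))
    (hA : Function.Bijective (pair t A)) (hB : Function.Bijective (pair t B)) :
    Function.Bijective (pair t F) := by
  constructor
  · intro a b hab
    rw [← cancel_epi g]
    refine hB.1 (LinearMap.ext fun x => ?_)
    rw [pair_comp, pair_comp, hab]
  · intro ψ
    obtain ⟨φ, hφ⟩ := hB.2 (ψ.comp (CurvLib.hMap (k := k) g p))
    have h0 : f ≫ φ = 0 := hA.1 (LinearMap.ext fun x => by
      rw [pair_comp, hφ, LinearMap.comp_apply, ← CurvLib.hMap_comp,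
        show f ≫ g = 0 by rw [← hq, Category.assoc, kernel.condition, comp_zero], PnCohLib.hMap_zero, map_zero,
        map_zero]
      rfl)
    have h1 : kernel.ι g ≫ φ = 0 := (cancel_epi q).1 (by rw [← Category.assoc, hq, h0, comp_zero])
    refine ⟨Abelian.epiDesc g φ h1, LinearMap.ext fun y => ?_⟩
    obtain ⟨x, rfl⟩ := hsurj y
    rw [← pair_comp, Abelian.comp_epiDesc, hφ]
    rfl

end Gen

variable (k : Type u) [Field k] (n : ℕ)

local notation "ℙ" => CohB1.ProjSpace n k
local notation "O'" => Twist.twistProjSpace n k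
local notation "ω'" => Twist.twistProjSpace n k (-((n : ℤ) + 1))

/-- The sum of `b` copies of `O(-N)`. -/
abbrev neg (N b : ℕ) : (CohB1.ProjSpace n k).Modules := ∐ fun _ : Fin b => Twist.twistProjSpace n k (-(N : ℤ))

theorem isCoh_neg (N b : ℕ) : Coh.IsCoh (neg k n N b) := PnCohLib.isCoh_sigma k _ b

/-- A coherent module is a quotient of a sum of copies of one very negative twist. -/
theorem exists_neg_epi (F : (CohB1.ProjSpace n k).Modules) (hF : Coh.IsCoh F) (N₀ : ℕ) :
    ∃ (N b : ℕ) (g : neg k n N b ⟶ F), N₀ ≤ N ∧ Epi g ∧ Coh.IsCoh (kernel g) := by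
  haveI := PnCohLib.isLocallyNoetherian_projSpace (n := n) k
  obtain ⟨m₀, hm⟩ := PnCohLib.exists_regular k F hF
  obtain ⟨b, φ, hφ, -⟩ := PnCohLib.exists_step k F hF ((max m₀.toNat N₀ : ℕ) : ℤ)
    (hm _ (le_trans m₀.self_le_toNat (by exact_mod_cast le_max_left _ _)))
  exact ⟨max m₀.toNat N₀, b, φ, le_max_right _ _, hφ, QCohLib.isCoh_kernel φ (isCoh_neg k n _ b) hF.1⟩

theorem subsingleton_HH_above (F : (CohB1.ProjSpace n k).Modules) (p : ℕ) (hp : n < p) :
    Subsingleton (Coh.HH ℙ F p) := by
  haveI : IsProper (ℙ ↘ Spec (CommRingCat.of k)) := ProjDegLib.toSpec_isProper k n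
  haveI := CurvLib.isNoetherian k (X := ℙ)
  exact CurvLib.subsingleton_HH_of_dim_le F (GenusZeroLib.dim_projSpace k n).le p hp

theorem pair_bijective_neg (N b : ℕ) (hN : n + 1 ≤ N) : Function.Bijective (θ k n (neg k n N b)) :=
  bijective_pair_of_iso _ (biproduct.isoCoproduct fun _ : Fin b => O' (-(N : ℤ)))
    (bijective_pair_biproduct _ _ fun _ => pair_bijective_twist k n _ (by omega))

/-- **`O(-n-1)` is dualizing.** -/
theorem pair_bijective (F : (CohB1.ProjSpace n k).Modules) (hF : Coh.IsCoh F) : Function.Bijective (θ k n F) := by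
  obtain ⟨N, b, g, hN, hg, hK⟩ := exists_neg_epi k n F hF (n + 1)
  obtain ⟨N', b', q, hN', hq, -⟩ := exists_neg_epi k n (kernel g) hK (n + 1)
  refine bijective_pair_of_presentation _ (q ≫ kernel.ι g) g q rfl ?_ (pair_bijective_neg k n N' b' hN')
    (pair_bijective_neg k n N b hN)
  let S : ShortComplex (CohB1.ProjSpace n k).Modules := ShortComplex.mk (kernel.ι g) g (kernel.condition g)
  have hS : S.ShortExact := ShortComplex.ShortExact.mk (ShortComplex.exact_kernel g)
  intro y
  exact (CurvLib.exact₃ (k := k) hS n).ge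
    (show y ∈ _ from (subsingleton_HH_above k n (kernel g) (n + 1) (by omega)).elim _ _)

end PnDualLib
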